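import Cfsg.Agent.Lib.Spor.SchurCert.ActBridge
import Cfsg.Agent.Lib.Spor.Ru.ActR.Data
import Cfsg.Agent.Lib.Spor.RuOut.ChainY
import Cfsg.Agent.Lib.Spor.SchurCert.LinPacked

/-!
The certificate at the prime 3: a polycyclic sequence of a Sylow subgroup and conjugations killing the tails.
-/

set_option autoImplicit false
set_option maxRecDepth 100000
set_option maxHeartbeats 0
set_option Elab.async false

namespace CfsgLib.Spor.RuMult.P3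

open CfsgLib.Spor.TC CfsgLib.Spor.ActCert CfsgLib.Spor.SchurCert

/-- The Sylow elements. -/
def sw : List (List ℕ) := [
    [10, 19, 7, 20, 24, 20, 19, 25, 20, 30, 24, 20, 29],
    [9, 8, 21, 4, 24, 29, 20, 18, 18, 29, 30, 24, 30, 29, 29],
    [26, 5, 4, 30, 20, 24, 19, 27, 30, 31, 31]]

/-- The conjugating elements. -/
def gw : List (List ℕ) := [
    [21, 9, 24, 9, 30, 27, 31, 19, 25, 31, 25, 20, 20, 29, 25, 29],
    [6, 9, 23, 17, 20, 18, 29, 24, 18, 31, 29, 20, 20, 20],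
    [6, 9, 23, 17, 29, 20, 19, 19, 18, 29, 20, 20, 20, 20, 29, 25, 29],
    [8, 14, 17, 31, 31, 25, 19, 18, 29, 20, 20, 20, 25, 29, 29]]

/-- The certificate. -/
def cert : SchurCert.Cert where
  p := 3
  m := 3
  N := 3
  rules := [
    ([0, 0, 0], []),
    ([1, 1, 1], []),
    ([2, 2, 2], []),
    ([1, 0], [0, 1, 2, 2]),
    ([2, 0], [0, 2]),
    ([2, 1], [1, 2])]
  maps := [
    [([0, 1, 1, 2, 2], [0, 0, 1, 2, 2])],
    [([0, 2, 2], [0, 0, 2])],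
    [([0, 1, 2, 2], [0, 0, 1, 1])],
    [([0, 1, 1], [0, 0, 1, 2]), ([2], [0, 0, 1, 2, 2])]]
  overlaps := [
    ([1, 1, 1, 0], [(1, 0)], [(3, 2), (3, 1), (3, 0), (5, 3), (5, 2), (2, 3), (5, 3), (1, 1), (2, 1)])]
  fuses := [
    ⟨0, [0, 0, 0], [], [(4, 4), (4, 3), (3, 2), (3, 1), (5, 4), (5, 3), (2, 4), (2, 4), (1, 2), (4, 4), (4, 3), (3, 2), (0, 0), (2, 1), (5, 1), (5, 2), (1, 0), (2, 0)], [], [(4, 4), (4, 3), (3, 2), (0, 0), (2, 1), (4, 1), (3, 0), (2, 2), (4, 4), (4, 3), (3, 2), (3, 1), (5, 4), (5, 3), (2, 4), (2, 4), (3, 3), (3, 2), (0, 0), (5, 2), (5, 1), (2, 2), (5, 2), (1, 0), (2, 0)], []⟩,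
    ⟨1, [0, 0, 0], [], [(4, 2), (4, 1), (2, 2), (4, 2), (0, 0), (2, 0)], [], [(4, 2), (0, 0), (4, 0), (4, 2), (4, 1), (4, 3), (4, 2), (0, 0), (2, 0)], []⟩,
    ⟨2, [0, 0, 0], [], [(4, 3), (4, 2), (3, 1), (2, 3), (5, 3), (2, 4), (3, 3), (3, 2), (0, 0), (5, 2), (5, 1), (2, 2), (5, 2), (1, 0), (2, 0)], [], [(3, 3), (3, 2), (0, 0), (5, 2), (5, 1), (2, 2), (4, 2), (3, 1), (3, 0), (5, 3), (5, 2), (2, 3), (5, 4), (5, 3), (1, 1), (5, 2), (5, 1), (4, 3), (4, 2), (3, 1), (2, 3), (4, 3), (3, 2), (0, 0), (2, 1), (1, 0)], []⟩,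
    ⟨3, [1, 0], [0, 1], [(4, 0), (5, 1), (5, 2)], [], [(4, 4), (4, 3), (3, 2), (0, 0), (2, 1), (4, 1), (3, 0), (2, 2)], [(4, 3), (3, 2), (0, 0), (2, 1), (3, 0), (5, 3), (5, 2), (2, 3)]⟩]
  adj := [
    [],
    [],
    [(3, 2)]]
  base := []
  dense := [
    [0, 0, 1],
    [2, 1, 1, 0, 2, 2],
    [2, 0, 1],
    [2, 2, 0, 0, 1, 2],
    [0, 0, 0, 0, 2, 1]]
  tgt := [
    ([], [(0, 1), (2, 2)]),
    ([], [(0, 2), (2, 1), (3, 2), (4, 2)]),
    ([], [(0, 1)]),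
    ([], []),
    ([], [(0, 1), (1, 1), (2, 1), (3, 1), (4, 2)]),
    ([], [(0, 1), (1, 1), (2, 1), (3, 1)])]

/-- Orbits inside the subgroup. -/
def orbits : List (ℕ × List (ℕ × List ℕ)) := [
    (0, [(0, []), (128, [0, 0, 1, 2, 2]), (162, [1, 1, 2]), (264, [0, 0, 2, 2]), (395, [0, 0, 1, 1, 2, 2]), (444, [0, 0]), (465, [2]), (683, [0, 1, 1, 2, 2]), (806, [2, 2]), (1005, [0, 0, 1]), (1261, [1, 2, 2]), (1519, [0, 1, 1, 2]), (1800, [0, 2]), (1812, [0, 0, 2]), (2183, [0, 1, 1]), (2444, [0, 2, 2]), (2553, [0, 1, 2, 2]), (2878, [1, 1, 2, 2]), (2993, [0]), (3066, [0, 1, 2]), (3112, [1]), (3641, [0, 0, 1, 1]), (3714, [1, 2]), (3720, [0, 0, 1, 2]), (3770, [1, 1]), (3839, [0, 0, 1, 1, 2]), (4004, [0, 1])])]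

theorem ident_ok : identOK CfsgLib.Spor.Ru.ActR.act cert sw gw CfsgLib.Spor.RuOut.levY = true := by decide +kernel

theorem sub_ok : subChainOK CfsgLib.Spor.Ru.ActR.act sw [] orbits = true := by decide +kernel

theorem shape_ok : cert.shapeOK = true := by decide +kernel

theorem lin_ok : cert.linOK = true := Packed.linOK_of_linP cert (by decide +kernel)

theorem prod_ok : cert.p ^ cert.m ≤ (orbits.map fun e => e.2.length).prod := by decide +kernel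

end CfsgLib.Spor.RuMult.P3
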