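import Cfsg.Agent.Lib.Spor.SchurCert.ActBridge
import Cfsg.Agent.Lib.Spor.Ru.ActR.Data
import Cfsg.Agent.Lib.Spor.RuOut.ChainY
import Cfsg.Agent.Lib.Spor.SchurCert.LinPacked

/-!
The certificate at the prime 5: a polycyclic sequence of a Sylow subgroup and conjugations killing the tails.
-/

set_option autoImplicit false
set_option maxRecDepth 100000
set_option maxHeartbeats 0
set_option Elab.async false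

namespace CfsgLib.Spor.RuMult.P5

open CfsgLib.Spor.TC CfsgLib.Spor.ActCert CfsgLib.Spor.SchurCert

/-- The Sylow elements. -/
def sw : List (List ℕ) := [
    [16, 9, 21, 6, 4, 27, 18, 27, 18, 31, 30, 25, 20, 29, 25],
    [7, 12, 21, 4, 25, 19, 27, 18, 25, 24, 20, 25, 29],
    [3, 16, 17, 24, 31, 31, 18, 18, 24, 30, 25, 20, 25]]

/-- The conjugating elements. -/
def gw : List (List ℕ) := [
    [17, 29, 5, 7, 30, 18, 31, 18, 31, 29, 20, 20, 20, 27, 30],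
    [22, 5, 5, 4, 27, 31, 18, 18, 20, 31, 29, 25],
    [4, 5, 22, 7, 27, 27, 25, 18, 30, 24, 30, 31]]

/-- The certificate. -/
def cert : SchurCert.Cert where
  p := 5
  m := 3
  N := 5
  rules := [
    ([0, 0, 0, 0, 0], []),
    ([1, 1, 1, 1, 1], []),
    ([2, 2, 2, 2, 2], []),
    ([1, 0], [0, 1, 2, 2, 2]),
    ([2, 0], [0, 2]),
    ([2, 1], [1, 2])]
  maps := [
    [([0], [1, 1]), ([1], [0, 0, 0, 2, 2]), ([2], [2, 2, 2, 2])],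
    [([0, 1, 1], [0, 0, 1, 1, 1, 1, 2])],
    [([0], [0, 0, 0]), ([2], [0, 0, 0, 0, 2])]]
  overlaps := [
    ([1, 1, 1, 1, 1, 0], [(1, 0)], [(3, 4), (3, 3), (3, 2), (3, 1), (3, 0), (5, 4), (5, 3), (5, 2), (2, 3), (5, 3), (5, 7), (5, 6), (5, 5), (5, 4), (2, 5), (5, 6), (5, 5), (1, 1), (2, 1)])]
  fuses := [
    ⟨0, [0, 0, 0, 0, 0], [], [(0, 0)], [], [(1, 0), (1, 0)], []⟩,
    ⟨0, [2, 0], [0, 2], [(4, 0)], [], [(5, 3), (5, 2), (5, 1), (5, 0), (5, 4), (5, 3), (5, 2), (5, 1)], []⟩,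
    ⟨1, [0, 0, 0, 0, 0], [], [(3, 2), (3, 1), (5, 5), (5, 4), (5, 3), (2, 4), (5, 4), (5, 5), (4, 6), (3, 5), (3, 4), (3, 3), (3, 2), (5, 6), (5, 5), (5, 4), (2, 5), (5, 5), (5, 9), (5, 8), (5, 7), (5, 6), (2, 7), (5, 9), (5, 8), (5, 7), (1, 3), (5, 5), (5, 4), (5, 3), (4, 6), (4, 5), (4, 4), (3, 3), (2, 5), (5, 5), (5, 6), (4, 7), (3, 6), (3, 5), (3, 4), (0, 0), (5, 3), (5, 2), (5, 1), (2, 2), (5, 2), (2, 3), (1, 0)], [], [(4, 6), (3, 5), (3, 4), (3, 3), (3, 2), (5, 6), (5, 5), (5, 4), (2, 5), (5, 5), (5, 9), (5, 8), (5, 7), (5, 6), (2, 7), (4, 9), (4, 8), (4, 7), (3, 6), (3, 5), (3, 4), (3, 3), (5, 7), (5, 6), (5, 5), (2, 6), (5, 6), (5, 10), (5, 9), (5, 8), (5, 7), (2, 8), (2, 8), (1, 4), (4, 7), (3, 6), (3, 5), (3, 4), (0, 0), (5, 3), (5, 2), (5, 1), (2, 2), (5, 2), (2, 3), (3, 2), (3, 1),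 (3, 0), (5, 4), (5, 3), (5, 2), (2, 3), (5, 3), (5, 7), (5, 6), (5, 5), (5, 4), (5, 8), (5, 7), (5, 6), (5, 5), (1, 1), (5, 4), (5, 3), (5, 2), (5, 1), (5, 5), (5, 4), (5, 3), (5, 2), (2, 3), (3, 2), (3, 1), (5, 5), (5, 4), (5, 3), (2, 4), (4, 4), (3, 3), (3, 2), (5, 6), (5, 5), (5, 4), (2, 5), (5, 6), (5, 5), (5, 7), (5, 6), (5, 8), (5, 7), (1, 3), (5, 4), (5, 3), (4, 6), (4, 5), (4, 4), (3, 3), (2, 5), (4, 5), (3, 4), (0, 0), (5, 4), (5, 3), (5, 2), (5, 1), (5, 5), (5, 4), (5, 3), (5, 2), (5, 6), (5, 5), (5, 4), (5, 3), (5, 7), (5, 6), (5, 5), (5, 4), (1, 0), (2, 0)], []⟩,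
    ⟨2, [1, 0], [0, 1], [(4, 0)], [], [(4, 4), (0, 0), (4, 0), (4, 1)], [(0, 0)]⟩]
  adj := [
    [],
    [],
    [(3, 2)]]
  base := []
  dense := [
    [0, 0, 2],
    [1, 3],
    [0, 0, 0, 0, 1, 2],
    [4, 3, 3],
    [0, 0, 0, 0, 3]]
  tgt := [
    ([], [(0, 2), (1, 3), (3, 2)]),
    ([], [(0, 1), (1, 1), (3, 1)]),
    ([], [(0, 3)]),
    ([], []),
    ([], [(4, 2)]),
    ([], [(2, 3), (4, 4)])]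

/-- Orbits inside the subgroup. -/
def orbits : List (ℕ × List (ℕ × List ℕ)) := [
    (0, [(0, []), (30, [0, 0, 0, 0, 1, 1, 1, 1, 2, 2, 2, 2]), (38, [1, 1, 1, 2, 2]), (70, [0, 0, 0, 0, 1, 1, 1, 1]), (91, [0, 0, 0, 0, 1, 1, 1, 1, 2]), (102, [0, 1, 1, 1, 1]), (103, [0, 0, 0, 0, 1, 2, 2, 2, 2]), (168, [1, 1, 1]), (186, [2, 2]), (202, [2, 2, 2, 2]), (208, [0, 0, 0, 0, 1, 1, 1, 1, 2, 2]), (238, [0, 1, 1, 1, 1, 2, 2, 2]), (239, [1, 1, 1, 1, 2, 2, 2, 2]), (264, [0, 0, 2, 2]), (280, [0, 0, 1, 1, 1, 1, 2, 2]), (287, [0, 0, 0, 0, 1, 1, 2, 2]), (293, [1, 1]), (295, [0, 0, 0, 2, 2]), (355, [0, 1, 1, 1, 2]), (500, [0, 1, 1, 2]), (519, [1, 1, 1, 1, 2]), (585, [0, 0, 0, 1, 1, 1, 2, 2, 2, 2]), (590, [0, 0, 1, 1, 1]), (616, [0, 1, 2, 2]), (639, [0, 0, 0, 0, 1, 2]), (643, [0, 0, 0, 1, 2, 2, 2]), (656, [0, 0, 1,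 1, 1, 1, 2]), (664, [0, 0, 2, 2, 2, 2]), (704, [0, 0, 2, 2, 2]), (707, [0, 0, 1, 1, 1, 1, 2, 2, 2]), (718, [0, 1, 1, 2, 2]), (751, [0, 0, 0, 2, 2, 2]), (786, [1, 1, 2, 2, 2]), (788, [0, 1, 1, 1, 2, 2, 2, 2]), (848, [0, 0, 0, 2, 2, 2, 2]), (986, [0, 0, 0, 1, 1, 1, 1, 2, 2, 2]), (1030, [0, 0, 0, 1, 1, 2, 2, 2, 2]), (1071, [0, 0, 1, 2, 2, 2]), (1114, [0, 0, 0, 0, 1, 2, 2, 2]), (1173, [0, 0, 0, 0, 1, 2, 2]), (1210, [0, 0, 1, 1, 2, 2, 2, 2]), (1217, [0, 1, 1]), (1232, [0, 0, 0, 1, 1, 1, 1, 2, 2, 2, 2]), (1286, [1]), (1328, [0, 0, 0, 0, 2, 2]), (1339, [0, 0, 0, 0, 1, 1, 1, 2, 2, 2, 2]), (1358, [0, 0, 0, 1, 1, 1]), (1396, [1, 1, 1, 2, 2, 2]), (1408, [0, 1, 1, 1, 1, 2, 2, 2, 2]), (1414, [0, 0, 0, 0, 2, 2, 2, 2]), (1473, [0, 0, 0, 0, 1, 1, 1, 2, 2]), (1484, [1, 1, 2, 2]), (1519, [0, 1, 1, 2, 2, 2]), (1551,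 [0, 0]), (1583, [1, 1, 1, 1]), (1595, [0, 0, 0, 0]), (1622, [1, 1, 2]), (1649, [0, 1, 2, 2, 2]), (1690, [0, 0, 0, 0, 1, 1, 2, 2, 2, 2]), (1699, [0, 1]), (1728, [0, 2, 2, 2, 2]), (1738, [0, 1, 2, 2, 2, 2]), (1743, [0, 0, 0, 0, 1, 1, 1, 2, 2, 2]), (1859, [2, 2, 2]), (1903, [0, 0, 0, 1, 1, 1, 2, 2]), (1919, [1, 1, 2, 2, 2, 2]), (1921, [0, 1, 1, 1, 2, 2]), (1956, [0, 0, 1, 1, 2, 2]), (1982, [0, 0, 0, 1, 1, 2]), (1996, [0, 0, 0, 2]), (2076, [0, 0, 1, 2, 2]), (2139, [0, 1, 2]), (2209, [0, 0, 1, 1, 1, 1, 2, 2, 2, 2]), (2231, [0, 1, 1, 1]), (2272, [0, 0, 0, 0, 1, 1, 1, 2]), (2314, [0, 2]), (2407, [0, 0, 2]), (2467, [0, 0, 0, 1, 1, 1, 2, 2, 2]), (2562, [2]), (2578, [1, 2, 2, 2, 2]), (2587, [0, 0, 1, 1, 1, 2, 2]), (2631, [0, 0, 0, 1, 1]), (2675, [0, 0, 0, 0, 1, 1]), (2717, [0, 0, 0, 0, 1]), (2732, [0, 0,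 0, 1, 1, 1, 1]), (2759, [0, 0, 0, 1]), (2761, [1, 2, 2]), (2769, [0, 0, 0, 0, 1, 1, 2, 2, 2]), (2784, [0, 0, 0, 0, 1, 1, 1]), (2819, [0, 0, 0, 1, 1, 2, 2, 2]), (2853, [0, 0, 0, 0, 2]), (2871, [0, 0, 0]), (2898, [0, 2, 2]), (2924, [0, 0, 1, 1, 1, 1]), (2975, [0, 0, 0, 1, 1, 1, 1, 2]), (3032, [1, 1, 1, 1, 2, 2, 2]), (3061, [0, 0, 0, 1, 2]), (3161, [0, 0, 1, 1]), (3212, [0, 0, 0, 1, 1, 2, 2]), (3232, [0, 1, 1, 1, 1, 2]), (3251, [0, 0, 1, 1, 1, 2]), (3302, [0, 1, 1, 2, 2, 2, 2]), (3335, [1, 1, 1, 2]), (3392, [0, 0, 1]), (3404, [0, 0, 0, 1, 2, 2]), (3413, [0, 2, 2, 2]), (3418, [1, 1, 1, 2, 2, 2, 2]), (3428, [1, 2, 2, 2]), (3488, [1, 2]), (3498, [0, 0, 1, 1, 1, 2, 2, 2]), (3540, [0, 1, 1, 1, 1, 2, 2]), (3612, [0, 0, 0, 0, 2, 2, 2]), (3664, [1, 1, 1, 1, 2, 2]), (3724, [0, 0, 0, 0, 1, 1, 2]), (3800, [0,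 0, 0, 1, 2, 2, 2, 2]), (3911, [0, 0, 1, 2]), (3913, [0, 0, 0, 0, 1, 1, 1, 1, 2, 2, 2]), (3916, [0, 0, 1, 1, 2]), (3944, [0, 0, 1, 2, 2, 2, 2]), (3947, [0, 0, 0, 1, 1, 1, 1, 2, 2]), (3950, [0, 0, 0, 1, 1, 1, 2]), (4003, [0, 1, 1, 1, 2, 2, 2]), (4014, [0]), (4035, [0, 0, 1, 1, 2, 2, 2]), (4043, [0, 0, 1, 1, 1, 2, 2, 2, 2])])]

theorem ident_ok : identOK CfsgLib.Spor.Ru.ActR.act cert sw gw CfsgLib.Spor.RuOut.levY = true := by decide +kernel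

theorem sub_ok : subChainOK CfsgLib.Spor.Ru.ActR.act sw [] orbits = true := by decide +kernel

theorem shape_ok : cert.shapeOK = true := by decide +kernel

theorem lin_ok : cert.linOK = true := Packed.linOK_of_linP cert (by decide +kernel)

theorem prod_ok : cert.p ^ cert.m ≤ (orbits.map fun e => e.2.length).prod := by decide +kernel

end CfsgLib.Spor.RuMult.P5
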