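import Cfsg.Agent.Lib.Spor.RuMult.P2
import Cfsg.Agent.Lib.Spor.RuMult.P3
import Cfsg.Agent.Lib.Spor.RuMult.P5
import Cfsg.Agent.Lib.Spor.RuLattice.Iso
import Cfsg.Agent.Lib.Spor.RuOut.Out
import Cfsg.Agent.Lib.Spor.Mults.Stem
import Cfsg.Agent.Lib.Lie.Mult.Sylow

/-!
The Schur multiplier of the Rudvalis group has order two: certificates at each prime, and the derived subgroup of
the automorphism group of the lattice, which contains the negative of the identity.
-/

set_option autoImplicit false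
set_option maxRecDepth 100000

namespace CfsgLib.Spor.RuMult

open Cfsg CfsgLib.Spor.TC CfsgLib.Spor.ActCert CfsgLib.Spor.SchurCert CfsgLib.Spor.RuLattice Cfsg.Spor
open scoped commutatorElement

local notation "P₅" => Pres CfsgLib.Spor.Ru.ActR.act.k CfsgLib.Spor.Ru.relsR

theorem factor_of {p a b : ℕ} (hp : p.Prime) (hb : ¬ p ∣ b) (e : (145926144000 : ℕ) = p ^ a * b) :
    (145926144000 : ℕ).factorization p = a := by
  have h0 : b ≠ 0 := by rintro rfl; simp at e
  rw [e, Nat.factorization_mul (pow_ne_zero _ hp.ne_zero) h0, Nat.factorization_pow, Finsupp.add_apply,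
    Finsupp.smul_apply, hp.factorization_self, Nat.factorization_eq_zero_of_not_dvd hb]
  simp

theorem card_ker_dvd {Γ : Type} [Group Γ] [Finite Γ] (σ : Γ →* P₅) (hσ : Cfsg.IsStemExtension σ) :
    Nat.card σ.ker ∣ 2 := by
  have hE := RuOut.exact_of RuOut.chainY_ok
  haveI : Finite P₅ := Nat.finite_of_card_ne_zero (by rw [Ru.card_r]; norm_num)
  haveI : Fact (Nat.Prime 2) := ⟨Nat.prime_two⟩
  refine card_ker_dvd_prime (fun ℓ hℓ hne => ?_) fun P hP hPp => ?_
  · haveI : Fact ℓ.Prime := ⟨hℓ⟩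
    by_cases h3 : ℓ = 3
    · subst h3
      haveI : Fact P3.cert.p.Prime := ⟨Nat.prime_three⟩
      exact not_dvd_ker_act hE P3.cert P3.sw P3.gw P3.orbits rfl rfl
        (by rw [Ru.card_r]; exact factor_of (p := 3) (a := 3) (b := 5404672000) (by norm_num) (by norm_num) (by norm_num))
        P3.ident_ok P3.sub_ok P3.prod_ok P3.shape_ok P3.lin_ok σ hσ
    by_cases h5 : ℓ = 5
    · subst h5
      haveI : Fact P5.cert.p.Prime := ⟨Nat.prime_five⟩
      exact not_dvd_ker_act hE P5.cert P5.sw P5.gw P5.orbits rfl rfl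
        (by rw [Ru.card_r]; exact factor_of (p := 5) (a := 3) (b := 1167409152) (by norm_num) (by norm_num) (by norm_num))
        P5.ident_ok P5.sub_ok P5.prod_ok P5.shape_ok P5.lin_ok σ hσ
    by_cases hd : ℓ ∣ Nat.card P₅
    · obtain ⟨g, hg⟩ := exists_prime_orderOf_dvd_card' ℓ hd
      refine Lie.Mult.not_dvd_ker_of_cyclic hσ (Subgroup.zpowers g) fun hi => ?_
      have h2 : ℓ ^ 2 ∣ Nat.card P₅ := by
        rw [← (Subgroup.zpowers g).card_mul_index, Nat.card_zpowers, hg, pow_two]
        exact mul_dvd_mul_left ℓ hi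
      rw [Ru.card_r, show (145926144000 : ℕ) = 2 ^ 14 * 3 ^ 3 * 5 ^ 3 * 2639 by norm_num] at h2
      have hc : ∀ q a : ℕ, q.Prime → ℓ ≠ q → Nat.Coprime (ℓ ^ 2) (q ^ a) := fun q a hq hn =>
        Nat.Coprime.pow _ _ ((Nat.coprime_primes hℓ hq).2 hn)
      have h4 : ℓ ^ 2 ∣ 2639 :=
        (((hc 2 14 Nat.prime_two hne).mul_right (hc 3 3 Nat.prime_three h3)).mul_right
          (hc 5 3 Nat.prime_five h5)).dvd_of_dvd_mul_left h2
      have hsq : Squarefree 2639 := by
        rw [show (2639 : ℕ) = 7 * (13 * 29) by norm_num, Nat.squarefree_mul (by norm_num),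
          Nat.squarefree_mul (by norm_num)]
        exact ⟨(by norm_num : Nat.Prime 7).squarefree, (by norm_num : Nat.Prime 13).squarefree,
          (by norm_num : Nat.Prime 29).squarefree⟩
      exact hℓ.not_isUnit (hsq ℓ (by rwa [← pow_two]))
    · exact Lie.Mult.not_dvd_ker_of_cyclic hσ ⊥ (by rwa [Subgroup.index_bot])
  · haveI : Fact P2.cert.p.Prime := ⟨Nat.prime_two⟩
    obtain ⟨hswl, -, hrules, hmaps, -⟩ := ident_facts (h := Ru.ActR.valid) hE P2.cert P2.sw P2.gw P2.ident_ok
    have hfac : (Nat.card P₅).factorization P2.cert.p = P2.cert.m := by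
      rw [Ru.card_r]
      exact factor_of (p := 2) (a := 14) (b := 8906625) Nat.prime_two (by norm_num) (by norm_num)
    exact pGroup_card_le P2.cert hσ (e := 2) rfl (by decide) _ _ hrules hmaps P2.shape_ok P2.lin_ok
      (card_lower Ru.ActR.valid inferInstance P2.cert P2.sw P2.orbits hswl P2.sub_ok P2.prod_ok)
      (index_coprime (h := Ru.ActR.valid) hE P2.cert P2.sw P2.orbits hswl hrules hfac P2.sub_ok P2.prod_ok
        P2.shape_ok) P hP hPp

theorem eq_neg_of_frame {r : Fin Ru.relsR.length} (hs : relNeg.getD r.1 false = true) :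
    ev genNat (powWord (Ru.relsR.getD r.1 ([], 0)).1 (Ru.relsR.getD r.1 ([], 0)).2) = negAut := by
  set u := ev genNat (powWord (Ru.relsR.getD r.1 ([], 0)).1 (Ru.relsR.getD r.1 ([], 0)).2) with hu
  have h : negAut * u = 1 := rigid _ fun i hi => Subtype.ext (flat_injective (by
    obtain ⟨h1, h2⟩ := rel_runs.2 r ⟨i, hi⟩
    show flat (-(u.1 (frameVec i))).1 = _
    rw [AddSubgroup.coe_neg, map_neg, hu, step_lt _ _ h1 (rels_letters r) _ (frameVec_val (by omega)),
      frameVec_val (by omega)]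
    funext k
    rw [Pi.neg_apply, h2 k, hs]
    simp))
  have h2 : negAut * negAut = 1 := Subtype.ext (Equiv.ext fun v => neg_neg v)
  exact mul_left_cancel (h.trans h2.symm)

theorem eq_one_of_frame {r : Fin Ru.relsR.length} (hs : relNeg.getD r.1 false = false) :
    ev genNat (powWord (Ru.relsR.getD r.1 ([], 0)).1 (Ru.relsR.getD r.1 ([], 0)).2) = 1 :=
  rigid _ fun i hi => Subtype.ext (flat_injective (by
    obtain ⟨h1, h2⟩ := rel_runs.2 r ⟨i, hi⟩
    rw [step_lt _ _ h1 (rels_letters r) _ (frameVec_val (by omega)), frameVec_val (by omega)]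
    funext k
    rw [h2 k, hs]
    simp))

theorem negAut_mem_commutator : negAut ∈ commutator fourRu := by
  have h1 : ev genNat [1, 3, 4, 3] ^ 3 = negAut := by
    rw [← ev_powWord]
    exact eq_neg_of_frame (r := ⟨8, by decide⟩) (by decide)
  have h2 : ev genNat [1, 3, 2, 3, 2, 4] ^ 15 = 1 := by
    rw [← ev_powWord]
    exact eq_one_of_frame (r := ⟨16, by decide⟩) (by decide)
  have e : Abelianization.of negAut = 1 := by
    set φ : fourRu →* Abelianization fourRu := Abelianization.of with hφ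
    have hsq : ∀ x, φ (genNat x) ^ 2 = 1 := fun x => by
      rw [pow_two, ← map_mul, genNat]
      split
      · rw [show genAut _ * genAut _ = (1 : fourRu) from Subtype.ext (Equiv.ext fun v => mapL_invol _ v), map_one]
      · rw [mul_one, map_one]
    have a := congrArg φ h1
    have b := congrArg φ h2
    simp only [ev, List.map_cons, List.map_nil, List.prod_cons, List.prod_nil, mul_one, map_pow, map_mul,
      map_one] at a b
    rw [← a]
    refine Eq.trans ?_ b
    have n1 : ∀ x, φ (genNat x) ^ 3 = φ (genNat x) := fun x => by rw [pow_succ, hsq, one_mul]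
    have n15 : ∀ x, φ (genNat x) ^ 15 = φ (genNat x) := fun x => by
      rw [show (15 : ℕ) = 2 * 7 + 1 by norm_num, pow_succ, pow_mul, hsq, one_pow, one_mul]
    simp only [mul_pow, n1, n15]
    have n0 : ∀ x, φ (genNat x) * φ (genNat x) = 1 := fun x => by rw [← pow_two, hsq]
    calc φ (genNat 1) * (φ (genNat 3) * (φ (genNat 4) * φ (genNat 3)))
        = φ (genNat 1) * φ (genNat 4) * (φ (genNat 3) * φ (genNat 3)) := by
          simp only [mul_comm, mul_left_comm]
      _ = φ (genNat 1) * φ (genNat 4) * ((φ (genNat 3) * φ (genNat 3)) * (φ (genNat 2) * φ (genNat 2))) := by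
          rw [n0 2, mul_one]
      _ = _ := by simp only [mul_comm, mul_left_comm]
  exact Abelianization.ker_of fourRu ▸ (MonoidHom.mem_ker.2 e)

theorem multiplier_Ru : Cfsg.HasCyclicSchurMultiplier Spor.Ru 2 := by
  haveI : Fact (Nat.Prime 2) := ⟨Nat.prime_two⟩
  obtain ⟨hc4, hRu, hsimple, ⟨e⟩⟩ := ru_facts
  haveI := hsimple
  haveI : Finite fourRu := Nat.finite_of_card_ne_zero card_fourRu_le.1
  let π : fourRu →* Spor.Ru := QuotientGroup.mk' (Subgroup.center fourRu)
  have hπ : Function.Surjective π := QuotientGroup.mk'_surjective _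
  let Γ := commutator fourRu
  have hG : commutator Spor.Ru = ⊤ := Mults.commutator_eq_top_of_simple (by
    by_contra hcomm
    push Not at hcomm
    letI : CommGroup Spor.Ru := { (inferInstance : Group Spor.Ru) with mul_comm := hcomm }
    have := IsSimpleGroup.prime_card (α := Spor.Ru)
    rw [hRu] at this
    norm_num at this)
  have hmap : (commutator fourRu).map π = ⊤ := by
    rw [commutator_def, Subgroup.map_commutator, Subgroup.map_top_of_surjective π hπ, ← commutator_def, hG]
  let σ : Γ →* Spor.Ru := π.comp Γ.subtype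
  have hσsur : Function.Surjective σ := fun q => by
    obtain ⟨c, hc, rfl⟩ : q ∈ (commutator fourRu).map π := by rw [hmap]; trivial
    exact ⟨⟨c, hc⟩, rfl⟩
  have hker : ∀ x : Γ, x ∈ σ.ker ↔ x.1 ∈ Subgroup.center fourRu := fun x => QuotientGroup.eq_one_iff _
  have hcen : σ.ker ≤ Subgroup.center Γ := fun x hx => Subgroup.mem_center_iff.2 fun y =>
    Subtype.ext (Subgroup.mem_center_iff.1 ((hker x).1 hx) y.1)
  -- the derived subgroup is perfect
  have hperf : commutator Γ = ⊤ := by
    refine Subgroup.map_injective Γ.subtype_injective ?_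
    rw [commutator_def, Subgroup.map_commutator, ← MonoidHom.range_eq_map, Subgroup.range_subtype]
    refine le_antisymm (Subgroup.commutator_mono le_top le_top) ?_
    show ⁅(⊤ : Subgroup fourRu), ⊤⁆ ≤ ⁅Γ, Γ⁆
    rw [Subgroup.commutator_le]
    intro a _ b _
    have hsplit : ∀ g : fourRu, ∃ c ∈ Γ, ∃ z ∈ Subgroup.center fourRu, g = c * z := fun g => by
      obtain ⟨c, hc, hcg⟩ : π g ∈ (commutator fourRu).map π := by rw [hmap]; trivial
      exact ⟨c, hc, c⁻¹ * g, (QuotientGroup.eq).1 hcg, (mul_inv_cancel_left c g).symm⟩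
    obtain ⟨c, hc, z, hz, rfl⟩ := hsplit a
    obtain ⟨d, hd, w, hw, rfl⟩ := hsplit b
    have e1 : ⁅c * z, d * w⁆ = ⁅c, d⁆ := by
      have z1 := Subgroup.mem_center_iff.1 hz
      have w1 := Subgroup.mem_center_iff.1 hw
      rw [commutatorElement_def, commutatorElement_def]
      calc c * z * (d * w) * (c * z)⁻¹ * (d * w)⁻¹ = c * (z * (d * w)) * (c * z)⁻¹ * (d * w)⁻¹ := by group
        _ = c * ((d * w) * z) * (c * z)⁻¹ * (d * w)⁻¹ := by rw [← z1 (d * w)]
        _ = c * d * (w * c⁻¹) * (d * w)⁻¹ := by group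
        _ = c * d * (c⁻¹ * w) * (d * w)⁻¹ := by rw [← w1 c⁻¹]
        _ = c * d * c⁻¹ * d⁻¹ := by group
    rw [e1]
    exact Subgroup.commutator_mem_commutator hc hd
  have hstem : Cfsg.IsStemExtension σ := ⟨hσsur, hcen, by rw [hperf]; exact le_top⟩
  -- the kernel has order two
  have hbound : ∀ (Δ : Type) [Group Δ] [Finite Δ] (τ : Δ →* Spor.Ru), Cfsg.IsStemExtension τ →
      Nat.card τ.ker ∣ 2 := fun Δ _ _ τ hτ => by
    have hk : (e.symm.toMonoidHom.comp τ).ker = τ.ker := MonoidHom.ker_comp_of_injective _ _ e.symm.injective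
    have := card_ker_dvd (e.symm.toMonoidHom.comp τ)
      ⟨e.symm.surjective.comp hτ.1, hk.le.trans hτ.2.1, hk.le.trans hτ.2.2⟩
    rwa [hk] at this
  refine hasCyclic_prime ⟨Γ, inferInstance, inferInstance, σ, hstem, ?_⟩ hbound
  refine le_antisymm (Nat.le_of_dvd (by norm_num) (hbound Γ σ hstem)) ?_
  let z : σ.ker := ⟨⟨negAut, negAut_mem_commutator⟩, (hker _).2 negAut_mem_center⟩
  haveI : Nontrivial σ.ker := ⟨⟨z, 1, fun h => negAut_ne_one (congrArg (fun q : σ.ker => q.1.1) h)⟩⟩
  exact Finite.one_lt_card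

end CfsgLib.Spor.RuMult
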