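import Cfsg.Agent.Lib.Spor.SchurCert.ActBridge
import Cfsg.Agent.Lib.Spor.Ru.ActR.Data
import Cfsg.Agent.Lib.Spor.RuOut.ChainY
import Cfsg.Agent.Lib.Spor.SchurCert.LinPacked

/-!
The certificate at the prime 2: a polycyclic sequence of a Sylow subgroup and conjugations killing the tails.
-/

set_option autoImplicit false
set_option maxRecDepth 100000
set_option maxHeartbeats 0
set_option Elab.async false

namespace CfsgLib.Spor.RuMult.P2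

open CfsgLib.Spor.TC CfsgLib.Spor.ActCert CfsgLib.Spor.SchurCert

/-- The Sylow elements. -/
def sw : List (List ℕ) := [
    [21, 23, 17, 31, 20, 25, 19, 24, 20, 27, 24, 29, 25, 29, 29],
    [9, 11, 21, 7, 29, 19, 19, 20, 18, 27, 25, 20, 30, 29, 29],
    [10, 19, 4, 25, 27, 20, 19, 19, 18, 24, 30, 29, 31, 30, 27, 29, 29],
    [1, 17, 10, 7, 25, 24, 30, 19, 18, 30, 20, 20, 25, 29],
    [15, 19, 7, 27, 24, 19, 29, 18, 24, 25, 31, 20, 20, 27],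
    [4, 2, 17, 24, 31, 19, 30, 19, 18, 31, 20, 20, 31, 27, 30],
    [22, 23, 17, 31, 30, 19, 19, 19, 29, 30, 20, 30, 20, 27, 29, 29],
    [13, 16, 5, 4, 18, 24, 20, 24, 18, 24, 24, 24, 20, 20, 29],
    [3, 1, 5, 4, 24, 18, 20, 24, 18, 20, 20, 20, 24, 29, 25, 29],
    [7, 3, 17, 24, 20, 19, 19, 18, 24, 31, 27, 24, 20, 29, 25],
    [24, 21, 17, 20, 24, 24, 18, 27, 25, 24, 20, 29, 25, 29],
    [14, 21, 17, 25, 31, 24, 19, 19, 18, 29, 31, 25, 20, 30, 25, 29, 29],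
    [7, 24, 7, 20, 18, 31, 24, 19, 20, 29, 20, 31, 29, 29],
    [0, 14, 4, 20, 31, 20, 19, 25, 31, 20, 24, 30, 27, 29]]

/-- The conjugating elements. -/
def gw : List (List ℕ) := [
    [4, 23, 26, 7, 31, 31, 29, 19, 18, 25, 20, 30, 25, 31, 29, 25],
    [14, 6, 18, 4, 18, 31, 18, 30, 27, 31, 27, 29, 29],
    [5, 13, 6, 4, 27, 24, 19, 29, 18, 27, 24, 27, 31, 20, 25, 29, 29],
    [17, 17, 9, 17, 29, 31, 25, 19, 30, 31, 30, 31, 30, 29]]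

/-- The certificate. -/
def cert : SchurCert.Cert where
  p := 2
  m := 14
  N := 4
  rules := [
    ([0, 0], [12, 13]),
    ([1, 1], [10, 13]),
    ([2, 2], [5, 8, 9, 10, 11]),
    ([3, 3], [6, 11, 13]),
    ([4, 4], [6, 7, 11, 12]),
    ([5, 5], [11, 13]),
    ([6, 6], [11]),
    ([7, 7], [13]),
    ([8, 8], [13]),
    ([9, 9], []),
    ([10, 10], []),
    ([11, 11], []),
    ([12, 12], []),
    ([13, 13], []),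
    ([1, 0], [0, 1, 2, 3, 5, 6, 8, 12]),
    ([2, 0], [0, 2, 5, 8, 9, 13]),
    ([2, 1], [1, 2, 4, 8, 11, 12]),
    ([3, 0], [0, 3, 5, 8, 9, 13]),
    ([3, 1], [1, 3, 4, 6, 7, 9, 10, 11, 12, 13]),
    ([3, 2], [2, 3, 5, 6, 8, 9, 10, 12, 13]),
    ([4, 0], [0, 4, 5, 6]),
    ([4, 1], [1, 4, 6, 7, 10, 11, 12, 13]),
    ([4, 2], [2, 4, 8, 9]),
    ([4, 3], [3, 4, 6, 7, 8, 11]),
    ([5, 0], [0, 5, 11, 12]),
    ([5, 1], [1, 5, 6, 7, 8, 12]),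
    ([5, 2], [2, 5, 9, 10]),
    ([5, 3], [3, 5, 9, 10, 13]),
    ([5, 4], [4, 5, 9, 11, 13]),
    ([6, 0], [0, 6, 11, 13]),
    ([6, 1], [1, 6, 8, 11, 13]),
    ([6, 2], [2, 6, 11]),
    ([6, 3], [3, 6]),
    ([6, 4], [4, 6, 9, 11, 12, 13]),
    ([6, 5], [5, 6, 12]),
    ([7, 0], [0, 7, 11, 13]),
    ([7, 1], [1, 7, 8, 11]),
    ([7, 2], [2, 7, 10, 11]),
    ([7, 3], [3, 7, 10, 11, 12]),
    ([7, 4], [4, 7, 9, 11, 12]),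
    ([7, 5], [5, 7, 11, 12, 13]),
    ([7, 6], [6, 7, 11, 13]),
    ([8, 0], [0, 8, 11, 13]),
    ([8, 1], [1, 8, 12, 13]),
    ([8, 2], [2, 8, 9, 10, 11]),
    ([8, 3], [3, 8, 9, 10, 12, 13]),
    ([8, 4], [4, 8, 10, 11]),
    ([8, 5], [5, 8, 11]),
    ([8, 6], [6, 8, 12, 13]),
    ([8, 7], [7, 8, 13]),
    ([9, 0], [0, 9, 12, 13]),
    ([9, 1], [1, 9, 10, 13]),
    ([9, 2], [2, 9, 12]),
    ([9, 3], [3, 9, 11, 12]),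
    ([9, 4], [4, 9, 11]),
    ([9, 5], [5, 9, 13]),
    ([9, 6], [6, 9, 13]),
    ([9, 7], [7, 9]),
    ([9, 8], [8, 9]),
    ([10, 0], [0, 10, 11, 12, 13]),
    ([10, 1], [1, 10]),
    ([10, 2], [2, 10, 11, 12]),
    ([10, 3], [3, 10, 11]),
    ([10, 4], [4, 10, 12, 13]),
    ([10, 5], [5, 10, 13]),
    ([10, 6], [6, 10]),
    ([10, 7], [7, 10]),
    ([10, 8], [8, 10]),
    ([10, 9], [9, 10]),
    ([11, 0], [0, 11]),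
    ([11, 1], [1, 11, 12]),
    ([11, 2], [2, 11]),
    ([11, 3], [3, 11]),
    ([11, 4], [4, 11, 13]),
    ([11, 5], [5, 11]),
    ([11, 6], [6, 11]),
    ([11, 7], [7, 11]),
    ([11, 8], [8, 11]),
    ([11, 9], [9, 11]),
    ([11, 10], [10, 11]),
    ([12, 0], [0, 12]),
    ([12, 1], [1, 12]),
    ([12, 2], [2, 12, 13]),
    ([12, 3], [3, 12, 13]),
    ([12, 4], [4, 12]),
    ([12, 5], [5, 12]),
    ([12, 6], [6, 12]),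
    ([12, 7], [7, 12]),
    ([12, 8], [8, 12]),
    ([12, 9], [9, 12]),
    ([12, 10], [10, 12]),
    ([12, 11], [11, 12]),
    ([13, 0], [0, 13]),
    ([13, 1], [1, 13]),
    ([13, 2], [2, 13]),
    ([13, 3], [3, 13]),
    ([13, 4], [4, 13]),
    ([13, 5], [5, 13]),
    ([13, 6], [6, 13]),
    ([13, 7], [7, 13]),
    ([13, 8], [8, 13]),
    ([13, 9], [9, 13]),
    ([13, 10], [10, 13]),
    ([13, 11], [11, 13]),
    ([13, 12], [12, 13])]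
  maps := [
    [([0, 3, 4, 6, 8, 12, 13], [9, 10, 11, 13]), ([1, 11], [0, 1, 2, 4, 5, 6, 12]), ([2, 3, 4, 6, 7, 8, 12, 13], [0, 3, 4, 6, 8, 10]), ([9, 11, 12], [0, 2, 5, 7, 8, 9, 11]), ([10, 12, 13], [2, 3, 4, 6, 7, 8, 9, 10, 11, 12])],
    [([0, 3, 4, 5, 11], [0, 3, 4, 5, 11]), ([1, 9], [2, 3, 4, 6, 7, 8, 9, 10, 11, 13]), ([2, 3, 4, 8, 9, 11], [1, 6, 7, 9, 10, 12, 13]), ([6, 7], [1, 9, 13]), ([10], [10]), ([12], [1, 6, 7, 9, 12]), ([13], [2, 3, 4, 8, 9, 10, 11, 12])],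
    [([0, 3, 4, 7], [0, 3, 4, 7, 9, 10, 11, 12, 13]), ([1, 11], [1, 2, 3, 4, 6, 7, 8, 9, 10, 12, 13]), ([2, 3, 4], [0, 1, 2, 4, 5, 6, 11, 13]), ([6, 7], [1, 2, 3, 4, 8, 11]), ([8], [0, 2, 5, 6, 8, 10]), ([9, 11], [9, 11]), ([10], [2, 3, 4, 6, 7, 8, 9, 10, 11, 13]), ([12], [2, 3, 4, 6, 7, 8, 9, 10, 11]), ([13], [10, 12])],
    [([0, 7, 8, 9, 10], [2, 3, 5, 6, 8, 9, 11, 13]), ([2, 3, 7, 8], [0, 5, 6, 8, 10, 11]), ([5, 7, 8, 9], [0, 2, 3, 5, 7, 8, 10, 12]), ([6, 8], [0, 2, 3, 6, 8, 9, 10, 12, 13]), ([11], [5, 6, 7, 9, 12]), ([12], [5, 6, 7, 9, 11]), ([13], [0, 2, 3, 5, 6, 7, 10, 11])]]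
  overlaps := [
    ([0, 0, 0], [(0, 0), (92, 1), (80, 0)], [(0, 1)]),
    ([1, 1, 1], [(1, 0), (93, 1), (60, 0)], [(1, 1)]),
    ([1, 1, 0], [(1, 0), (92, 1), (59, 0), (13, 4)], [(14, 1), (14, 0), (81, 7), (43, 6), (30, 5), (25, 4), (18, 3), (16, 2), (1, 1), (94, 2), (61, 1), (96, 5), (84, 4), (73, 3), (63, 2), (103, 5), (91, 4), (13, 6), (12, 5), (100, 5), (77, 4), (67, 3), (103, 6), (11, 5), (104, 5), (95, 6), (83, 5), (62, 4), (45, 3), (23, 2), (77, 7), (8, 6), (103, 6), (101, 7), (78, 6), (102, 8), (79, 7), (104, 9), (13, 10), (90, 9), (79, 8), (10, 7), (91, 8), (11, 7), (12, 7), (13, 7), (54, 6), (39, 5), (33, 4), (4, 3), (86, 6), (75, 5), (41, 4), (6, 3), (76, 3), (11, 4), (103, 4), (104, 5), (101, 6), (89, 5), (78, 4), (103, 7), (91, 6), (11, 5), (104, 6), (12, 5), (13, 5), (57, 4), (7, 3), (101, 3), (101, 4), (9,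 3), (103, 3), (104, 4), (101, 5), (89, 4), (78, 3), (103, 6), (91, 5), (11, 4), (98, 5), (86, 4), (56, 3), (104, 5), (13, 6), (87, 5), (57, 4), (89, 6), (9, 5), (90, 5), (91, 6), (12, 7), (97, 7), (74, 6), (64, 5), (40, 4), (34, 3), (87, 5), (91, 6), (12, 7), (102, 7), (79, 6), (13, 8), (11, 7), (98, 7), (65, 6), (41, 5), (6, 4), (76, 4), (11, 5), (102, 5), (13, 6), (66, 5), (7, 4), (102, 4), (100, 5), (67, 4), (104, 6), (98, 7), (86, 6), (65, 5), (48, 4), (102, 7), (90, 6), (104, 8), (12, 7), (13, 7), (67, 6), (8, 5), (102, 5), (103, 6), (13, 7), (77, 6), (67, 5), (104, 9), (12, 8), (94, 8), (71, 7), (61, 6), (44, 5), (31, 4), (26, 3), (19, 2), (2, 1), (72, 5), (62, 4), (53, 3), (45, 2), (27, 1), (100, 5), (67, 4), (58, 3), (101, 6), (68, 5), (9, 4), (102, 5), (10, 4), (104, 4), (13, 5), (89, 4), (91, 5), (12, 6), (79, 5),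 (11, 6), (74, 6), (64, 5), (55, 4), (47, 3), (5, 2), (100, 3), (77, 2), (103, 4), (11, 3), (101, 3), (13, 4), (103, 5), (98, 6), (75, 5), (65, 4), (56, 3), (48, 2), (101, 5), (89, 4), (13, 6), (90, 5), (91, 6), (100, 8), (88, 7), (77, 6), (67, 5), (58, 4), (8, 3), (101, 3), (102, 4), (103, 5), (104, 6), (13, 7), (89, 6), (78, 5), (68, 4), (9, 3), (90, 5), (79, 4), (10, 3), (12, 4), (97, 4), (74, 3), (34, 2), (91, 4), (101, 6), (89, 5), (78, 4), (102, 7), (90, 6), (79, 5), (98, 8), (86, 7), (75, 6), (65, 5), (56, 4), (6, 3), (78, 3), (102, 5), (79, 4), (103, 6), (11, 5), (104, 5), (13, 6), (91, 5), (88, 6), (77, 5), (67, 4), (58, 3), (89, 7), (78, 6), (68, 5), (9, 4), (90, 6), (79, 5), (10, 4), (91, 5), (11, 4), (90, 4), (91, 5), (12, 6), (11, 5), (95, 5), (62, 4), (45, 3), (27, 2), (3, 1), (97, 3), (74, 2), (34, 1), (91,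 3), (101, 5), (89, 4), (78, 3), (102, 6), (90, 5), (79, 4), (13, 7), (88, 6), (77, 5), (67, 4), (58, 3), (89, 7), (78, 6), (68, 5), (9, 4), (90, 6), (79, 5), (10, 4), (12, 5), (102, 5), (79, 4), (103, 6), (11, 5), (13, 5), (64, 4), (47, 3), (34, 2), (5, 1), (98, 2), (75, 1), (104, 3), (100, 4), (88, 3), (77, 2), (103, 5), (91, 4), (11, 3), (102, 4), (90, 3), (13, 5), (86, 4), (65, 3), (48, 2), (6, 1), (77, 1), (102, 4), (90, 3), (79, 2), (104, 5), (12, 4), (100, 4), (77, 3), (67, 2), (8, 1), (102, 1), (103, 2), (13, 3)]),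
    ([1, 0, 0], [(0, 1)], [(14, 0), (80, 7), (42, 6), (29, 5), (24, 4), (17, 3), (15, 2), (14, 1), (0, 0), (93, 1), (81, 0), (94, 2), (82, 1), (13, 3), (83, 2), (97, 4), (85, 3), (98, 5), (86, 4), (100, 6), (88, 5), (104, 7), (12, 6), (94, 6), (44, 5), (31, 4), (26, 3), (19, 2), (2, 1), (72, 5), (62, 4), (53, 3), (45, 2), (27, 1), (100, 5), (67, 4), (58, 3), (101, 6), (68, 5), (9, 4), (102, 5), (10, 4), (104, 4), (13, 5), (89, 4), (91, 5), (12, 6), (79, 5), (11, 6), (74, 6), (64, 5), (55, 4), (47, 3), (5, 2), (100, 3), (77, 2), (103, 4), (11, 3), (101, 3), (13, 4), (103, 5), (98, 6), (75, 5), (65, 4), (56, 3), (48, 2), (101, 5), (89, 4), (13, 6), (90, 5), (91, 6), (100, 8), (88, 7), (77, 6), (67, 5), (58, 4), (8, 3), (101, 3), (102, 4), (103, 5), (104, 6), (13, 7), (89, 6), (78, 5), (68, 4), (9, 3), (90, 5), (79, 4), (10,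 3), (12, 4), (97, 4), (74, 3), (34, 2), (91, 4), (101, 6), (89, 5), (78, 4), (102, 7), (90, 6), (79, 5), (98, 8), (86, 7), (75, 6), (65, 5), (56, 4), (6, 3), (78, 3), (102, 5), (79, 4), (103, 6), (11, 5), (104, 5), (13, 6), (91, 5), (88, 6), (77, 5), (67, 4), (58, 3), (89, 7), (78, 6), (68, 5), (9, 4), (90, 6), (79, 5), (10, 4), (91, 5), (11, 4), (97, 5), (85, 4), (47, 3), (5, 2), (100, 3), (77, 2), (103, 4), (11, 3), (104, 3), (13, 4), (88, 3), (8, 2), (104, 2), (101, 3), (89, 2), (13, 4), (83, 3), (53, 2), (3, 1), (101, 3), (78, 2), (103, 4), (11, 3), (104, 3), (104, 4), (12, 3), (13, 3), (55, 2), (34, 1), (89, 3), (100, 5), (88, 4), (58, 3), (101, 6), (89, 5), (9, 4), (13, 5), (85, 4), (47, 3), (34, 2), (5, 1), (98, 2), (75, 1), (104, 3), (100, 4), (88, 3), (77, 2), (103, 5), (91, 4), (11, 3), (104, 4), (12, 3), (103,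 3), (104, 4), (98, 5), (86, 4), (75, 3), (48, 2), (6, 1), (77, 1), (103, 4), (91, 3), (11, 2), (104, 3), (12, 2), (13, 2), (100, 3), (77, 2), (8, 1), (103, 1), (13, 2), (11, 1), (104, 1)]),
    ([2, 2, 2], [(2, 0), (71, 4), (61, 3), (52, 2), (44, 1), (26, 0), (67, 3), (58, 2), (68, 4), (9, 3), (10, 3), (78, 3), (90, 5), (79, 4), (91, 6), (11, 5), (12, 5)], [(2, 1)]),
    ([2, 2, 0], [(2, 0), (69, 4), (59, 3), (50, 2), (42, 1), (24, 0), (88, 3), (77, 2), (91, 4), (11, 3), (101, 4), (89, 3), (104, 5), (12, 4), (13, 4), (103, 7), (91, 6), (11, 5)], [(15, 1), (15, 0), (94, 5), (52, 4), (44, 3), (26, 2), (2, 1), (74, 5), (64, 4), (55, 3), (47, 2), (5, 1), (100, 2), (77, 1), (103, 3), (11, 2), (101, 2), (13, 3), (103, 4), (101, 5), (78, 4), (68, 3), (9, 2), (102, 4), (79, 3), (10, 2), (100, 3), (77, 2), (8, 1), (103, 1), (13, 2),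 (78, 1), (79, 2), (11, 3), (68, 2), (9, 1), (97, 3), (85, 2), (64, 1), (104, 3), (13, 4), (88, 3), (67, 2), (89, 4), (68, 3)]),
    ([2, 0, 0], [(0, 1)], [(15, 0), (92, 5), (50, 4), (42, 3), (24, 2), (15, 1), (0, 0), (94, 1), (82, 0), (13, 2), (85, 1), (88, 2), (89, 3), (97, 5), (85, 4), (55, 3), (47, 2), (5, 1), (100, 2), (77, 1), (103, 3), (11, 2), (101, 2), (13, 3), (103, 4), (91, 3), (104, 5), (12, 4), (100, 4), (77, 3), (58, 2), (8, 1), (101, 1), (103, 2), (13, 3), (11, 2), (101, 2), (9, 1), (104, 1), (13, 2)]),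
    ([2, 2, 1], [(2, 0), (70, 4), (60, 3), (51, 2), (43, 1), (25, 0), (88, 5), (8, 4), (104, 4), (104, 5), (12, 4), (13, 4), (102, 6), (10, 5), (103, 5), (104, 6)], [(16, 1), (16, 0), (82, 5), (71, 4), (44, 3), (22, 2), (2, 1), (73, 5), (63, 4), (54, 3), (46, 2), (28, 1), (100, 5), (77, 4), (58, 3), (102, 6), (79, 5), (103, 7), (11, 6), (101, 6), (68, 5), (9, 4), (103, 5), (102, 6), (79, 5), (10, 4), (104, 5), (13, 6), (91, 5), (11, 4), (100, 5), (88, 4), (8, 3), (104, 3), (13, 4), (89, 3), (88, 4), (58, 3), (89, 5), (9, 4), (90, 4), (91, 5), (91, 6), (11, 5), (12, 5), (96, 5), (63, 4), (46, 3), (28, 2), (4, 1), (85, 4), (74, 3), (40, 2), (34, 1), (87, 3), (91, 4), (12, 5), (103, 5), (11, 4), (104, 4), (101, 5), (89, 4), (103, 6), (91, 5), (13, 7), (88, 6), (77, 5), (58, 4), (90, 7), (79, 6), (91, 8), (11, 7), (90, 7), (10,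 6), (12, 6), (13, 6), (58, 5), (8, 4), (101, 4), (103, 5), (104, 6)]),
    ([2, 1, 1], [(1, 1)], [(16, 0), (81, 5), (70, 4), (43, 3), (21, 2), (16, 1), (1, 0), (94, 1), (61, 0), (96, 4), (84, 3), (73, 2), (63, 1), (103, 4), (91, 3), (13, 5), (12, 4), (100, 4), (77, 3), (67, 2), (103, 5), (11, 4), (104, 4), (96, 5), (84, 4), (63, 3), (46, 2), (4, 1), (88, 4), (77, 3), (90, 5), (79, 4), (91, 6), (11, 5), (90, 5), (10, 4), (12, 4), (104, 4), (13, 5), (86, 4), (48, 3), (41, 2), (6, 1), (76, 1), (11, 2), (100, 2), (104, 3), (13, 4), (12, 3), (49, 2), (7, 1), (100, 1), (13, 2), (100, 5), (88, 4), (77, 3), (67, 2), (8, 1), (102, 1), (103, 2), (104, 3), (13, 4), (12, 3), (103, 3), (11, 2), (104, 2), (104, 3), (12, 2)]),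
    ([2, 1, 0], [(16, 0), (80, 5), (69, 4), (42, 3), (20, 2), (15, 1), (14, 0), (82, 7), (44, 6), (31, 5), (26, 4), (19, 3), (2, 2), (72, 6), (62, 5), (53, 4), (45, 3), (27, 2), (100, 6), (67, 5), (58, 4), (101, 7), (68, 6), (9, 5), (102, 6), (10, 5), (104, 5), (13, 6), (89, 5), (91, 6), (12, 7), (79, 6), (11, 7), (74, 7), (64, 6), (55, 5), (47, 4), (5, 3), (100, 4), (77, 3), (103, 5), (11, 4), (101, 4), (13, 5), (103, 6), (98, 7), (75, 6), (65, 5), (56, 4), (48, 3), (101, 6), (89, 5), (13, 7), (90, 6), (91, 7), (100, 9), (88, 8), (77, 7), (67, 6), (58, 5), (8, 4), (101, 4), (102, 5), (103, 6), (104, 7), (13, 8), (89, 7), (78, 6), (68, 5), (9, 4), (90, 6), (79, 5), (10, 4), (12, 5), (97, 5), (74, 4), (34, 3), (91, 5), (101, 7), (89, 6), (78, 5), (102, 8), (90, 7), (79, 6), (98, 9), (86, 8), (75, 7), (65, 6), (56, 5), (6,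 4), (78, 4), (102, 6), (79, 5), (103, 7), (11, 6), (104, 6), (13, 7), (91, 6), (88, 7), (77, 6), (67, 5), (58, 4), (89, 8), (78, 7), (68, 6), (9, 5), (90, 7), (79, 6), (10, 5), (91, 6), (11, 5), (12, 5), (97, 5), (47, 4), (5, 3), (100, 4), (77, 3), (103, 5), (11, 4), (13, 4), (8, 3), (101, 3), (13, 4), (54, 3), (74, 5), (55, 4), (103, 6), (98, 7), (75, 6), (56, 5), (103, 7), (13, 8), (77, 7), (58, 6), (11, 8), (103, 8), (104, 9)], [(14, 1), (15, 0), (93, 5), (51, 4), (43, 3), (25, 2), (16, 1), (85, 6), (74, 5), (47, 4), (11, 6), (86, 6), (48, 5), (104, 8), (12, 7), (99, 7), (49, 6), (13, 8), (8, 7), (104, 7), (100, 8), (88, 7), (104, 9), (12, 8), (13, 8), (13, 10), (61, 9), (52, 8), (44, 7), (37, 6), (31, 5), (26, 4), (22, 3), (2, 2), (73, 6), (63, 5), (54, 4), (46, 3), (28, 2), (100, 6), (77, 5), (58, 4), (102, 7), (79,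 6), (103, 8), (11, 7), (101, 7), (68, 6), (9, 5), (103, 6), (102, 7), (79, 6), (10, 5), (104, 6), (13, 7), (91, 6), (11, 5), (100, 6), (88, 5), (8, 4), (104, 4), (13, 5), (89, 4), (85, 5), (55, 4), (5, 3), (101, 4), (78, 3), (13, 5), (89, 5), (78, 4), (9, 3), (90, 4), (79, 3), (86, 5), (75, 4), (65, 3), (91, 6), (11, 5), (87, 5), (66, 4), (90, 6), (10, 5), (91, 5), (88, 6), (77, 5), (89, 7), (78, 6), (90, 8), (79, 7), (91, 9), (11, 8), (89, 8), (68, 7), (9, 6), (12, 7), (10, 6), (83, 7), (72, 6), (45, 5), (38, 4), (32, 3), (23, 2), (75, 7), (48, 6), (41, 5), (6, 4), (76, 4), (11, 5), (100, 5), (104, 6), (13, 7), (91, 6), (87, 7), (76, 6), (49, 5), (7, 4), (100, 4), (13, 5), (90, 6), (79, 5), (91, 7), (11, 6), (12, 6), (67, 5), (8, 4), (102, 4), (101, 5), (68, 4), (102, 6), (10, 5), (104, 5), (13, 6), (91, 5), (12, 6), (97,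 6), (74, 5), (55, 4), (103, 6), (13, 7), (75, 6), (56, 5), (103, 7), (100, 8), (77, 7), (58, 6), (104, 9)]),
    ([3, 3, 3], [(3, 0), (95, 2), (72, 1), (32, 0)], [(3, 1)]),
    ([3, 3, 0], [(3, 0), (92, 2), (69, 1), (29, 0), (103, 3), (11, 2), (13, 2)], [(17, 1), (17, 0), (95, 5), (53, 4), (45, 3), (27, 2), (3, 1), (97, 3), (74, 2), (34, 1), (91, 3), (101, 5), (89, 4), (78, 3), (102, 6), (90, 5), (79, 4), (13, 7), (88, 6), (77, 5), (67, 4), (58, 3), (89, 7), (78, 6), (68, 5), (9, 4), (90, 6), (79, 5), (10, 4), (12, 5), (101, 5), (78, 4), (103, 6), (11, 5), (104, 5), (13, 6), (85, 5), (55, 4), (47, 3), (34, 2), (5, 1), (98, 2), (75, 1), (104, 3), (100, 4), (88, 3), (77, 2), (103, 5), (91, 4), (11, 3), (101, 4), (89, 3), (13, 5), (12, 4), (58, 3), (8, 2), (101, 2), (101, 3), (9, 2), (13, 2)]),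
    ([3, 0, 0], [(0, 1)], [(17, 0), (92, 5), (50, 4), (42, 3), (24, 2), (17, 1), (0, 0), (95, 1), (83, 0), (13, 2), (85, 1), (88, 2), (89, 3), (97, 5), (85, 4), (55, 3), (47, 2), (5, 1), (100, 2), (77, 1), (103, 3), (11, 2), (101, 2), (13, 3), (103, 4), (91, 3), (104, 5), (12, 4), (100, 4), (77, 3), (58, 2), (8, 1), (101, 1), (103, 2), (13, 3), (11, 2), (101, 2), (9, 1), (104, 1), (13, 2)]),
    ([3, 3, 1], [(3, 0), (93, 2), (70, 1), (30, 0), (103, 4), (11, 3), (104, 3), (13, 4)], [(18, 1), (18, 0), (95, 9), (83, 8), (72, 7), (62, 6), (53, 5), (38, 4), (32, 3), (23, 2), (3, 1), (96, 3), (73, 2), (33, 1), (103, 6), (91, 5), (11, 4), (13, 5), (98, 5), (86, 4), (56, 3), (6, 2), (78, 2), (104, 4), (13, 5), (87, 4), (76, 3), (57, 2), (88, 5), (77, 4), (58, 3), (91, 6), (11, 5), (86, 5), (56, 4), (48, 3), (41, 2), (100, 5), (77,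 4), (104, 6), (13, 7), (89, 6), (78, 5), (104, 8), (12, 7), (99, 7), (76, 6), (57, 5), (49, 4), (7, 3), (100, 3), (13, 4), (102, 6), (79, 5), (103, 7), (11, 6), (104, 6), (101, 7), (89, 6), (68, 5), (9, 4), (103, 6), (91, 5), (104, 7), (12, 6), (102, 6), (79, 5), (10, 4), (103, 5), (11, 4), (103, 4), (104, 5), (13, 6), (96, 6), (84, 5), (73, 4), (46, 3), (33, 2), (4, 1), (86, 4), (75, 3), (41, 2), (6, 1), (76, 1), (11, 2), (103, 2), (104, 3), (101, 4), (89, 3), (78, 2), (103, 5), (91, 4), (11, 3), (104, 4), (12, 3), (13, 3), (58, 2), (11, 5), (104, 5), (13, 6), (86, 5), (65, 4), (56, 3), (48, 2), (41, 1), (100, 4), (77, 3), (104, 5), (13, 6), (89, 5), (78, 4), (102, 7), (90, 6), (79, 5), (104, 8), (12, 7), (99, 7), (76, 6), (66, 5), (57, 4), (49, 3), (7, 2), (100, 2), (13, 3), (101, 6), (78, 5), (68, 4), (9, 3), (102, 5),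 (79, 4), (10, 3), (103, 4), (11, 3), (104, 3), (13, 4)]),
    ([3, 1, 1], [(1, 1)], [(18, 0), (93, 9), (81, 8), (70, 7), (60, 6), (51, 5), (36, 4), (30, 3), (21, 2), (18, 1), (1, 0), (95, 1), (62, 0), (96, 3), (73, 2), (63, 1), (103, 4), (91, 3), (13, 5), (98, 5), (86, 4), (75, 3), (65, 2), (99, 6), (87, 5), (76, 4), (66, 3), (101, 7), (89, 6), (78, 5), (68, 4), (102, 8), (90, 7), (79, 6), (10, 5), (103, 7), (91, 6), (11, 5), (104, 6), (12, 5), (13, 5), (54, 4), (39, 3), (33, 2), (4, 1), (86, 4), (75, 3), (41, 2), (6, 1), (76, 1), (11, 2), (103, 2), (104, 3), (101, 4), (89, 3), (78, 2), (103, 5), (91, 4), (11, 3), (104, 4), (12, 3), (13, 3), (57, 2), (7, 1), (101, 1), (101, 2), (9, 1), (103, 1), (104, 2), (101, 3), (89, 2), (78, 1), (103, 4), (91, 3), (11, 2), (98, 3), (86, 2), (56, 1), (104, 3), (13, 4), (87, 3), (57, 2),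 (90, 4), (91, 5), (12, 6), (98, 6), (75, 5), (65, 4), (56, 3), (41, 2), (6, 1), (76, 1), (11, 2), (101, 2), (13, 3), (100, 5), (77, 4), (67, 3), (58, 2), (103, 6), (11, 5), (13, 5), (66, 4), (57, 3), (49, 2), (7, 1), (100, 1), (13, 2), (67, 3), (58, 2), (8, 1), (101, 1), (102, 2), (103, 3), (101, 4), (78, 3), (68, 2), (9, 1), (102, 3), (79, 2), (10, 1), (13, 2), (79, 1), (11, 2), (12, 2)]),
    ([3, 1, 0], [(18, 0), (92, 9), (80, 8), (69, 7), (59, 6), (50, 5), (35, 4), (29, 3), (20, 2), (17, 1), (14, 0), (83, 7), (45, 6), (32, 5), (27, 4), (3, 3), (97, 5), (74, 4), (34, 3), (91, 5), (101, 7), (89, 6), (78, 5), (102, 8), (90, 7), (79, 6), (13, 9), (86, 8), (75, 7), (65, 6), (56, 5), (6, 4), (78, 4), (102, 6), (79, 5), (103, 7), (11, 6), (104, 6), (100, 7), (88, 6), (67, 5), (58, 4), (101, 8), (89, 7), (68, 6), (9, 5), (102,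 7), (90, 6), (10, 5), (104, 6), (12, 5), (13, 5), (97, 6), (85, 5), (47, 4), (5, 3), (100, 4), (77, 3), (103, 5), (11, 4), (104, 4), (13, 5), (88, 4), (8, 3), (104, 3), (101, 4), (89, 3), (13, 5), (84, 4), (54, 3), (85, 6), (74, 5), (55, 4), (103, 6), (104, 7), (98, 8), (86, 7), (75, 6), (56, 5), (103, 7), (104, 8), (13, 9), (86, 8), (75, 7), (56, 6), (6, 5), (78, 5), (103, 7), (11, 6), (104, 6), (103, 7), (91, 6), (13, 8), (87, 7), (76, 6), (57, 5), (91, 8), (11, 7), (101, 8), (89, 7), (9, 6), (104, 7), (12, 6), (13, 6), (103, 9), (91, 8), (11, 7), (104, 8), (12, 7), (13, 7)], [(14, 1), (17, 0), (93, 5), (51, 4), (43, 3), (25, 2), (18, 1), (97, 10), (85, 9), (74, 8), (64, 7), (55, 6), (40, 5), (34, 4), (87, 6), (91, 7), (12, 8), (101, 8), (78, 7), (13, 9), (79, 8), (103, 10), (11, 9), (104, 9), (13, 10), (86, 9), (65, 8),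 (56, 7), (41, 6), (6, 5), (76, 5), (11, 6), (101, 6), (13, 7), (87, 8), (66, 7), (57, 6), (7, 5), (101, 5), (102, 6), (104, 7), (100, 8), (88, 7), (67, 6), (58, 5), (104, 9), (12, 8), (100, 8), (67, 7), (58, 6), (8, 5), (101, 5), (102, 6), (13, 7), (101, 8), (89, 7), (68, 6), (9, 5), (102, 7), (90, 6), (10, 5), (13, 6), (94, 6), (82, 5), (26, 4), (22, 3), (19, 2), (96, 10), (84, 9), (63, 8), (54, 7), (46, 6), (33, 5), (28, 4), (98, 8), (75, 7), (56, 6), (103, 8), (13, 9), (78, 8), (9, 7), (11, 7), (100, 8), (88, 7), (102, 9), (90, 8), (103, 10), (91, 9), (101, 11), (89, 10), (78, 9), (68, 8), (103, 12), (91, 11), (11, 10), (102, 11), (90, 10), (10, 9), (104, 10), (12, 9), (13, 9), (100, 10), (88, 9), (58, 8), (8, 7), (101, 7), (104, 8), (13, 9), (89, 8), (9, 7), (85, 7), (34, 6), (5, 5), (98, 6), (75, 5), (104, 7), (104,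 8), (12, 7), (101, 7), (78, 6), (102, 8), (79, 7), (104, 9), (13, 10), (95, 10), (83, 9), (72, 8), (62, 7), (53, 6), (32, 5), (23, 4), (3, 3), (96, 5), (73, 4), (33, 3), (103, 8), (91, 7), (11, 6), (13, 7), (98, 7), (86, 6), (56, 5), (6, 4), (78, 4), (104, 6), (13, 7), (87, 6), (76, 5), (57, 4), (88, 7), (77, 6), (58, 5), (91, 8), (11, 7), (86, 7), (56, 6), (48, 5), (41, 4), (100, 7), (77, 6), (104, 8), (13, 9), (89, 8), (78, 7), (104, 10), (12, 9), (101, 9), (78, 8), (9, 7), (103, 8), (11, 7), (104, 7), (102, 8), (90, 7), (103, 9), (91, 8), (103, 10), (91, 9), (11, 8), (104, 9), (12, 8), (13, 8), (97, 8), (64, 7), (47, 6), (40, 5), (34, 4), (87, 6), (91, 7), (12, 8), (100, 8), (77, 7), (103, 9), (11, 8), (102, 8), (13, 9), (98, 9), (65, 8), (48, 7), (41, 6), (6, 5), (76, 5), (11, 6), (100, 6), (104, 7), (13, 8), (90, 7),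 (100, 9), (88, 8), (67, 7), (8, 6), (102, 6), (104, 7), (13, 8), (12, 7)]),
    ([3, 3, 2], [(3, 0), (94, 2), (71, 1), (31, 0), (11, 2)], [(19, 1), (19, 0), (95, 8), (83, 7), (62, 6), (53, 5), (45, 4), (32, 3), (27, 2), (3, 1), (97, 3), (74, 2), (34, 1), (91, 3), (101, 5), (89, 4), (78, 3), (102, 6), (90, 5), (79, 4), (13, 7), (86, 6), (75, 5), (65, 4), (56, 3), (6, 2), (78, 2), (102, 4), (79, 3), (103, 5), (11, 4), (104, 4), (100, 5), (88, 4), (67, 3), (58, 2), (101, 6), (89, 5), (68, 4), (9, 3), (102, 5), (90, 4), (10, 3), (104, 4), (12, 3), (13, 3), (90, 5), (79, 4), (91, 6), (11, 5), (12, 5), (13, 5), (64, 4), (55, 3), (47, 2), (5, 1), (100, 2), (77, 1), (103, 3), (11, 2), (101, 2), (13, 3), (98, 4), (65, 3), (56, 2), (48, 1), (101, 4), (89, 3), (13, 5), (90, 4), (100, 6), (88, 5), (67, 4), (58, 3), (8, 2), (101, 2),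 (102, 3), (104, 4), (13, 5), (89, 4), (68, 3), (9, 2), (90, 3), (10, 2), (12, 2)]),
    ([3, 2, 2], [(2, 1)], [(19, 0), (94, 8), (82, 7), (61, 6), (52, 5), (44, 4), (31, 3), (26, 2), (19, 1), (2, 0), (72, 4), (62, 3), (53, 2), (45, 1), (27, 0), (100, 4), (67, 3), (58, 2), (101, 5), (68, 4), (9, 3), (102, 4), (10, 3), (104, 3), (13, 4), (89, 3), (91, 4), (12, 5), (79, 4), (11, 5), (74, 5), (64, 4), (55, 3), (47, 2), (5, 1), (100, 2), (77, 1), (103, 3), (11, 2), (101, 2), (13, 3), (103, 4), (98, 5), (75, 4), (65, 3), (56, 2), (48, 1), (101, 4), (89, 3), (13, 5), (90, 4), (91, 5), (100, 7), (88, 6), (77, 5), (67, 4), (58, 3), (8, 2), (101, 2), (102, 3), (103, 4), (104, 5), (13, 6), (89, 5), (78, 4), (68, 3), (9, 2), (90, 4), (79, 3), (10, 2), (12, 3), (97, 3), (74, 2), (34, 1), (91, 3), (101, 5), (89, 4), (78, 3), (102, 6),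 (90, 5), (79, 4), (98, 7), (86, 6), (75, 5), (65, 4), (56, 3), (6, 2), (78, 2), (102, 4), (79, 3), (103, 5), (11, 4), (104, 4), (13, 5), (91, 4), (88, 5), (77, 4), (67, 3), (58, 2), (89, 6), (78, 5), (68, 4), (9, 3), (90, 5), (79, 4), (10, 3), (91, 4), (11, 3), (89, 3), (12, 4), (12, 6), (13, 6)]),
    ([3, 2, 0], [(19, 0), (92, 8), (80, 7), (59, 6), (50, 5), (42, 4), (29, 3), (24, 2), (17, 1), (15, 0), (95, 5), (53, 4), (45, 3), (27, 2), (100, 6), (67, 5), (58, 4), (101, 7), (68, 6), (9, 5), (102, 6), (10, 5), (104, 5), (13, 6), (89, 5), (91, 6), (12, 7), (97, 7), (74, 6), (55, 5), (47, 4), (5, 3), (100, 4), (77, 3), (103, 5), (11, 4), (101, 4), (13, 5), (100, 6), (77, 5), (58, 4), (8, 3), (101, 3), (103, 4), (13, 5), (78, 4), (9, 3), (97, 4), (74, 3), (103, 5), (11, 4), (104, 4), (98, 5), (86, 4), (103, 6), (91, 5), (13,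 7), (88, 6), (77, 5), (91, 7), (11, 6), (101, 7), (89, 6), (104, 8), (12, 7), (13, 7), (104, 10), (12, 9), (13, 9)], [(15, 1), (17, 0), (94, 5), (52, 4), (44, 3), (26, 2), (19, 1), (97, 9), (85, 8), (64, 7), (55, 6), (47, 5), (34, 4), (5, 3), (98, 4), (75, 3), (104, 5), (100, 6), (88, 5), (77, 4), (103, 7), (91, 6), (11, 5), (101, 6), (89, 5), (13, 7), (90, 6), (104, 8), (12, 7), (13, 7), (68, 6), (9, 5), (10, 5), (8, 4), (101, 4), (102, 5), (103, 6), (101, 7), (78, 6), (68, 5), (9, 4), (104, 6), (13, 7), (85, 6), (74, 5), (64, 4), (34, 3), (90, 5), (103, 7), (91, 6), (104, 8), (12, 7), (100, 7), (77, 6), (67, 5), (101, 8), (78, 7), (68, 6), (13, 9)]),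
    ([3, 2, 1], [(19, 0), (93, 8), (81, 7), (60, 6), (51, 5), (43, 4), (30, 3), (25, 2), (18, 1), (16, 0), (83, 5), (72, 4), (45, 3), (23, 2), (77, 7), (8, 6), (103, 6), (101, 7), (78, 6), (102, 8), (79, 7), (104, 9), (13, 10), (91, 9), (11, 8), (12, 8), (96, 8), (63, 7), (54, 6), (39, 5), (33, 4), (4, 3), (86, 6), (75, 5), (41, 4), (6, 3), (76, 3), (11, 4), (103, 4), (104, 5), (101, 6), (89, 5), (78, 4), (103, 7), (91, 6), (11, 5), (104, 6), (12, 5), (13, 5), (57, 4), (7, 3), (101, 3), (101, 4), (9, 3), (103, 3), (104, 4), (101, 5), (89, 4), (78, 3), (103, 6), (91, 5), (11, 4), (102, 5), (90, 4), (104, 6), (12, 5), (13, 5), (98, 5), (65, 4), (56, 3), (102, 5), (13, 6), (66, 5), (57, 4), (68, 6), (9, 5), (10, 5), (97, 7), (85, 6), (74, 5), (40, 4), (34, 3), (87, 5), (91, 6), (12, 7), (103, 7), (11, 6), (104, 6), (13, 7),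 (86, 6), (41, 5), (6, 4), (76, 4), (11, 5), (104, 5), (99, 6), (87, 5), (7, 4), (104, 4), (13, 5), (88, 4), (12, 5), (48, 4), (100, 7), (88, 6), (8, 5), (104, 5), (13, 6), (91, 5), (100, 7), (88, 6), (77, 5), (104, 8), (12, 7), (13, 7), (78, 6), (79, 7), (102, 9), (79, 8), (10, 7), (104, 8), (13, 9)], [(16, 1), (18, 0), (94, 9), (82, 8), (71, 7), (61, 6), (52, 5), (37, 4), (31, 3), (22, 2), (19, 1), (96, 9), (84, 8), (63, 7), (54, 6), (46, 5), (33, 4), (28, 3), (98, 7), (75, 6), (56, 5), (103, 7), (13, 8), (78, 7), (9, 6), (11, 6), (100, 7), (88, 6), (102, 8), (90, 7), (103, 9), (91, 8), (101, 10), (89, 9), (78, 8), (68, 7), (103, 11), (91, 10), (11, 9), (102, 10), (90, 9), (10, 8), (104, 9), (12, 8), (13, 8), (100, 9), (88, 8), (58, 7), (8, 6), (101, 6), (104, 7), (13, 8), (89, 7), (9, 6), (86, 6), (6, 5), (91, 6), (11,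 5), (87, 5), (90, 6), (91, 7), (89, 8), (78, 7), (68, 6), (12, 9), (79, 8), (10, 7), (11, 7), (91, 7), (12, 8), (13, 8), (73, 7), (54, 6), (39, 5), (28, 4), (4, 3), (85, 6), (74, 5), (40, 4), (34, 3), (87, 5), (91, 6), (12, 7), (103, 7), (11, 6), (104, 6), (101, 7), (89, 6), (103, 8), (91, 7), (13, 9), (87, 8), (76, 7), (57, 6), (7, 5), (101, 5), (103, 6), (104, 7), (101, 8), (89, 7), (78, 6), (9, 5), (103, 7), (91, 6), (11, 5), (104, 6), (12, 5), (101, 5), (103, 6), (103, 7), (11, 6), (13, 6), (58, 5)]),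
    ([4, 4, 4], [(4, 0), (84, 3), (73, 2), (39, 1), (33, 0), (99, 5), (87, 4), (76, 3), (57, 2), (101, 6), (89, 5), (78, 4), (9, 3), (103, 5), (91, 4), (11, 3), (104, 4), (12, 3), (103, 3), (13, 4)], [(4, 1)]),
    ([4, 4, 0], [(4, 0), (80, 3), (69, 2), (35, 1), (29, 0), (99, 3), (76, 2), (103, 4), (11, 3), (13, 3)], [(20, 1), (20, 0), (33, 3), (28, 2), (4, 1), (85, 4), (74, 3), (40, 2), (34, 1), (87, 3), (91, 4), (12, 5), (103, 5), (11, 4), (104, 4), (101, 5), (89, 4), (103, 6), (91, 5), (13, 7), (86, 6), (75, 5), (56, 4), (41, 3), (6, 2), (76, 2), (11, 3), (101, 3), (13, 4), (89, 5), (78, 4), (9, 3), (91, 4), (11, 3), (12, 3), (97, 3), (40, 2), (5, 1), (99, 2), (76, 1), (103, 3), (11, 2), (104, 2), (13, 3), (98, 3), (86, 2), (41, 1), (104, 4), (13, 5)]),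
    ([4, 0, 0], [(0, 1)], [(20, 0), (29, 3), (24, 2), (20, 1), (0, 0), (96, 1), (84, 0), (97, 2), (85, 1), (98, 3), (86, 2), (97, 4), (85, 3), (34, 2), (5, 1), (98, 2), (75, 1), (104, 3), (104, 4), (12, 3), (13, 3), (11, 2), (86, 2), (6, 1), (91, 2), (11, 1)]),
    ([4, 4, 1], [(4, 0), (81, 3), (70, 2), (36, 1), (30, 0), (99, 4), (76, 3), (49, 2), (103, 4), (13, 5), (77, 4), (8, 3), (103, 3), (103, 4), (11, 3), (103, 3), (104, 4), (104, 5), (12, 4)], [(21, 1), (21, 0), (96, 7), (84, 6), (73, 5), (63, 4), (39, 3), (33, 2), (4, 1), (86, 4), (75, 3), (41, 2), (6, 1), (76, 1), (11, 2), (103, 2), (104, 3), (101, 4), (89, 3), (78, 2), (103, 5), (91, 4), (11, 3), (104, 4), (12, 3), (13, 3), (57, 2), (7, 1), (101, 1), (101, 2), (9, 1), (103, 1), (104, 2), (102, 3), (90, 2), (79, 1), (104, 4), (12, 3), (13, 3), (11, 2), (104, 2),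 (13, 3), (86, 2), (65, 1), (87, 3), (66, 2), (90, 4), (10, 3), (91, 3), (12, 4)]),
    ([4, 1, 1], [(1, 1)], [(21, 0), (93, 7), (81, 6), (70, 5), (60, 4), (36, 3), (30, 2), (21, 1), (1, 0), (96, 1), (63, 0), (13, 3), (86, 2), (65, 1), (87, 3), (66, 2), (90, 4), (10, 3), (91, 3), (12, 4), (98, 4), (75, 3), (41, 2), (6, 1), (76, 1), (11, 2), (103, 2), (13, 3), (77, 2), (11, 3), (99, 3), (49, 2), (7, 1), (100, 1), (13, 2), (100, 2), (8, 1), (13, 1), (79, 1), (11, 2), (12, 2)]),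
    ([4, 1, 0], [(21, 0), (92, 7), (80, 6), (69, 5), (59, 4), (35, 3), (29, 2), (20, 1), (14, 0), (84, 7), (46, 6), (33, 5), (28, 4), (98, 8), (75, 7), (56, 6), (103, 8), (13, 9), (78, 8), (9, 7), (11, 7), (100, 8), (88, 7), (102, 9), (90, 8), (103, 10), (91, 9), (104, 11), (12, 10), (97, 10), (74, 9), (64, 8), (47, 7), (34, 6), (5, 5), (98, 6), (75, 5), (104, 7), (100, 8), (88, 7), (77, 6), (103, 9), (91, 8), (11, 7), (102, 8), (90, 7), (13, 9), (91, 8), (98, 10), (86, 9), (75, 8), (65, 7), (48, 6), (6, 5), (77, 5), (102, 8), (90, 7), (79, 6), (103, 9), (91, 8), (11, 7), (104, 8), (12, 7), (13, 7), (65, 6), (48, 5), (102, 8), (90, 7), (103, 9), (91, 8), (13, 10), (87, 9), (76, 8), (66, 7), (49, 6), (102, 8), (103, 9), (104, 10), (103, 11), (91, 10), (11, 9), (13, 10), (90, 9), (10, 8), (91, 8), (12, 9), (103, 9), (11, 8),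 (104, 8), (13, 9)], [(14, 1), (20, 0), (30, 3), (25, 2), (21, 1), (97, 8), (85, 7), (74, 6), (64, 5), (40, 4), (34, 3), (87, 5), (91, 6), (12, 7), (102, 7), (79, 6), (13, 8), (11, 7), (98, 8), (86, 7), (65, 6), (41, 5), (6, 4), (76, 4), (11, 5), (102, 5), (104, 6), (13, 7), (87, 6), (66, 5), (7, 4), (102, 4), (104, 5), (100, 6), (88, 5), (67, 4), (104, 7), (12, 6), (98, 6), (65, 5), (48, 4), (102, 7), (90, 6), (13, 8), (88, 7), (67, 6), (8, 5), (102, 5), (104, 6), (103, 7), (91, 6), (13, 8), (82, 7), (71, 6), (61, 5), (31, 4), (26, 3), (22, 2), (55, 5), (47, 4), (78, 6), (101, 8), (78, 7), (9, 6), (102, 7), (79, 6), (98, 8), (75, 7), (65, 6), (48, 5), (102, 8), (90, 7), (103, 9), (91, 8), (13, 10), (91, 9), (11, 8), (90, 8), (10, 7), (91, 7), (12, 8), (11, 7), (95, 8), (83, 7), (45, 6), (32, 5), (27, 4), (23, 3), (74, 8),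 (47, 7), (40, 6), (34, 5), (87, 7), (91, 8), (12, 9), (100, 9), (77, 8), (103, 10), (11, 9), (103, 9), (101, 10), (78, 9), (102, 11), (79, 10), (13, 12), (75, 11), (65, 10), (56, 9), (48, 8), (41, 7), (6, 6), (76, 6), (11, 7), (100, 7), (104, 8), (13, 9), (89, 8), (102, 10), (90, 9), (103, 11), (91, 10), (100, 12), (88, 11), (77, 10), (67, 9), (58, 8), (8, 7), (101, 7), (102, 8), (103, 9), (104, 10), (13, 11), (89, 10), (78, 9), (68, 8), (9, 7), (90, 9), (79, 8), (10, 7), (12, 8), (104, 8), (13, 9), (97, 9), (85, 8), (74, 7), (40, 6), (5, 5), (99, 6), (76, 5), (103, 7), (11, 6), (104, 6), (13, 7), (91, 6), (12, 7), (98, 7), (75, 6), (41, 5), (103, 8), (11, 7), (13, 7)]),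
    ([4, 4, 2], [(4, 0), (82, 3), (71, 2), (37, 1), (31, 0), (76, 2), (79, 3), (11, 4)], [(22, 1), (22, 0), (54, 3), (46, 2), (4, 1), (88, 4), (77, 3), (90, 5), (79, 4), (91, 6), (11, 5), (89, 5), (68, 4), (91, 6), (88, 7), (77, 6), (67, 5), (58, 4), (8, 3), (101, 3), (102, 4), (103, 5), (104, 6), (101, 7), (89, 6), (78, 5), (68, 4), (9, 3)]),
    ([4, 2, 2], [(2, 1)], [(22, 0), (52, 3), (44, 2), (22, 1), (2, 0), (73, 4), (63, 3), (54, 2), (46, 1), (28, 0), (100, 4), (77, 3), (58, 2), (102, 5), (79, 4), (103, 6), (11, 5), (101, 5), (68, 4), (9, 3), (103, 4), (102, 5), (79, 4), (10, 3), (104, 4), (13, 5), (91, 4), (11, 3), (100, 4), (88, 3), (8, 2), (104, 2), (13, 3), (89, 2), (88, 3), (58, 2), (89, 4), (9, 3), (90, 3), (91, 4), (89, 5), (78, 4), (68, 3), (12, 6)]),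
    ([4, 2, 0], [(22, 0), (50, 3), (42, 2), (20, 1), (15, 0), (96, 5), (54, 4), (46, 3), (28, 2), (100, 6), (77, 5), (58, 4), (102, 7), (79, 6), (103, 8), (11, 7), (101, 7), (68, 6), (9, 5), (103, 6), (13, 7), (74, 6), (64, 5), (47, 4), (5, 3), (100, 4), (77, 3), (103, 5), (11, 4), (102, 4), (13, 5), (75, 5), (65, 4), (48, 3), (102, 6), (90, 5), (103, 7), (91, 6), (100, 8), (88, 7), (77, 6), (67, 5), (8, 4), (102, 4), (103, 5), (104, 6), (13, 7), (91, 6), (11, 5), (101, 6), (89, 5), (68, 4), (104, 7), (12, 6), (13, 6)], [(15, 1), (20, 0), (31, 3), (26, 2), (22, 1), (55, 4), (47, 3), (78, 5), (101, 7), (78, 6), (9, 5), (102, 6), (79, 5), (98, 7), (75, 6), (65, 5), (48, 4), (102, 7), (90, 6), (103, 8), (91, 7), (13, 9), (91, 8), (11, 7), (85, 7), (64, 6), (47, 5), (34, 4), (5, 3), (98, 4), (75, 3), (104, 5), (100, 6), (88,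 5), (77, 4), (103, 7), (91, 6), (11, 5), (102, 6), (90, 5), (13, 7), (12, 6), (67, 5), (8, 4), (102, 4), (101, 5), (68, 4), (13, 6)]),
    ([4, 2, 1], [(22, 0), (51, 3), (43, 2), (21, 1), (16, 0), (84, 5), (73, 4), (46, 3), (4, 2), (88, 5), (77, 4), (90, 6), (79, 5), (91, 7), (11, 6), (91, 6), (104, 8), (12, 7), (98, 7), (75, 6), (65, 5), (48, 4), (41, 3), (6, 2), (76, 2), (11, 3), (100, 3), (104, 4), (13, 5), (90, 4), (91, 5), (99, 7), (87, 6), (76, 5), (66, 4), (49, 3), (7, 2), (100, 2), (13, 3), (102, 6), (90, 5), (79, 4), (10, 3), (103, 5), (91, 4), (11, 3), (104, 4), (12, 3), (13, 3), (8, 2), (104, 2), (13, 3), (89, 2), (90, 3)], [(16, 1), (21, 0), (94, 7), (82, 6), (71, 5), (61, 4), (37, 3), (31, 2), (22, 1), (56, 4), (48, 3), (101, 6), (89, 5), (13, 7), (91, 6), (87, 7), (76, 6), (57, 5), (49, 4), (101, 6), (103, 7),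 (104, 8), (102, 9), (90, 8), (79, 7), (103, 10), (91, 9), (11, 8), (102, 9), (90, 8), (10, 7), (103, 8), (91, 7), (104, 9), (12, 8), (103, 8), (11, 7), (104, 7), (13, 8), (96, 8), (84, 7), (54, 6), (46, 5), (39, 4), (33, 3), (4, 2), (86, 5), (75, 4), (41, 3), (6, 2), (76, 2), (11, 3), (103, 3), (104, 4), (101, 5), (89, 4), (78, 3), (103, 6), (91, 5), (11, 4), (104, 5), (12, 4), (13, 4), (57, 3), (7, 2), (101, 2), (101, 3), (9, 2), (103, 2), (104, 3), (100, 4), (88, 3), (77, 2), (102, 5), (90, 4), (79, 3), (103, 6), (91, 5), (11, 4), (101, 5), (89, 4), (68, 3), (103, 6), (91, 5), (104, 7), (12, 6), (13, 6), (77, 5), (67, 4), (58, 3), (8, 2), (101, 2), (102, 3), (103, 4), (103, 5), (11, 4), (104, 4)]),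
    ([4, 4, 3], [(4, 0), (83, 3), (72, 2), (38, 1), (32, 0), (91, 5), (11, 4), (12, 4)], [(23, 1), (23, 0), (73, 5), (46, 4), (39, 3), (33, 2), (4, 1), (86, 4), (75, 3), (41, 2), (6, 1), (76, 1), (11, 2), (103, 2), (104, 3), (101, 4), (89, 3), (78, 2), (103, 5), (91, 4), (11, 3), (104, 4), (12, 3), (13, 3), (57, 2), (7, 1), (101, 1), (101, 2), (9, 1), (103, 1), (104, 2), (100, 3), (88, 2), (77, 1), (102, 4), (90, 3), (79, 2), (103, 5), (91, 4), (11, 3), (103, 4), (91, 3), (13, 5), (86, 4), (75, 3), (65, 2), (48, 1), (102, 4), (90, 3), (103, 5), (91, 4), (104, 6), (12, 5), (99, 5), (76, 4), (66, 3), (49, 2), (102, 4), (103, 5), (13, 6), (77, 5), (67, 4), (8, 3), (102, 3), (103, 4), (103, 5), (11, 4)]),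
    ([4, 3, 3], [(3, 1)], [(23, 0), (72, 5), (45, 4), (38, 3), (32, 2), (23, 1), (3, 0), (96, 2), (73, 1), (33, 0), (103, 5), (91, 4), (11, 3), (13, 4), (98, 4), (86, 3), (56, 2), (6, 1), (78, 1), (104, 3), (13, 4), (87, 3), (76, 2), (57, 1), (88, 4), (77, 3), (58, 2), (91, 5), (11, 4), (86, 4), (56, 3), (48, 2), (41, 1), (100, 4), (77, 3), (104, 5), (13, 6), (89, 5), (78, 4), (104, 7), (12, 6), (99, 6), (76, 5), (57, 4), (49, 3), (7, 2), (100, 2), (13, 3), (102, 5), (79, 4), (103, 6), (11, 5), (104, 5), (100, 6), (88, 5), (67, 4), (58, 3), (8, 2), (101, 2), (102, 3), (104, 4), (13, 5), (89, 4), (68, 3), (9, 2), (90, 3), (10, 2), (12, 2), (103, 2)]),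
    ([4, 3, 0], [(23, 0), (69, 5), (42, 4), (35, 3), (29, 2), (20, 1), (17, 0), (96, 5), (54, 4), (46, 3), (28, 2), (100, 6), (77, 5), (58, 4), (102, 7), (79, 6), (103, 8), (11, 7), (101, 7), (68, 6), (9, 5), (103, 6), (13, 7), (74, 6), (64, 5), (47, 4), (5, 3), (100, 4), (77, 3), (103, 5), (11, 4), (102, 4), (13, 5), (75, 5), (65, 4), (48, 3), (102, 6), (90, 5), (103, 7), (91, 6), (98, 8), (86, 7), (75, 6), (65, 5), (48, 4), (6, 3), (77, 3), (102, 6), (90, 5), (79, 4), (103, 7), (91, 6), (11, 5), (104, 6), (12, 5), (13, 5), (99, 6), (76, 5), (66, 4), (49, 3), (102, 5), (103, 6), (13, 7), (11, 6), (100, 6), (67, 5), (8, 4), (102, 4), (13, 5), (103, 6), (11, 5)], [(17, 1), (20, 0), (32, 3), (27, 2), (23, 1), (74, 6), (47, 5), (40, 4), (34, 3), (87, 5), (91, 6), (12, 7), (100, 7), (77, 6), (103, 8), (11, 7), (103, 7), (101,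 8), (78, 7), (102, 9), (79, 8), (13, 10), (75, 9), (65, 8), (56, 7), (48, 6), (41, 5), (6, 4), (76, 4), (11, 5), (100, 5), (104, 6), (13, 7), (89, 6), (102, 8), (90, 7), (103, 9), (91, 8), (97, 10), (85, 9), (74, 8), (64, 7), (55, 6), (47, 5), (40, 4), (5, 3), (99, 4), (76, 3), (103, 5), (11, 4), (104, 4), (13, 5), (88, 4), (91, 5), (89, 6), (78, 5), (102, 8), (90, 7), (79, 6), (13, 9), (91, 8), (11, 7), (12, 7), (100, 7), (67, 6), (58, 5), (8, 4), (101, 4), (102, 5), (13, 6), (68, 5), (9, 4)]),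
    ([4, 3, 1], [(23, 0), (70, 5), (43, 4), (36, 3), (30, 2), (21, 1), (18, 0), (96, 9), (84, 8), (73, 7), (63, 6), (54, 5), (39, 4), (33, 3), (4, 2), (86, 5), (75, 4), (41, 3), (6, 2), (76, 2), (11, 3), (103, 3), (104, 4), (101, 5), (89, 4), (78, 3), (103, 6), (91, 5), (11, 4), (104, 5), (12, 4), (13, 4), (57, 3), (7, 2), (101, 2), (101, 3), (9, 2), (103, 2), (104, 3), (101, 4), (89, 3), (78, 2), (103, 5), (91, 4), (11, 3), (102, 4), (90, 3), (104, 5), (12, 4), (13, 4), (104, 5), (13, 6), (86, 5), (75, 4), (65, 3), (56, 2), (102, 4), (103, 5), (104, 6), (99, 7), (87, 6), (76, 5), (66, 4), (57, 3), (102, 8), (90, 7), (79, 6), (10, 5), (103, 7), (91, 6), (11, 5), (104, 6), (12, 5), (13, 5), (56, 4), (41, 3), (6, 2), (76, 2), (11, 3), (101, 3), (13, 4), (58, 3), (99, 6), (76, 5), (57, 4), (49, 3), (7, 2), (100, 2), (13, 3),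 (100, 5), (77, 4), (58, 3), (8, 2), (101, 2), (103, 3), (13, 4), (11, 3), (58, 2), (103, 5), (91, 4), (104, 6), (12, 5)], [(18, 1), (21, 0), (95, 7), (83, 6), (72, 5), (62, 4), (38, 3), (32, 2), (23, 1), (75, 6), (48, 5), (41, 4), (6, 3), (76, 3), (11, 4), (100, 4), (104, 5), (13, 6), (91, 5), (87, 6), (76, 5), (49, 4), (7, 3), (100, 3), (13, 4), (90, 5), (79, 4), (91, 6), (11, 5), (12, 5), (10, 4), (11, 4), (13, 5), (84, 4), (46, 3), (4, 2), (88, 5), (77, 4), (90, 6), (79, 5), (91, 7), (11, 6), (12, 6), (65, 5), (48, 4), (41, 3), (6, 2), (76, 2), (11, 3), (100, 3), (104, 4), (13, 5), (90, 4), (87, 5), (66, 4), (49, 3), (7, 2), (100, 2), (13, 3), (89, 4), (68, 3), (90, 5), (10, 4), (91, 4), (12, 5)]),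
    ([4, 3, 2], [(23, 0), (71, 5), (44, 4), (37, 3), (31, 2), (22, 1), (19, 0), (96, 8), (84, 7), (63, 6), (54, 5), (46, 4), (33, 3), (28, 2), (98, 6), (75, 5), (56, 4), (103, 6), (13, 7), (78, 6), (9, 5), (11, 5), (100, 6), (88, 5), (102, 7), (90, 6), (103, 8), (91, 7), (101, 9), (89, 8), (78, 7), (68, 6), (103, 10), (91, 9), (11, 8), (102, 9), (90, 8), (10, 7), (104, 8), (12, 7), (13, 7), (100, 8), (88, 7), (58, 6), (8, 5), (101, 5), (104, 6), (13, 7), (89, 6), (9, 5), (86, 5), (6, 4), (91, 5), (11, 4), (87, 4), (90, 5), (91, 6), (88, 7), (77, 6), (67, 5), (89, 8), (78, 7), (68, 6), (90, 9), (79, 8), (10, 7), (91, 8), (11, 7), (91, 7)], [(19, 1), (22, 0), (53, 3), (45, 2), (23, 1), (77, 6), (8, 5), (103, 5), (101, 6), (78, 5), (102, 7), (79, 6), (104, 8), (13, 9), (89, 8), (78, 7), (68, 6), (9, 5), (91, 7), (11, 6), (12,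 6), (64, 5), (40, 4), (34, 3), (87, 5), (91, 6), (12, 7), (102, 7), (79, 6), (13, 8), (75, 7), (65, 6), (41, 5), (6, 4), (76, 4), (11, 5), (102, 5), (103, 6), (100, 7), (77, 6), (67, 5), (101, 8), (78, 7), (68, 6), (102, 9), (79, 8), (10, 7), (104, 8), (13, 9)]),
    ([5, 5, 5], [(5, 0), (97, 1), (74, 0)], [(5, 1)]),
    ([5, 5, 0], [(5, 0), (92, 1), (69, 0)], [(24, 1), (24, 0), (85, 3), (74, 2), (5, 1), (103, 2), (11, 1), (104, 1), (103, 2), (91, 1), (104, 3), (12, 2)]),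
    ([5, 5, 1], [(5, 0), (93, 1), (70, 0)], [(25, 1), (25, 0), (85, 5), (47, 4), (40, 3), (34, 2), (5, 1), (98, 2), (75, 1), (104, 3), (99, 4), (87, 3), (76, 2), (103, 5), (91, 4), (11, 3), (104, 4), (12, 3), (13, 3), (86, 5), (75, 4), (48, 3), (41, 2), (6, 1), (76, 1), (11, 2), (100, 2), (104, 3), (13, 4), (91, 3), (12, 4), (76, 3), (49, 2), (7, 1), (100, 1), (13, 2), (77, 2), (8, 1), (103, 1), (104, 2)]),
    ([5, 1, 1], [(1, 1)], [(25, 0), (81, 5), (43, 4), (36, 3), (30, 2), (25, 1), (1, 0), (97, 1), (64, 0), (13, 2), (65, 1), (66, 2), (67, 3), (86, 5), (65, 4), (48, 3), (41, 2), (6, 1), (76, 1), (11, 2), (100, 2), (104, 3), (13, 4), (90, 3), (12, 4), (67, 3), (8, 2), (102, 2), (103, 3), (13, 4), (76, 3), (66, 2), (7, 1), (102, 1), (103, 2), (100, 3), (77, 2), (67, 1), (103, 4), (11, 3), (100, 3), (67, 2), (8, 1), (102,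 1), (13, 2), (104, 3), (12, 2)]),
    ([5, 1, 0], [(25, 0), (80, 5), (42, 4), (35, 3), (29, 2), (24, 1), (14, 0), (85, 7), (47, 6), (34, 5), (5, 4), (98, 5), (75, 4), (104, 6), (100, 7), (88, 6), (77, 5), (103, 8), (91, 7), (11, 6), (104, 7), (12, 6), (103, 6), (104, 7), (98, 8), (86, 7), (75, 6), (48, 5), (6, 4), (77, 4), (103, 7), (91, 6), (11, 5), (104, 6), (12, 5), (13, 5), (99, 6), (76, 5), (49, 4), (103, 6), (13, 7), (11, 6), (100, 6), (8, 5), (13, 5), (104, 6)], [(14, 1), (24, 0), (81, 3), (70, 2), (25, 1), (91, 6), (12, 7), (82, 7), (71, 6), (44, 5), (37, 4), (31, 3), (26, 2), (65, 5), (56, 4), (102, 6), (103, 7), (99, 8), (76, 7), (66, 6), (57, 5), (102, 9), (79, 8), (10, 7), (103, 8), (11, 7), (100, 7), (58, 6), (101, 8), (9, 7), (102, 7), (103, 8), (103, 9), (11, 8), (104, 8), (13, 9), (83, 8), (62, 7), (45, 6),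 (38, 5), (32, 4), (27, 3), (98, 7), (65, 6), (56, 5), (102, 7), (13, 8), (66, 7), (57, 6), (10, 8), (88, 9), (77, 8), (58, 7), (89, 10), (78, 9), (9, 8), (90, 9), (79, 8), (12, 10), (102, 10), (79, 9), (10, 8), (103, 9), (11, 8), (104, 8), (13, 9), (85, 8), (47, 7), (40, 6), (34, 5), (5, 4), (98, 5), (75, 4), (104, 6), (99, 7), (87, 6), (76, 5), (103, 8), (91, 7), (11, 6), (104, 7), (12, 6), (13, 6), (86, 8), (75, 7), (48, 6), (41, 5), (6, 4), (76, 4), (11, 5), (100, 5), (104, 6), (13, 7), (91, 6), (12, 7), (77, 6), (8, 5), (103, 5), (104, 6)]),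
    ([5, 5, 2], [(5, 0), (94, 1), (71, 0)], [(26, 1), (26, 0), (64, 3), (55, 2), (5, 1), (101, 2), (78, 1), (13, 3), (79, 2), (101, 4), (78, 3), (68, 2), (9, 1), (102, 3), (79, 2), (10, 1)]),
    ([5, 2, 2], [(2, 1), (5, 0), (100, 1), (77, 0), (101, 2), (78, 1), (102, 3), (79, 2), (103, 4), (11, 3)], [(26, 0), (61, 3), (52, 2), (26, 1), (2, 0), (74, 4), (64, 3), (55, 2), (47, 1), (5, 0), (100, 1), (77, 0), (103, 2), (11, 1), (101, 1), (13, 2), (103, 3), (101, 4), (78, 3), (68, 2), (9, 1), (102, 3), (79, 2), (10, 1), (101, 2), (78, 1), (104, 3), (102, 4), (90, 3), (79, 2), (103, 5), (91, 4), (11, 3), (104, 4), (12, 3)]),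
    ([5, 2, 0], [(26, 0), (59, 3), (50, 2), (24, 1), (15, 0), (97, 5), (55, 4), (47, 3), (5, 2), (100, 3), (77, 2), (103, 4), (11, 3), (101, 3), (13, 4), (103, 4), (104, 5), (101, 6), (89, 5), (78, 4), (9, 3), (104, 5), (12, 4), (13, 4), (79, 3), (11, 4)], [(15, 1), (24, 0), (82, 3), (71, 2), (26, 1), (97, 7), (85, 6), (74, 5), (64, 4), (55, 3), (5, 2), (101, 3), (78, 2), (13, 4), (79, 3), (103, 5), (11, 4), (104, 4), (13, 5), (88, 4), (67, 3), (58, 2), (89, 5), (68, 4), (9, 3)]),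
    ([5, 2, 1], [(26, 0), (60, 3), (51, 2), (25, 1), (16, 0), (85, 5), (74, 4), (47, 3), (11, 5), (86, 5), (48, 4), (104, 7), (12, 6), (99, 6), (49, 5), (13, 7), (8, 6), (104, 6), (101, 7), (89, 6), (102, 8), (90, 7), (13, 9), (90, 8), (10, 7)], [(16, 1), (25, 0), (82, 5), (44, 4), (37, 3), (31, 2), (26, 1), (65, 4), (56, 3), (102, 5), (103, 6), (99, 7), (76, 6), (66, 5), (57, 4), (102, 8), (79, 7), (10, 6), (103, 7), (11, 6), (100, 6), (58, 5), (101, 7), (9, 6), (102, 6), (103, 7), (104, 8), (13, 9), (84, 8), (73, 7), (63, 6), (46, 5), (39, 4), (33, 3), (28, 2), (98, 6), (75, 5), (56, 4), (103, 6), (13, 7), (78, 6), (9, 5), (11, 5), (99, 6), (87, 5), (101, 7), (89, 6), (103, 8), (91, 7), (104, 9), (12, 8), (100, 8), (77, 7), (58, 6), (102, 9), (79, 8), (103, 10), (11, 9), (102, 9), (10, 8), (104, 8), (13, 9), (91, 8), (104,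 10), (12, 9), (100, 9), (77, 8), (58, 7), (8, 6), (101, 6), (103, 7), (13, 8), (11, 7)]),
    ([5, 5, 3], [(5, 0), (95, 1), (72, 0)], [(27, 1), (27, 0), (97, 4), (64, 3), (55, 2), (5, 1), (101, 2), (78, 1), (13, 3), (79, 2), (13, 4), (78, 3), (68, 2), (9, 1), (79, 2), (10, 1)]),
    ([5, 3, 3], [(3, 1)], [(27, 0), (95, 4), (62, 3), (53, 2), (27, 1), (3, 0), (97, 2), (74, 1), (34, 0), (91, 2), (101, 4), (89, 3), (78, 2), (102, 5), (90, 4), (79, 3), (13, 6), (89, 5), (78, 4), (68, 3), (9, 2), (91, 4), (11, 3), (12, 3), (10, 2)]),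
    ([5, 3, 0], [(27, 0), (92, 4), (59, 3), (50, 2), (24, 1), (17, 0), (97, 5), (55, 4), (47, 3), (5, 2), (100, 3), (77, 2), (103, 4), (11, 3), (101, 3), (13, 4), (103, 4), (104, 5), (101, 6), (89, 5), (78, 4), (9, 3), (104, 5), (12, 4), (13, 4), (79, 3), (11, 4), (13, 5)], [(17, 1), (24, 0), (83, 3), (72, 2), (27, 1), (103, 5), (104, 6), (13, 7), (85, 6), (74, 5), (64, 4), (55, 3), (5, 2), (101, 3), (78, 2), (13, 4), (79, 3), (103, 5), (11, 4), (104, 4), (100, 5), (88, 4), (67, 3), (58, 2), (101, 6), (89, 5), (68, 4), (9, 3), (13, 5)]),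
    ([5, 3, 1], [(27, 0), (93, 4), (60, 3), (51, 2), (25, 1), (18, 0), (97, 9), (85, 8), (74, 7), (64, 6), (55, 5), (40, 4), (34, 3), (87, 5), (91, 6), (12, 7), (101, 7), (78, 6), (13, 8), (79, 7), (103, 9), (11, 8), (104, 8), (13, 9), (86, 8), (65, 7), (56, 6), (41, 5), (6, 4), (76, 4), (11, 5), (101, 5), (13, 6), (87, 7), (66, 6), (57, 5), (7, 4), (101, 4), (102, 5), (104, 6), (100, 7), (88, 6), (67, 5), (58, 4), (104, 8), (12, 7), (101, 7), (68, 6), (9, 5), (102, 6), (10, 5), (13, 5)], [(18, 1), (25, 0), (83, 5), (45, 4), (38, 3), (32, 2), (27, 1), (98, 5), (65, 4), (56, 3), (102, 5), (13, 6), (66, 5), (57, 4), (10, 6), (88, 7), (77, 6), (58, 5), (89, 8), (78, 7), (9, 6), (90, 7), (79, 6), (12, 8), (104, 8), (13, 9), (84, 8), (73, 7), (63, 6), (46, 5), (39, 4), (33, 3), (28, 2), (98, 6), (75, 5), (56, 4), (103, 6), (13,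 7), (78, 6), (9, 5), (11, 5), (99, 6), (87, 5), (101, 7), (89, 6), (103, 8), (91, 7), (104, 9), (12, 8), (100, 8), (77, 7), (58, 6), (102, 9), (79, 8), (103, 10), (11, 9), (102, 9), (10, 8), (104, 8), (13, 9), (91, 8), (104, 10), (12, 9), (98, 9), (75, 8), (56, 7), (48, 6), (41, 5), (6, 4), (76, 4), (11, 5), (100, 5), (104, 6), (13, 7), (89, 6), (103, 8), (91, 7), (13, 9), (87, 8), (76, 7), (57, 6), (49, 5), (7, 4), (100, 4), (13, 5), (89, 7), (78, 6), (9, 5), (90, 6), (79, 5), (91, 7), (11, 6), (12, 6)]),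
    ([5, 3, 2], [(27, 0), (94, 4), (61, 3), (52, 2), (26, 1), (19, 0), (97, 8), (85, 7), (64, 6), (55, 5), (47, 4), (34, 3), (5, 2), (98, 3), (75, 2), (104, 4), (100, 5), (88, 4), (77, 3), (103, 6), (91, 5), (11, 4), (101, 5), (89, 4), (13, 6), (90, 5), (104, 7), (12, 6), (13, 6), (68, 5), (9, 4), (10, 4), (90, 5), (91, 6), (12, 7)], [(19, 1), (26, 0), (62, 3), (53, 2), (27, 1), (101, 5), (68, 4), (9, 3), (103, 4), (104, 5), (102, 6), (90, 5), (79, 4), (10, 3), (103, 5), (91, 4), (11, 3), (97, 4), (85, 3), (5, 2), (104, 3), (13, 4), (86, 3), (75, 2), (88, 4), (77, 3), (89, 5), (78, 4), (90, 6), (79, 5), (12, 7)]),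
    ([5, 5, 4], [(5, 0), (96, 1), (73, 0), (13, 2)], [(28, 1), (28, 0), (97, 4), (74, 3), (55, 2), (5, 1), (101, 2), (78, 1), (13, 3), (11, 2), (101, 2), (9, 1), (103, 1), (13, 2)]),
    ([5, 4, 4], [(4, 1)], [(28, 0), (96, 4), (73, 3), (54, 2), (28, 1), (4, 0), (85, 3), (74, 2), (40, 1), (34, 0), (87, 2), (91, 3), (12, 4), (103, 4), (11, 3), (104, 3), (101, 4), (89, 3), (103, 5), (91, 4), (13, 6), (89, 5), (78, 4), (9, 3), (91, 4), (11, 3), (91, 3), (13, 5)]),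
    ([5, 4, 0], [(28, 0), (92, 4), (69, 3), (50, 2), (24, 1), (20, 0), (34, 3), (5, 2), (98, 3), (75, 2), (104, 4), (103, 5), (91, 4), (11, 3), (104, 4), (12, 3), (101, 3), (104, 4), (13, 5), (91, 4)], [(20, 1), (24, 0), (84, 3), (73, 2), (28, 1), (103, 5), (11, 4), (13, 4), (85, 4), (55, 3), (5, 2), (101, 3), (78, 2), (13, 4), (86, 4), (75, 3), (56, 2), (103, 4), (104, 5)]),
    ([5, 4, 1], [(28, 0), (93, 4), (70, 3), (51, 2), (25, 1), (21, 0), (97, 7), (85, 6), (74, 5), (64, 4), (40, 3), (34, 2), (87, 4), (91, 5), (12, 6), (102, 6), (79, 5), (13, 7), (11, 6), (98, 7), (86, 6), (65, 5), (41, 4), (6, 3), (76, 3), (11, 4), (102, 4), (104, 5), (13, 6), (87, 5), (66, 4), (7, 3), (102, 3), (104, 4), (100, 5), (88, 4), (67, 3), (104, 6), (12, 5), (101, 5), (68, 4), (102, 6), (10, 5), (13, 5)], [(21, 1), (25, 0), (84, 5), (46,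 4), (39, 3), (33, 2), (28, 1), (98, 5), (75, 4), (56, 3), (103, 5), (13, 6), (78, 5), (9, 4), (11, 4), (99, 5), (87, 4), (101, 6), (89, 5), (103, 7), (91, 6), (104, 8), (12, 7), (100, 7), (77, 6), (58, 5), (102, 8), (79, 7), (103, 9), (11, 8), (104, 8), (98, 9), (86, 8), (65, 7), (56, 6), (48, 5), (41, 4), (6, 3), (76, 3), (11, 4), (100, 4), (104, 5), (13, 6), (89, 5), (102, 7), (90, 6), (104, 8), (12, 7), (13, 7), (66, 6), (57, 5), (49, 4), (7, 3), (100, 3), (13, 4), (10, 5)]),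
    ([5, 4, 2], [(28, 0), (94, 4), (71, 3), (52, 2), (26, 1), (22, 0), (55, 3), (47, 2), (78, 4), (101, 6), (78, 5), (9, 4), (102, 5), (79, 4), (101, 6), (78, 5), (68, 4), (104, 7), (103, 8), (91, 7), (11, 6), (13, 7)], [(22, 1), (26, 0), (63, 3), (54, 2), (28, 1), (101, 5), (78, 4), (9, 3), (103, 4), (11, 3), (102, 3), (104, 4), (13, 5), (88, 4), (67, 3), (89, 5), (68, 4)]),
    ([5, 4, 3], [(28, 0), (95, 4), (72, 3), (53, 2), (27, 1), (23, 0), (74, 5), (47, 4), (40, 3), (34, 2), (87, 4), (91, 5), (12, 6), (100, 6), (77, 5), (103, 7), (11, 6), (103, 6), (101, 7), (78, 6), (102, 8), (79, 7), (13, 9), (78, 8), (68, 7), (9, 6), (11, 7), (91, 7)], [(23, 1), (27, 0), (96, 4), (63, 3), (54, 2), (28, 1), (101, 5), (78, 4), (9, 3), (103, 4), (11, 3), (102, 3), (104, 4), (13, 5), (98, 5), (86, 4), (65, 3), (99, 6), (87, 5), (66,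 4), (100, 7), (88, 6), (67, 5), (103, 8), (91, 7)]),
    ([6, 6, 6], [(6, 0), (75, 0)], [(6, 1)]),
    ([6, 6, 0], [(6, 0), (69, 0)], [(29, 1), (29, 0), (98, 3), (75, 2), (6, 1), (11, 1), (103, 1), (13, 2)]),
    ([6, 0, 0], [(0, 1)], [(29, 0), (92, 3), (69, 2), (29, 1), (0, 0), (98, 1), (86, 0), (103, 2), (91, 1), (13, 3), (91, 2), (11, 1)]),
    ([6, 6, 1], [(6, 0), (70, 0)], [(30, 1), (30, 0), (98, 4), (75, 3), (48, 2), (6, 1), (77, 1), (103, 4), (91, 3), (11, 2), (13, 3), (88, 2), (8, 1), (104, 1), (103, 2), (91, 1), (13, 3)]),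
    ([6, 1, 1], [(1, 1)], [(30, 0), (93, 4), (70, 3), (43, 2), (30, 1), (1, 0), (98, 1), (65, 0), (100, 2), (67, 1), (103, 3), (13, 4), (77, 3), (67, 2), (8, 1), (102, 1), (103, 2), (104, 3), (13, 4), (91, 3), (11, 2), (12, 2)]),
    ([6, 1, 0], [(30, 0), (92, 4), (69, 3), (42, 2), (29, 1), (14, 0), (86, 7), (48, 6), (6, 5), (77, 5), (104, 8), (12, 7), (103, 7), (11, 6), (13, 6), (8, 5), (103, 5), (13, 6), (11, 5)], [(14, 1), (29, 0), (93, 3), (70, 2), (30, 1), (103, 5), (11, 4), (104, 4), (13, 5), (82, 4), (44, 3), (31, 2), (77, 4), (78, 5), (79, 6), (11, 7), (95, 8), (83, 7), (62, 6), (53, 5), (45, 4), (32, 3), (101, 9), (89, 8), (68, 7), (9, 6), (103, 8), (91, 7), (104, 9), (12, 8), (102, 8), (79, 7), (10, 6), (103, 7), (11, 6), (104, 6), (13, 7), (97, 7), (85, 6), (47, 5), (34, 4), (88, 6), (91, 7), (12, 8), (98, 8),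 (75, 7), (48, 6), (6, 5), (77, 5), (103, 8), (91, 7), (11, 6), (13, 7), (88, 6), (8, 5), (104, 5), (104, 6), (12, 5)]),
    ([6, 6, 2], [(6, 0), (71, 0)], [(31, 1), (31, 0), (75, 2), (6, 1), (11, 1)]),
    ([6, 2, 2], [(2, 1), (34, 0), (88, 2), (89, 3), (90, 4), (91, 5)], [(31, 0), (71, 2), (31, 1), (2, 0), (75, 4), (65, 3), (56, 2), (48, 1), (101, 4), (89, 3), (13, 5), (90, 4), (91, 5), (91, 6), (11, 5), (91, 5)]),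
    ([6, 2, 0], [(31, 0), (69, 2), (29, 1), (15, 0), (98, 5), (56, 4), (48, 3), (101, 6), (89, 5), (13, 7), (103, 7), (91, 6), (13, 8), (91, 7), (11, 6)], [(15, 1), (29, 0), (94, 3), (71, 2), (31, 1), (11, 3), (97, 3), (34, 2), (100, 5), (88, 4), (101, 6), (89, 5), (13, 7)]),
    ([6, 2, 1], [(31, 0), (70, 2), (30, 1), (16, 0), (86, 5), (75, 4), (48, 3), (103, 6), (91, 5), (104, 7), (12, 6), (100, 6), (77, 5), (8, 4), (103, 4), (13, 5), (11, 4), (103, 4), (104, 5)], [(16, 1), (30, 0), (94, 4), (71, 3), (44, 2), (31, 1), (77, 3), (78, 4), (79, 5), (11, 6), (96, 7), (73, 6), (63, 5), (54, 4), (46, 3), (33, 2), (100, 7), (88, 6), (77, 5), (58, 4), (102, 8), (90, 7), (79, 6), (103, 9), (91, 8), (11, 7), (101, 8), (89, 7), (68, 6), (9, 5), (103, 7), (91, 6), (102, 8), (90, 7), (79, 6), (10, 5), (104, 7), (12, 6), (13, 6), (11,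 5), (13, 5), (8, 4), (103, 4), (104, 5)]),
    ([6, 6, 3], [(6, 0), (72, 0)], [(32, 1), (32, 0), (6, 1)]),
    ([6, 3, 3], [(3, 1), (6, 0), (11, 0)], [(32, 0), (32, 1), (3, 0), (98, 2), (75, 1), (6, 0), (11, 0)]),
    ([6, 3, 0], [(32, 0), (29, 1), (17, 0), (98, 5), (56, 4), (48, 3), (101, 6), (89, 5), (13, 7), (103, 7), (91, 6), (13, 8)], [(17, 1), (29, 0), (95, 3), (72, 2), (32, 1), (97, 4), (74, 3), (34, 2), (91, 4), (100, 6), (88, 5), (77, 4), (101, 7), (89, 6), (78, 5), (13, 8)]),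
    ([6, 3, 1], [(32, 0), (30, 1), (18, 0), (98, 9), (86, 8), (75, 7), (65, 6), (56, 5), (41, 4), (6, 3), (76, 3), (11, 4), (101, 4), (13, 5), (100, 8), (88, 7), (77, 6), (67, 5), (58, 4), (103, 9), (91, 8), (11, 7), (13, 8)], [(18, 1), (30, 0), (95, 4), (72, 3), (45, 2), (32, 1), (103, 7), (91, 6), (13, 8), (84, 7), (73, 6), (63, 5), (54, 4), (46, 3), (33, 2), (100, 7), (88, 6), (77, 5), (58, 4), (102, 8), (90, 7), (79, 6), (103, 9), (91, 8), (11, 7), (101, 8), (89, 7), (68, 6), (9, 5), (103, 7), (91, 6), (102, 8), (90, 7), (79, 6), (10, 5), (104, 7), (12, 6), (13, 6), (11, 5), (104, 5), (98, 6), (86, 5), (48, 4), (6, 3), (77, 3), (104, 6), (12, 5), (13, 5), (76, 4), (49, 3), (103, 5), (101, 6), (78, 5), (102, 7), (79, 6), (103, 8), (11, 7), (104, 7), (13, 8)]),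
    ([6, 3, 2], [(32, 0), (31, 1), (19, 0), (98, 8), (86, 7), (65, 6), (56, 5), (48, 4), (6, 3), (77, 3), (101, 6), (89, 5), (78, 4), (13, 7), (90, 6), (79, 5), (12, 7), (103, 7), (11, 6)], [(19, 1), (31, 0), (72, 2), (32, 1), (74, 3), (34, 2), (91, 4), (86, 5), (75, 4), (6, 3), (11, 3), (88, 3), (89, 4), (90, 5), (12, 6)]),
    ([6, 6, 4], [(6, 0), (73, 0)], [(33, 1), (33, 0), (98, 5), (86, 4), (75, 3), (56, 2), (6, 1), (78, 1), (103, 3), (11, 2), (104, 2), (13, 3), (89, 2), (9, 1), (91, 1), (12, 2)]),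
    ([6, 4, 4], [(4, 1), (6, 0), (76, 0), (11, 1)], [(33, 0), (96, 5), (84, 4), (73, 3), (54, 2), (33, 1), (4, 0), (86, 3), (75, 2), (41, 1), (6, 0), (76, 0), (11, 1), (103, 1), (104, 2), (101, 3), (89, 2), (78, 1), (103, 4), (91, 3), (11, 2), (104, 3), (12, 2), (13, 2), (9, 1), (11, 1), (104, 1), (13, 2)]),
    ([6, 4, 0], [(33, 0), (92, 5), (80, 4), (69, 3), (50, 2), (29, 1), (20, 0), (6, 3), (11, 3), (101, 3), (104, 4), (13, 5), (91, 4), (12, 5)], [(20, 1), (29, 0), (96, 3), (73, 2), (33, 1), (103, 6), (91, 5), (11, 4), (13, 5), (97, 5), (85, 4), (55, 3), (34, 2), (89, 4), (104, 6), (12, 5), (13, 5), (56, 4), (6, 3), (78, 3)]),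
    ([6, 4, 1], [(33, 0), (93, 5), (81, 4), (70, 3), (51, 2), (30, 1), (21, 0), (98, 7), (86, 6), (75, 5), (65, 4), (41, 3), (6, 2), (76, 2), (11, 3), (102, 3), (103, 4), (104, 5), (13, 6), (88, 5), (77, 4), (67, 3), (91, 6), (11, 5), (101, 6), (89, 5), (68, 4), (102, 7), (90, 6), (10, 5), (13, 6), (91, 5), (12, 6)], [(21, 1), (30, 0), (96, 4), (73, 3), (46, 2), (33, 1), (100, 6), (88, 5), (77, 4), (58, 3), (102, 7), (90, 6), (79, 5), (103, 8), (91, 7), (11, 6), (103, 7), (91, 6), (13, 8), (98, 8), (86, 7), (75, 6), (65, 5), (56, 4), (48, 3), (6, 2), (77, 2), (101, 5), (89, 4), (78, 3), (13, 6), (90, 5), (79, 4), (91, 6), (11, 5), (12, 5), (99, 5), (66, 4), (57, 3), (49, 2), (101, 4), (102, 5), (13, 6), (10, 5)]),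
    ([6, 4, 2], [(33, 0), (94, 5), (82, 4), (71, 3), (52, 2), (31, 1), (22, 0), (56, 3), (48, 2), (101, 5), (89, 4), (13, 6), (91, 5), (89, 6), (78, 5), (9, 4), (12, 5), (11, 4), (13, 5)], [(22, 1), (31, 0), (73, 2), (33, 1), (103, 6), (91, 5), (11, 4), (13, 5), (88, 4), (58, 3), (89, 5), (9, 4)]),
    ([6, 4, 3], [(33, 0), (95, 5), (83, 4), (72, 3), (53, 2), (32, 1), (23, 0), (75, 5), (48, 4), (41, 3), (6, 2), (76, 2), (11, 3), (100, 3), (104, 4), (13, 5), (91, 4), (89, 5), (78, 4), (91, 6), (11, 5), (12, 5), (13, 7)], [(23, 1), (32, 0), (33, 1), (98, 6), (86, 5), (75, 4), (56, 3), (6, 2), (78, 2), (103, 4), (11, 3), (104, 3), (13, 4), (87, 3), (57, 2), (88, 4), (58, 3), (91, 5)]),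
    ([6, 6, 5], [(6, 0), (74, 0)], [(34, 1), (34, 0), (86, 2), (6, 1), (12, 2)]),
    ([6, 5, 5], [(5, 1)], [(34, 0), (85, 2), (34, 1), (5, 0), (98, 1), (75, 0), (104, 2), (104, 3), (12, 2)]),
    ([6, 5, 0], [(34, 0), (80, 2), (29, 1), (24, 0), (86, 3), (75, 2), (91, 4), (11, 3), (104, 4), (12, 3)], [(24, 1), (29, 0), (97, 3), (74, 2), (34, 1), (91, 3), (103, 5), (91, 4), (11, 3), (104, 4), (12, 3)]),
    ([6, 5, 1], [(34, 0), (81, 2), (30, 1), (25, 0), (86, 5), (48, 4), (41, 3), (6, 2), (76, 2), (11, 3), (100, 3), (104, 4), (13, 5), (12, 4), (8, 3), (103, 3), (13, 4)], [(25, 1), (30, 0), (97, 4), (74, 3), (47, 2), (34, 1), (88, 3), (91, 4), (91, 5), (11, 4), (98, 5), (86, 4), (48, 3), (6, 2), (77, 2), (104, 5), (12, 4), (13, 4), (76, 3), (49, 2), (103, 4), (100, 5), (77, 4), (8, 3), (103, 3), (13, 4)]),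
    ([6, 5, 2], [(34, 0), (82, 2), (31, 1), (26, 0), (65, 3), (56, 2), (102, 4), (103, 5), (104, 6), (13, 7)], [(26, 1), (31, 0), (74, 2), (34, 1), (91, 3), (89, 4), (78, 3), (90, 5), (79, 4)]),
    ([6, 5, 3], [(34, 0), (83, 2), (32, 1), (27, 0), (98, 4), (65, 3), (56, 2), (102, 4), (13, 5)], [(27, 1), (32, 0), (34, 1), (89, 3), (90, 4)]),
    ([6, 5, 4], [(34, 0), (84, 2), (33, 1), (28, 0), (98, 4), (75, 3), (56, 2), (103, 4), (13, 5), (78, 4), (9, 3), (11, 3), (104, 4), (12, 3)], [(28, 1), (33, 0), (97, 5), (85, 4), (74, 3), (55, 2), (34, 1), (89, 3), (103, 5), (91, 4), (104, 6), (12, 5), (13, 5), (78, 4), (9, 3), (11, 3)]),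
    ([7, 7, 7], [(7, 0), (99, 0)], [(7, 1)]),
    ([7, 7, 0], [(7, 0), (92, 0)], [(35, 1), (35, 0), (99, 3), (76, 2), (7, 1), (103, 1), (13, 2), (11, 1)]),
    ([7, 1, 1], [(1, 1)], [(36, 0), (70, 3), (43, 2), (36, 1), (1, 0), (99, 1), (66, 0), (100, 2), (67, 1), (103, 3), (100, 4), (77, 3), (67, 2), (8, 1), (102, 1), (103, 2), (13, 3), (103, 4), (91, 3), (11, 2), (104, 3), (12, 2)])]
  fuses := [
    ⟨0, [0, 0], [], [(92, 6), (80, 5), (42, 4), (29, 3), (20, 2), (17, 1), (0, 0), (95, 1), (83, 0), (13, 2), (85, 1), (88, 2), (89, 3), (96, 5), (84, 4), (54, 3), (46, 2), (28, 1), (100, 5), (77, 4), (58, 3), (102, 6), (79, 5), (103, 7), (11, 6), (101, 6), (68, 5), (9, 4), (103, 5), (104, 6), (13, 7), (85, 6), (74, 5), (64, 4), (47, 3), (5, 2), (100, 3), (77, 2), (103, 4), (11, 3), (102, 3), (13, 4), (86, 5), (75, 4), (65, 3),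 (48, 2), (102, 5), (90, 4), (103, 6), (91, 5), (104, 7), (12, 6), (98, 6), (75, 5), (65, 4), (48, 3), (6, 2), (77, 2), (102, 5), (90, 4), (79, 3), (103, 6), (91, 5), (11, 4), (13, 5), (91, 4), (100, 6), (88, 5), (77, 4), (67, 3), (8, 2), (102, 2), (103, 3), (104, 4), (13, 5), (91, 4), (11, 3), (104, 4), (12, 3), (13, 3), (62, 2), (23, 1), (3, 0), (96, 2), (73, 1), (33, 0), (103, 5), (91, 4), (11, 3), (13, 4), (98, 4), (86, 3), (56, 2), (6, 1), (78, 1), (104, 3), (13, 4), (87, 3), (76, 2), (57, 1), (88, 4), (77, 3), (58, 2), (91, 5), (11, 4), (90, 4), (91, 5), (84, 6), (73, 5), (63, 4), (54, 3), (46, 2), (39, 1), (4, 0), (87, 3), (76, 2), (7, 1), (103, 1), (104, 2), (101, 3), (89, 2), (78, 1), (103, 4), (91, 3), (11, 2), (104, 3), (12, 2), (100, 2), (58, 1), (102, 3), (103, 4), (101, 5), (78, 4), (68, 3), (9, 2), (103, 4),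 (11, 3), (102, 3), (10, 2), (104, 2), (13, 3), (91, 2), (104, 4), (12, 3), (98, 3), (75, 2), (48, 1), (6, 0), (77, 0), (103, 3), (91, 2), (11, 1), (13, 2), (88, 1), (8, 0), (104, 0), (104, 1), (12, 0), (13, 0)], [], [(101, 3), (78, 2), (68, 1), (9, 0), (102, 2), (79, 1), (10, 0), (103, 1), (11, 0), (13, 0)], []⟩,
    ⟨0, [2, 0], [0, 2], [(92, 7), (80, 6), (42, 5), (35, 4), (29, 3), (20, 2), (17, 1), (15, 0), (95, 5), (53, 4), (45, 3), (27, 2), (100, 6), (67, 5), (58, 4), (101, 7), (68, 6), (9, 5), (102, 6), (10, 5), (104, 5), (13, 6), (89, 5), (91, 6), (12, 7), (97, 7), (74, 6), (55, 5), (47, 4), (5, 3), (100, 4), (77, 3), (103, 5), (11, 4), (101, 4), (13, 5), (100, 6), (77, 5), (58, 4), (8, 3), (101, 3), (103, 4), (13, 5), (78, 4), (9, 3), (96, 4), (73, 3), (13, 5), (74, 4), (75, 5), (75, 6), (6, 5), (11, 5), (99, 6), (76,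 5), (103, 7), (11, 6), (13, 6), (104, 8), (13, 9), (83, 8), (72, 7), (45, 6), (38, 5), (27, 4), (23, 3), (3, 2), (96, 4), (73, 3), (33, 2), (103, 7), (91, 6), (11, 5), (13, 6), (98, 6), (86, 5), (56, 4), (6, 3), (78, 3), (104, 5), (13, 6), (87, 5), (76, 4), (57, 3), (88, 6), (77, 5), (58, 4), (91, 7), (11, 6), (85, 6), (55, 5), (47, 4), (40, 3), (100, 7), (88, 6), (77, 5), (103, 8), (91, 7), (11, 6), (101, 7), (89, 6), (13, 8), (12, 7), (9, 6), (99, 7), (66, 6), (49, 5), (7, 4), (100, 4), (13, 5), (102, 6), (10, 5), (103, 5), (104, 6), (100, 7), (88, 6), (77, 5), (8, 4), (103, 4), (104, 5), (13, 6), (89, 5), (78, 4), (90, 6), (79, 5), (12, 7), (103, 7), (11, 6), (104, 6), (13, 7), (84, 6), (63, 5), (54, 4), (28, 3), (4, 2), (85, 5), (74, 4), (40, 3), (34, 2), (87, 4), (91, 5), (12, 6), (103, 6), (11, 5), (104, 5), (101, 6),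 (89, 5), (103, 7), (91, 6), (13, 8), (89, 7), (78, 6), (9, 5), (91, 6), (11, 5), (90, 5), (12, 6), (104, 6), (98, 7), (86, 6), (65, 5), (41, 4), (6, 3), (76, 3), (11, 4), (102, 4), (104, 5), (13, 6), (88, 5), (67, 4), (12, 6)], [(94, 6), (82, 5), (44, 4), (31, 3), (22, 2), (19, 1), (96, 9), (84, 8), (63, 7), (54, 6), (46, 5), (33, 4), (28, 3), (98, 7), (75, 6), (56, 5), (103, 7), (13, 8), (78, 7), (9, 6), (11, 6), (100, 7), (88, 6), (102, 8), (90, 7), (103, 9), (91, 8), (101, 10), (89, 9), (78, 8), (68, 7), (103, 11), (91, 10), (11, 9), (102, 10), (90, 9), (10, 8), (104, 9), (12, 8), (13, 8), (100, 9), (88, 8), (58, 7), (8, 6), (101, 6), (104, 7), (13, 8), (89, 7), (9, 6), (86, 6), (6, 5), (91, 6), (11, 5), (88, 5), (89, 6), (90, 7), (91, 8), (12, 9), (13, 9), (72, 8), (62, 7), (53, 6), (45, 5), (27, 4), (23, 3), (3, 2),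 (96, 4), (73, 3), (33, 2), (103, 7), (91, 6), (11, 5), (13, 6), (98, 6), (86, 5), (56, 4), (6, 3), (78, 3), (104, 5), (13, 6), (87, 5), (76, 4), (57, 3), (88, 6), (77, 5), (58, 4), (91, 7), (11, 6), (85, 6), (55, 5), (47, 4), (40, 3), (100, 7), (88, 6), (77, 5), (103, 8), (91, 7), (11, 6), (101, 7), (89, 6), (13, 8), (12, 7), (9, 6), (100, 7), (67, 6), (8, 5), (102, 5), (13, 6), (68, 5), (10, 6), (101, 7), (89, 6), (9, 5), (103, 6), (91, 5), (104, 7), (12, 6), (102, 6), (79, 5), (103, 7), (11, 6), (103, 6), (96, 7), (73, 6), (63, 5), (39, 4), (28, 3), (4, 2), (85, 5), (74, 4), (40, 3), (34, 2), (87, 4), (91, 5), (12, 6), (103, 6), (11, 5), (104, 5), (101, 6), (89, 5), (103, 7), (91, 6), (13, 8), (87, 7), (76, 6), (57, 5), (7, 4), (101, 4), (103, 5), (104, 6), (101, 7), (89, 6), (78, 5), (9, 4), (103, 6), (91, 5), (11, 4),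 (104, 5), (12, 4), (102, 4), (104, 5), (13, 6), (91, 5), (13, 7), (86, 6), (75, 5), (65, 4), (6, 3), (79, 3), (11, 4), (87, 4), (66, 3), (88, 5), (67, 4), (12, 6)], [(68, 5), (10, 6)], [(92, 3), (69, 2), (59, 1), (50, 0), (102, 3), (90, 2), (103, 4), (91, 3), (104, 5), (12, 4), (13, 4), (11, 3), (95, 3), (62, 2), (53, 1), (90, 4), (79, 3), (91, 5), (11, 4), (96, 5), (84, 4), (63, 3), (54, 2), (79, 4), (104, 7), (12, 6), (13, 6), (75, 5), (65, 4), (56, 3), (102, 5), (103, 6), (100, 7), (77, 6), (67, 5), (58, 4), (102, 8), (79, 7), (10, 6)]⟩,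
    ⟨1, [1, 1], [], [(51, 1), (1, 0), (101, 1), (68, 0), (102, 2), (10, 1), (13, 1), (9, 0)], [], [(94, 9), (71, 8), (61, 7), (52, 6), (44, 5), (37, 4), (31, 3), (22, 2), (19, 1), (2, 0), (72, 4), (62, 3), (53, 2), (45, 1), (27, 0), (100, 4), (67, 3), (58, 2), (101, 5), (68, 4), (9, 3), (102, 4), (10, 3), (104, 3), (13, 4), (89, 3), (91, 4), (12, 5), (79, 4), (11, 5), (74, 5), (64, 4), (55, 3), (47, 2), (5, 1), (100, 2), (77, 1), (103, 3), (11, 2), (101, 2), (13, 3), (103, 4), (98, 5), (75, 4), (65, 3), (56, 2), (48, 1), (101, 4), (89, 3), (13, 5), (90, 4), (91, 5), (100, 7), (88, 6), (77, 5), (67, 4), (58, 3), (8, 2), (101, 2), (102, 3), (103, 4), (104, 5), (13, 6), (89, 5), (78, 4), (68, 3), (9, 2), (90, 4), (79, 3), (10, 2), (12, 3), (96, 3), (73, 2), (33, 1), (103, 6), (91, 5), (11, 4), (13, 5), (100, 5), (88, 4), (58,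 3), (101, 6), (89, 5), (9, 4), (98, 5), (86, 4), (48, 3), (6, 2), (77, 2), (104, 5), (12, 4), (13, 4), (11, 3), (49, 2), (102, 4), (103, 5), (100, 6), (77, 5), (67, 4), (8, 3), (102, 3), (103, 4), (13, 5), (78, 4), (68, 3), (79, 5), (10, 4), (11, 4), (9, 3), (90, 3), (91, 4), (12, 5), (11, 4), (95, 4), (62, 3), (38, 2), (23, 1), (3, 0), (96, 2), (73, 1), (33, 0), (103, 5), (91, 4), (11, 3), (13, 4), (98, 4), (86, 3), (56, 2), (6, 1), (78, 1), (104, 3), (13, 4), (87, 3), (76, 2), (57, 1), (88, 4), (77, 3), (58, 2), (91, 5), (11, 4), (87, 4), (57, 3), (49, 2), (7, 1), (100, 1), (13, 2), (90, 3), (91, 4), (12, 5), (79, 4), (10, 3), (11, 3), (96, 3), (54, 2), (46, 1), (4, 0), (88, 3), (77, 2), (90, 4), (79, 3), (91, 5), (11, 4), (89, 4), (68, 3), (91, 5), (98, 7), (86, 6), (75, 5), (65, 4), (56, 3), (48, 2), (41, 1), (6, 0),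 (76, 0), (11, 1), (100, 1), (104, 2), (13, 3), (89, 2), (102, 4), (90, 3), (103, 5), (91, 4), (104, 6), (12, 5), (13, 5), (76, 4), (66, 3), (57, 2), (49, 1), (7, 0), (100, 0), (13, 1), (77, 3), (67, 2), (58, 1), (8, 0), (101, 0), (102, 1), (103, 2), (101, 3), (78, 2), (68, 1), (9, 0), (102, 2), (79, 1), (10, 0), (103, 1), (11, 0), (13, 0)], []⟩,
    ⟨2, [0, 0], [5, 6, 7, 8], [(35, 3), (20, 2), (17, 1), (0, 0), (95, 1), (83, 0), (13, 2), (85, 1), (88, 2), (89, 3), (96, 5), (84, 4), (54, 3), (46, 2), (28, 1), (100, 5), (77, 4), (58, 3), (102, 6), (79, 5), (103, 7), (11, 6), (101, 6), (68, 5), (9, 4), (103, 5), (104, 6), (13, 7), (85, 6), (74, 5), (64, 4), (47, 3), (5, 2), (100, 3), (77, 2), (103, 4), (11, 3), (102, 3), (13, 4), (86, 5), (75, 4), (65, 3), (48, 2), (102, 5), (90, 4), (103, 6), (91, 5), (104, 7), (12, 6), (99,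 6), (76, 5), (66, 4), (49, 3), (102, 5), (103, 6), (13, 7), (11, 6), (95, 6), (62, 5), (45, 4), (38, 3), (32, 2), (23, 1), (3, 0), (96, 2), (73, 1), (33, 0), (103, 5), (91, 4), (11, 3), (13, 4), (98, 4), (86, 3), (56, 2), (6, 1), (78, 1), (104, 3), (13, 4), (87, 3), (76, 2), (57, 1), (88, 4), (77, 3), (58, 2), (91, 5), (11, 4), (86, 4), (56, 3), (48, 2), (41, 1), (100, 4), (77, 3), (104, 5), (13, 6), (89, 5), (78, 4), (104, 7), (12, 6), (99, 6), (76, 5), (57, 4), (49, 3), (7, 2), (100, 2), (13, 3), (102, 5), (79, 4), (103, 6), (11, 5), (104, 5), (100, 6), (88, 5), (67, 4), (58, 3), (8, 2), (101, 2), (102, 3), (104, 4), (13, 5), (89, 4), (68, 3), (9, 2), (90, 3), (10, 2), (12, 2), (102, 2), (103, 3), (13, 4), (73, 3), (63, 2), (33, 1), (4, 0), (86, 3), (75, 2), (41, 1), (6, 0), (76, 0), (11, 1), (103, 1), (104, 2), (101, 3),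 (89, 2), (78, 1), (103, 4), (91, 3), (11, 2), (104, 3), (12, 2), (13, 2), (103, 4), (91, 3), (13, 5), (87, 4), (76, 3), (66, 2), (57, 1), (7, 0), (101, 0), (102, 1), (103, 2), (104, 3)], [(79, 1)], [(92, 8), (80, 7), (69, 6), (59, 5), (50, 4), (35, 3), (20, 2), (17, 1), (0, 0), (95, 1), (83, 0), (13, 2), (85, 1), (88, 2), (89, 3), (96, 5), (84, 4), (54, 3), (46, 2), (28, 1), (100, 5), (77, 4), (58, 3), (102, 6), (79, 5), (103, 7), (11, 6), (101, 6), (68, 5), (9, 4), (103, 5), (104, 6), (13, 7), (85, 6), (74, 5), (64, 4), (47, 3), (5, 2), (100, 3), (77, 2), (103, 4), (11, 3), (102, 3), (13, 4), (86, 5), (75, 4), (65, 3), (48, 2), (102, 5), (90, 4), (103, 6), (91, 5), (104, 7), (12, 6), (99, 6), (76, 5), (66, 4), (49, 3), (102, 5), (103, 6), (13, 7), (11, 6), (101, 6), (68, 5), (104, 7), (13, 8), (90, 7), (10, 6), (91, 6),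 (12, 7), (103, 7), (11, 6), (104, 6), (13, 7), (83, 6), (53, 5), (45, 4), (38, 3), (32, 2), (23, 1), (3, 0), (96, 2), (73, 1), (33, 0), (103, 5), (91, 4), (11, 3), (13, 4), (98, 4), (86, 3), (56, 2), (6, 1), (78, 1), (104, 3), (13, 4), (87, 3), (76, 2), (57, 1), (88, 4), (77, 3), (58, 2), (91, 5), (11, 4), (86, 4), (56, 3), (48, 2), (41, 1), (100, 4), (77, 3), (104, 5), (13, 6), (89, 5), (78, 4), (104, 7), (12, 6), (99, 6), (76, 5), (57, 4), (49, 3), (7, 2), (100, 2), (13, 3), (102, 5), (79, 4), (103, 6), (11, 5), (104, 5), (100, 6), (88, 5), (67, 4), (58, 3), (8, 2), (101, 2), (102, 3), (104, 4), (13, 5), (89, 4), (68, 3), (9, 2), (90, 3), (10, 2), (12, 2), (101, 2), (103, 3), (104, 4), (104, 5), (12, 4), (13, 4), (73, 3), (54, 2), (33, 1), (4, 0), (86, 3), (75, 2), (41, 1), (6, 0), (76, 0), (11, 1), (103, 1), (104, 2),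 (101, 3), (89, 2), (78, 1), (103, 4), (91, 3), (11, 2), (104, 3), (12, 2), (13, 2), (9, 1), (11, 1), (99, 1), (7, 0), (13, 0)], [(71, 1), (52, 0), (91, 2), (83, 3), (72, 2), (53, 1), (91, 4), (11, 3), (12, 3), (96, 3), (54, 2), (98, 5), (75, 4), (56, 3), (103, 5), (13, 6), (76, 5), (57, 4), (77, 6), (58, 5), (78, 7), (9, 6), (79, 6), (11, 7), (94, 7), (61, 6), (44, 5), (37, 4), (31, 3), (22, 2), (19, 1), (2, 0), (72, 4), (62, 3), (53, 2), (45, 1), (27, 0), (100, 4), (67, 3), (58, 2), (101, 5), (68, 4), (9, 3), (102, 4), (10, 3), (104, 3), (13, 4), (89, 3), (91, 4), (12, 5), (79, 4), (11, 5), (74, 5), (64, 4), (55, 3), (47, 2), (5, 1), (100, 2), (77, 1), (103, 3), (11, 2), (101, 2), (13, 3), (103, 4), (98, 5), (75, 4), (65, 3), (56, 2), (48, 1), (101, 4), (89, 3), (13, 5), (90, 4), (91, 5), (100, 7), (88, 6), (77, 5), (67,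 4), (58, 3), (8, 2), (101, 2), (102, 3), (103, 4), (104, 5), (13, 6), (89, 5), (78, 4), (68, 3), (9, 2), (90, 4), (79, 3), (10, 2), (12, 3), (96, 3), (73, 2), (33, 1), (103, 6), (91, 5), (11, 4), (13, 5), (100, 5), (88, 4), (58, 3), (101, 6), (89, 5), (9, 4), (98, 5), (86, 4), (48, 3), (6, 2), (77, 2), (104, 5), (12, 4), (13, 4), (11, 3), (49, 2), (102, 4), (103, 5), (100, 6), (77, 5), (67, 4), (8, 3), (102, 3), (103, 4), (13, 5), (78, 4), (68, 3), (79, 5), (10, 4), (11, 4), (95, 7), (83, 6), (72, 5), (62, 4), (53, 3), (38, 2), (23, 1), (3, 0), (96, 2), (73, 1), (33, 0), (103, 5), (91, 4), (11, 3), (13, 4), (98, 4), (86, 3), (56, 2), (6, 1), (78, 1), (104, 3), (13, 4), (87, 3), (76, 2), (57, 1), (88, 4), (77, 3), (58, 2), (91, 5), (11, 4), (87, 4), (57, 3), (49, 2), (7, 1), (100, 1), (13, 2), (90, 3), (91, 4), (12, 5), (78,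 4), (68, 3), (9, 2), (11, 3), (90, 3), (10, 2), (91, 2), (91, 3), (11, 2), (12, 2), (13, 2), (46, 1), (4, 0), (88, 3), (77, 2), (90, 4), (79, 3), (91, 5), (11, 4), (86, 4), (65, 3), (48, 2), (41, 1), (6, 0), (76, 0), (11, 1), (100, 1), (104, 2), (13, 3), (90, 2), (12, 3), (66, 2), (49, 1), (7, 0), (100, 0), (13, 1), (67, 1), (8, 0), (102, 0), (101, 1), (68, 0), (102, 2), (10, 1), (103, 1), (102, 2), (79, 1), (104, 3)]⟩,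
    ⟨2, [2, 0], [0, 2, 5, 7, 8], [(20, 2), (17, 1), (15, 0), (95, 5), (53, 4), (45, 3), (27, 2), (100, 6), (67, 5), (58, 4), (101, 7), (68, 6), (9, 5), (102, 6), (10, 5), (104, 5), (13, 6), (89, 5), (91, 6), (12, 7), (97, 7), (74, 6), (55, 5), (47, 4), (5, 3), (100, 4), (77, 3), (103, 5), (11, 4), (101, 4), (13, 5), (100, 6), (77, 5), (58, 4), (8, 3), (101, 3), (103, 4), (13, 5), (78, 4), (9, 3), (96, 4), (73, 3), (13, 5), (74, 4), (75, 5), (72, 6), (32, 5), (27, 4), (23, 3), (3, 2), (96, 4), (73, 3), (33, 2), (103, 7), (91, 6), (11, 5), (13, 6), (98, 6), (86, 5), (56, 4), (6, 3), (78, 3), (104, 5), (13, 6), (87, 5), (76, 4), (57, 3), (88, 6), (77, 5), (58, 4), (91, 7), (11, 6), (85, 6), (55, 5), (47, 4), (40, 3), (100, 7), (88, 6), (77, 5), (103, 8), (91, 7), (11, 6), (101, 7), (89, 6), (13, 8), (12, 7), (9, 6), (98, 7),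 (65, 6), (48, 5), (41, 4), (100, 7), (77, 6), (104, 8), (13, 9), (90, 8), (79, 7), (103, 10), (91, 9), (11, 8), (96, 9), (84, 8), (63, 7), (46, 6), (39, 5), (33, 4), (28, 3), (4, 2), (85, 5), (74, 4), (40, 3), (34, 2), (87, 4), (91, 5), (12, 6), (103, 6), (11, 5), (104, 5), (101, 6), (89, 5), (103, 7), (91, 6), (13, 8), (86, 7), (75, 6), (56, 5), (41, 4), (6, 3), (76, 3), (11, 4), (101, 4), (13, 5), (89, 6), (78, 5), (9, 4), (91, 5), (11, 4), (12, 4), (99, 4), (7, 3), (13, 3), (88, 5), (77, 4), (58, 3), (90, 6), (79, 5), (91, 7), (11, 6), (90, 6), (10, 5), (12, 5), (104, 5), (13, 6), (87, 5), (57, 4), (49, 3), (101, 5), (104, 6)], [(37, 3), (22, 2), (19, 1), (96, 9), (84, 8), (63, 7), (54, 6), (46, 5), (33, 4), (28, 3), (98, 7), (75, 6), (56, 5), (103, 7), (13, 8), (78, 7), (9, 6), (11, 6), (100, 7), (88, 6), (102, 8), (90,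 7), (103, 9), (91, 8), (101, 10), (89, 9), (78, 8), (68, 7), (103, 11), (91, 10), (11, 9), (102, 10), (90, 9), (10, 8), (104, 9), (12, 8), (13, 8), (100, 9), (88, 8), (58, 7), (8, 6), (101, 6), (104, 7), (13, 8), (89, 7), (9, 6), (87, 6), (90, 7), (91, 8), (83, 9), (72, 8), (62, 7), (38, 6), (32, 5), (27, 4), (23, 3), (3, 2), (96, 4), (73, 3), (33, 2), (103, 7), (91, 6), (11, 5), (13, 6), (98, 6), (86, 5), (56, 4), (6, 3), (78, 3), (104, 5), (13, 6), (87, 5), (76, 4), (57, 3), (88, 6), (77, 5), (58, 4), (91, 7), (11, 6), (85, 6), (55, 5), (47, 4), (40, 3), (100, 7), (88, 6), (77, 5), (103, 8), (91, 7), (11, 6), (101, 7), (89, 6), (13, 8), (12, 7), (9, 6), (98, 7), (65, 6), (48, 5), (41, 4), (100, 7), (77, 6), (104, 8), (13, 9), (90, 8), (79, 7), (99, 10), (87, 9), (76, 8), (66, 7), (49, 6), (7, 5), (100, 5), (13, 6), (102,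 9), (90, 8), (79, 7), (10, 6), (103, 8), (91, 7), (11, 6), (104, 7), (12, 6), (102, 6), (103, 7), (103, 8), (11, 7), (104, 7), (13, 8), (84, 7), (63, 6), (46, 5), (33, 4), (28, 3), (4, 2), (85, 5), (74, 4), (40, 3), (34, 2), (87, 4), (91, 5), (12, 6), (103, 6), (11, 5), (104, 5), (101, 6), (89, 5), (103, 7), (91, 6), (13, 8), (86, 7), (75, 6), (56, 5), (41, 4), (6, 3), (76, 3), (11, 4), (101, 4), (13, 5), (89, 6), (78, 5), (9, 4), (91, 5), (11, 4), (12, 4), (100, 4), (102, 5), (103, 6), (102, 7), (79, 6), (10, 5), (104, 6), (13, 7), (12, 6), (78, 5), (11, 6)], [(92, 7), (69, 6), (29, 5), (24, 4), (20, 3), (15, 2), (14, 1), (0, 0), (93, 1), (81, 0), (94, 2), (82, 1), (13, 3), (83, 2), (97, 4), (85, 3), (98, 5), (86, 4), (100, 6), (88, 5), (104, 7), (12, 6), (94, 6), (44, 5), (31, 4), (26, 3), (19, 2), (2, 1), (72, 5), (62,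 4), (53, 3), (45, 2), (27, 1), (100, 5), (67, 4), (58, 3), (101, 6), (68, 5), (9, 4), (102, 5), (10, 4), (104, 4), (13, 5), (89, 4), (91, 5), (12, 6), (79, 5), (11, 6), (74, 6), (64, 5), (55, 4), (47, 3), (5, 2), (100, 3), (77, 2), (103, 4), (11, 3), (101, 3), (13, 4), (103, 5), (98, 6), (75, 5), (65, 4), (56, 3), (48, 2), (101, 5), (89, 4), (13, 6), (90, 5), (91, 6), (100, 8), (88, 7), (77, 6), (67, 5), (58, 4), (8, 3), (101, 3), (102, 4), (103, 5), (104, 6), (13, 7), (89, 6), (78, 5), (68, 4), (9, 3), (90, 5), (79, 4), (10, 3), (12, 4), (97, 4), (74, 3), (34, 2), (91, 4), (101, 6), (89, 5), (78, 4), (102, 7), (90, 6), (79, 5), (98, 8), (86, 7), (75, 6), (65, 5), (56, 4), (6, 3), (78, 3), (102, 5), (79, 4), (103, 6), (11, 5), (104, 5), (13, 6), (91, 5), (88, 6), (77, 5), (67, 4), (58, 3), (89, 7), (78, 6), (68, 5), (9, 4),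 (90, 6), (79, 5), (10, 4), (91, 5), (11, 4), (97, 5), (85, 4), (47, 3), (5, 2), (100, 3), (77, 2), (103, 4), (11, 3), (104, 3), (13, 4), (88, 3), (8, 2), (104, 2), (101, 3), (89, 2), (13, 4), (84, 3), (54, 2), (85, 5), (74, 4), (55, 3), (103, 5), (104, 6), (98, 7), (86, 6), (75, 5), (56, 4), (103, 6), (104, 7), (13, 8), (85, 7), (74, 6), (55, 5), (34, 4), (5, 3), (98, 4), (75, 3), (104, 5), (101, 6), (89, 5), (78, 4), (13, 7), (91, 6), (11, 5), (12, 5), (86, 6), (75, 5), (56, 4), (6, 3), (78, 3), (103, 5), (11, 4), (104, 4), (103, 5), (91, 4), (13, 6), (91, 5), (11, 4), (95, 5), (83, 4), (53, 3), (23, 2), (3, 1), (96, 3), (73, 2), (33, 1), (103, 6), (91, 5), (11, 4), (13, 5), (98, 5), (86, 4), (56, 3), (6, 2), (78, 2), (104, 4), (13, 5), (87, 4), (76, 3), (57, 2), (88, 5), (77, 4), (58, 3), (91, 6), (11, 5), (89, 5), (9,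 4), (91, 4), (12, 5), (13, 6), (84, 5), (73, 4), (46, 3), (39, 2), (4, 1), (87, 4), (76, 3), (7, 2), (103, 2), (104, 3), (101, 4), (89, 3), (78, 2), (103, 5), (91, 4), (11, 3), (104, 4), (12, 3), (100, 3), (58, 2), (102, 4), (103, 5), (103, 6), (11, 5), (13, 5), (87, 5), (66, 4), (57, 3), (49, 2), (101, 4), (102, 5), (104, 6), (101, 7), (89, 6), (68, 5), (9, 4), (102, 6), (90, 5), (10, 4), (103, 5), (91, 4), (104, 6), (12, 5), (13, 5)], [(92, 8), (80, 7), (69, 6), (59, 5), (50, 4), (35, 3), (20, 2), (17, 1), (0, 0), (95, 1), (83, 0), (13, 2), (85, 1), (88, 2), (89, 3), (96, 5), (84, 4), (54, 3), (46, 2), (28, 1), (100, 5), (77, 4), (58, 3), (102, 6), (79, 5), (103, 7), (11, 6), (101, 6), (68, 5), (9, 4), (103, 5), (104, 6), (13, 7), (85, 6), (74, 5), (64, 4), (47, 3), (5, 2), (100, 3), (77, 2), (103, 4), (11, 3), (102, 3),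 (13, 4), (86, 5), (75, 4), (65, 3), (48, 2), (102, 5), (90, 4), (103, 6), (91, 5), (104, 7), (12, 6), (99, 6), (76, 5), (66, 4), (49, 3), (102, 5), (103, 6), (13, 7), (11, 6), (101, 6), (68, 5), (104, 7), (13, 8), (90, 7), (10, 6), (91, 6), (12, 7), (103, 7), (11, 6), (104, 6), (13, 7), (81, 6), (51, 5), (43, 4), (36, 3), (30, 2), (21, 1), (18, 0), (96, 9), (84, 8), (73, 7), (63, 6), (54, 5), (39, 4), (33, 3), (4, 2), (86, 5), (75, 4), (41, 3), (6, 2), (76, 2), (11, 3), (103, 3), (104, 4), (101, 5), (89, 4), (78, 3), (103, 6), (91, 5), (11, 4), (104, 5), (12, 4), (13, 4), (57, 3), (7, 2), (101, 2), (101, 3), (9, 2), (103, 2), (104, 3), (101, 4), (89, 3), (78, 2), (103, 5), (91, 4), (11, 3), (102, 4), (90, 3), (104, 5), (12, 4), (13, 4), (104, 5), (13, 6), (86, 5), (75, 4), (65, 3), (56, 2), (102, 4), (103, 5), (104, 6), (99,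 7), (87, 6), (76, 5), (66, 4), (57, 3), (102, 8), (90, 7), (79, 6), (10, 5), (103, 7), (91, 6), (11, 5), (104, 6), (12, 5), (13, 5), (56, 4), (41, 3), (6, 2), (76, 2), (11, 3), (101, 3), (13, 4), (58, 3), (99, 6), (76, 5), (57, 4), (49, 3), (7, 2), (100, 2), (13, 3), (100, 5), (77, 4), (58, 3), (8, 2), (101, 2), (103, 3), (13, 4), (11, 3), (58, 2), (101, 5), (89, 4), (9, 3), (102, 4), (90, 3), (13, 5), (12, 4), (61, 3), (44, 2), (19, 1), (100, 9), (88, 8), (67, 7), (58, 6), (8, 5), (101, 5), (102, 6), (104, 7), (13, 8), (89, 7), (68, 6), (9, 5), (90, 6), (10, 5), (91, 5), (90, 6), (79, 5), (91, 7), (11, 6), (12, 6), (63, 5), (33, 4), (28, 3), (98, 7), (75, 6), (56, 5), (103, 7), (13, 8), (78, 7), (9, 6), (11, 6), (102, 7), (90, 6), (104, 8), (12, 7), (13, 7), (64, 6), (34, 5), (5, 4), (98, 5), (75, 4), (104, 6), (102, 7),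 (90, 6), (79, 5), (13, 8), (86, 7), (75, 6), (65, 5), (6, 4), (79, 4), (11, 5), (91, 5), (101, 7), (89, 6), (78, 5), (68, 4), (103, 8), (91, 7), (11, 6), (94, 7), (82, 6), (61, 5), (52, 4), (22, 3), (19, 2), (2, 1), (72, 5), (62, 4), (53, 3), (45, 2), (27, 1), (100, 5), (67, 4), (58, 3), (101, 6), (68, 5), (9, 4), (102, 5), (10, 4), (104, 4), (13, 5), (89, 4), (91, 5), (12, 6), (79, 5), (11, 6), (74, 6), (64, 5), (55, 4), (47, 3), (5, 2), (100, 3), (77, 2), (103, 4), (11, 3), (101, 3), (13, 4), (103, 5), (98, 6), (75, 5), (65, 4), (56, 3), (48, 2), (101, 5), (89, 4), (13, 6), (90, 5), (91, 6), (100, 8), (88, 7), (77, 6), (67, 5), (58, 4), (8, 3), (101, 3), (102, 4), (103, 5), (104, 6), (13, 7), (89, 6), (78, 5), (68, 4), (9, 3), (90, 5), (79, 4), (10, 3), (12, 4), (96, 4), (73, 3), (33, 2), (103, 7), (91, 6), (11, 5), (13,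 6), (100, 6), (88, 5), (58, 4), (101, 7), (89, 6), (9, 5), (101, 6), (89, 5), (104, 7), (12, 6), (102, 6), (103, 7), (104, 8), (104, 9), (12, 8), (13, 8), (95, 8), (72, 7), (62, 6), (53, 5), (45, 4), (32, 3), (23, 2), (3, 1), (96, 3), (73, 2), (33, 1), (103, 6), (91, 5), (11, 4), (13, 5), (98, 5), (86, 4), (56, 3), (6, 2), (78, 2), (104, 4), (13, 5), (87, 4), (76, 3), (57, 2), (88, 5), (77, 4), (58, 3), (91, 6), (11, 5), (86, 5), (56, 4), (48, 3), (41, 2), (100, 5), (77, 4), (104, 6), (13, 7), (89, 6), (78, 5), (104, 8), (12, 7), (100, 7), (77, 6), (58, 5), (8, 4), (101, 4), (103, 5), (13, 6), (78, 5), (9, 4), (79, 4), (101, 7), (89, 6), (78, 5), (68, 4), (103, 8), (91, 7), (11, 6), (104, 7), (12, 6), (102, 6), (10, 5), (103, 5), (103, 6), (11, 5), (13, 5), (54, 4), (39, 3), (33, 2), (4, 1), (86, 4), (75, 3), (41, 2), (6,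 1), (76, 1), (11, 2), (103, 2), (104, 3), (101, 4), (89, 3), (78, 2), (103, 5), (91, 4), (11, 3), (104, 4), (12, 3), (13, 3), (57, 2), (7, 1), (101, 1), (101, 2), (9, 1), (103, 1), (104, 2), (101, 3), (89, 2), (78, 1), (103, 4), (91, 3), (11, 2), (98, 3), (86, 2), (56, 1), (104, 3), (13, 4), (87, 3), (57, 2), (88, 4), (58, 3), (89, 5), (9, 4), (90, 4), (91, 5), (90, 6), (79, 5), (10, 4), (12, 5)]⟩,
    ⟨2, [3, 0], [0, 3, 6], [(35, 1), (29, 0), (99, 3), (76, 2), (103, 4), (11, 3), (13, 3), (38, 2), (32, 1), (84, 6), (73, 5), (63, 4), (39, 3), (33, 2), (99, 7), (87, 6), (76, 5), (57, 4), (101, 8), (89, 7), (78, 6), (9, 5), (103, 7), (91, 6), (11, 5), (104, 6), (12, 5), (102, 5), (104, 6), (13, 7), (91, 6), (104, 8), (12, 7), (99, 7), (76, 6), (66, 5), (7, 4), (102, 4), (103, 5), (13, 6)], [(41, 3), (99, 6), (76, 5), (7, 4),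 (103, 4), (13, 5), (79, 4)], [(69, 5), (42, 4), (20, 3), (17, 2), (15, 1), (14, 0), (82, 7), (44, 6), (31, 5), (26, 4), (19, 3), (2, 2), (72, 6), (62, 5), (53, 4), (45, 3), (27, 2), (100, 6), (67, 5), (58, 4), (101, 7), (68, 6), (9, 5), (102, 6), (10, 5), (104, 5), (13, 6), (89, 5), (91, 6), (12, 7), (79, 6), (11, 7), (74, 7), (64, 6), (55, 5), (47, 4), (5, 3), (100, 4), (77, 3), (103, 5), (11, 4), (101, 4), (13, 5), (103, 6), (98, 7), (75, 6), (65, 5), (56, 4), (48, 3), (101, 6), (89, 5), (13, 7), (90, 6), (91, 7), (100, 9), (88, 8), (77, 7), (67, 6), (58, 5), (8, 4), (101, 4), (102, 5), (103, 6), (104, 7), (13, 8), (89, 7), (78, 6), (68, 5), (9, 4), (90, 6), (79, 5), (10, 4), (12, 5), (97, 5), (74, 4), (34, 3), (91, 5), (101, 7), (89, 6), (78, 5), (102, 8), (90, 7), (79, 6), (98, 9), (86, 8), (75, 7), (65, 6), (56, 5),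 (6, 4), (78, 4), (102, 6), (79, 5), (103, 7), (11, 6), (104, 6), (13, 7), (91, 6), (88, 7), (77, 6), (67, 5), (58, 4), (89, 8), (78, 7), (68, 6), (9, 5), (90, 7), (79, 6), (10, 5), (91, 6), (11, 5), (12, 5), (97, 5), (47, 4), (5, 3), (100, 4), (77, 3), (103, 5), (11, 4), (13, 4), (8, 3), (101, 3), (13, 4), (53, 3), (3, 2), (101, 4), (78, 3), (103, 5), (11, 4), (104, 4), (97, 5), (85, 4), (55, 3), (34, 2), (89, 4), (104, 6), (12, 5), (13, 5), (58, 4), (9, 5), (96, 5), (46, 4), (33, 3), (28, 2), (98, 6), (75, 5), (56, 4), (103, 6), (13, 7), (78, 6), (9, 5), (11, 5), (100, 6), (88, 5), (102, 7), (90, 6), (103, 8), (91, 7), (13, 9), (85, 8), (74, 7), (64, 6), (47, 5), (34, 4), (5, 3), (98, 4), (75, 3), (104, 5), (100, 6), (88, 5), (77, 4), (103, 7), (91, 6), (11, 5), (102, 6), (90, 5), (13, 7), (91, 6), (12, 7), (75, 6), (65,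 5), (48, 4), (6, 3), (77, 3), (102, 6), (90, 5), (79, 4), (103, 7), (91, 6), (11, 5), (100, 6), (88, 5), (67, 4), (8, 3), (102, 3), (104, 4), (13, 5), (91, 4), (103, 6), (91, 5), (11, 4), (95, 5), (83, 4), (62, 3), (23, 2), (79, 7), (11, 8), (13, 9), (84, 8), (63, 7), (46, 6), (39, 5), (33, 4), (4, 3), (86, 6), (75, 5), (41, 4), (6, 3), (76, 3), (11, 4), (103, 4), (104, 5), (101, 6), (89, 5), (78, 4), (103, 7), (91, 6), (11, 5), (104, 6), (12, 5), (13, 5), (57, 4), (7, 3), (101, 3), (101, 4), (9, 3), (103, 3), (104, 4), (100, 5), (88, 4), (77, 3), (102, 6), (90, 5), (79, 4), (103, 7), (91, 6), (11, 5), (102, 6), (90, 5), (10, 4), (104, 5), (12, 4), (13, 4), (87, 4), (49, 3), (104, 5), (101, 6), (89, 5), (102, 7), (90, 6), (103, 8), (91, 7), (104, 9), (12, 8), (13, 8)], [(93, 8), (81, 7), (70, 6), (60, 5), (51, 4), (36, 3),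 (21, 2), (18, 1), (96, 10), (84, 9), (73, 8), (63, 7), (54, 6), (39, 5), (33, 4), (4, 3), (86, 6), (75, 5), (41, 4), (6, 3), (76, 3), (11, 4), (103, 4), (104, 5), (101, 6), (89, 5), (78, 4), (103, 7), (91, 6), (11, 5), (104, 6), (12, 5), (13, 5), (57, 4), (7, 3), (101, 3), (101, 4), (9, 3), (103, 3), (104, 4), (101, 5), (89, 4), (78, 3), (103, 6), (91, 5), (11, 4), (102, 5), (90, 4), (104, 6), (12, 5), (13, 5), (104, 6), (13, 7), (86, 6), (75, 5), (65, 4), (56, 3), (102, 5), (103, 6), (104, 7), (99, 8), (87, 7), (76, 6), (66, 5), (57, 4), (102, 9), (90, 8), (79, 7), (10, 6), (103, 8), (91, 7), (11, 6), (104, 7), (12, 6), (13, 6), (57, 5), (7, 4), (101, 4), (100, 5), (58, 4), (103, 6), (101, 7), (78, 6), (9, 5), (102, 6), (79, 5), (13, 7), (79, 6), (10, 5), (11, 5), (12, 5), (94, 5), (44, 4), (31, 3), (19, 2), (98, 10), (86,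 9), (65, 8), (56, 7), (48, 6), (6, 5), (77, 5), (101, 8), (89, 7), (78, 6), (13, 9), (90, 8), (79, 7), (12, 9), (103, 9), (11, 8), (100, 8), (67, 7), (58, 6), (8, 5), (101, 5), (102, 6), (13, 7), (68, 6), (9, 5), (10, 5), (95, 6), (72, 5), (27, 4), (3, 3), (97, 5), (74, 4), (34, 3), (91, 5), (101, 7), (89, 6), (78, 5), (102, 8), (90, 7), (79, 6), (13, 9), (91, 8), (11, 7), (96, 8), (84, 7), (63, 6), (54, 5), (33, 4), (28, 3), (98, 7), (75, 6), (56, 5), (103, 7), (13, 8), (78, 7), (9, 6), (11, 6), (101, 7), (89, 6), (103, 8), (91, 7), (102, 9), (90, 8), (79, 7), (104, 10), (12, 9), (13, 9), (100, 10), (88, 9), (77, 8), (67, 7), (58, 6), (103, 11), (91, 10), (11, 9), (94, 10), (82, 9), (61, 8), (52, 7), (44, 6), (31, 5), (26, 4), (22, 3), (2, 2), (73, 6), (63, 5), (54, 4), (46, 3), (28, 2), (100, 6), (77, 5), (58, 4), (102,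 7), (79, 6), (103, 8), (11, 7), (101, 7), (68, 6), (9, 5), (103, 6), (102, 7), (79, 6), (10, 5), (104, 6), (13, 7), (91, 6), (11, 5), (100, 6), (88, 5), (8, 4), (104, 4), (13, 5), (89, 4), (85, 5), (55, 4), (5, 3), (101, 4), (78, 3), (13, 5), (89, 5), (78, 4), (9, 3), (90, 4), (79, 3), (86, 5), (75, 4), (65, 3), (91, 6), (11, 5), (88, 5), (67, 4), (89, 6), (68, 5), (90, 7), (10, 6), (91, 6), (89, 7), (78, 6), (9, 5), (12, 6), (79, 5), (11, 6), (12, 6), (13, 6), (62, 5), (45, 4), (32, 3), (23, 2), (75, 7), (48, 6), (41, 5), (6, 4), (76, 4), (11, 5), (100, 5), (104, 6), (13, 7), (91, 6), (88, 7), (77, 6), (8, 5), (103, 5), (104, 6), (101, 7), (89, 6), (78, 5), (102, 8), (90, 7), (79, 6), (104, 9), (12, 8), (13, 8), (79, 7), (10, 6), (11, 6), (54, 5), (39, 4), (4, 3), (87, 6), (76, 5), (7, 4), (103, 4), (104, 5), (101, 6), (89,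 5), (78, 4), (103, 7), (91, 6), (11, 5), (104, 6), (12, 5), (101, 5), (9, 4), (103, 4), (98, 5), (75, 4), (6, 3), (11, 3), (99, 3), (100, 4), (101, 5), (102, 6), (103, 7), (13, 8)]⟩,
    ⟨2, [4, 0], [0, 4, 5, 8], [(42, 0), (95, 3), (72, 2), (45, 1), (103, 6), (91, 5), (13, 7), (84, 6), (73, 5), (63, 4), (54, 3), (46, 2), (78, 5), (68, 4), (11, 6), (10, 5), (103, 6), (91, 5), (13, 7), (12, 6), (76, 5), (57, 4), (49, 3), (101, 5), (103, 6)], [], [(59, 5), (42, 4), (29, 3), (24, 2), (15, 1), (0, 0), (94, 1), (82, 0), (13, 2), (85, 1), (88, 2), (89, 3), (97, 5), (85, 4), (55, 3), (47, 2), (5, 1), (100, 2), (77, 1), (103, 3), (11, 2), (101, 2), (13, 3), (103, 4), (91, 3), (104, 5), (12, 4), (98, 4), (75, 3), (56, 2), (48, 1), (101, 4), (89, 3), (13, 5), (91, 4), (103, 6), (91, 5), (11, 4), (13, 5), (88, 4), (58, 3), (8, 2), (101,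 2), (104, 3), (103, 4), (91, 3), (13, 5), (90, 4), (79, 3), (91, 5), (11, 4), (12, 4), (95, 4), (62, 3), (53, 2), (32, 1), (90, 5), (79, 4), (91, 6), (11, 5), (96, 6), (84, 5), (63, 4), (54, 3), (33, 2), (101, 7), (89, 6), (78, 5), (9, 4), (103, 6), (91, 5), (11, 4), (102, 5), (90, 4), (104, 6), (12, 5), (13, 5), (99, 6), (87, 5), (66, 4), (101, 7), (89, 6), (68, 5), (102, 8), (90, 7), (10, 6), (103, 7), (91, 6), (104, 8), (12, 7), (13, 7)], [(92, 8), (80, 7), (69, 6), (59, 5), (50, 4), (35, 3), (20, 2), (17, 1), (0, 0), (95, 1), (83, 0), (13, 2), (85, 1), (88, 2), (89, 3), (96, 5), (84, 4), (54, 3), (46, 2), (28, 1), (100, 5), (77, 4), (58, 3), (102, 6), (79, 5), (103, 7), (11, 6), (101, 6), (68, 5), (9, 4), (103, 5), (104, 6), (13, 7), (85, 6), (74, 5), (64, 4), (47, 3), (5, 2), (100, 3), (77, 2), (103, 4), (11, 3), (102,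 3), (13, 4), (86, 5), (75, 4), (65, 3), (48, 2), (102, 5), (90, 4), (103, 6), (91, 5), (104, 7), (12, 6), (99, 6), (76, 5), (66, 4), (49, 3), (102, 5), (103, 6), (13, 7), (11, 6), (101, 6), (68, 5), (104, 7), (13, 8), (90, 7), (10, 6), (91, 6), (12, 7), (103, 7), (11, 6), (104, 6), (13, 7), (82, 6), (52, 5), (44, 4), (37, 3), (31, 2), (22, 1), (19, 0), (96, 8), (84, 7), (63, 6), (54, 5), (46, 4), (33, 3), (28, 2), (98, 6), (75, 5), (56, 4), (103, 6), (13, 7), (78, 6), (9, 5), (11, 5), (100, 6), (88, 5), (102, 7), (90, 6), (103, 8), (91, 7), (101, 9), (89, 8), (78, 7), (68, 6), (103, 10), (91, 9), (11, 8), (102, 9), (90, 8), (10, 7), (104, 8), (12, 7), (13, 7), (100, 8), (88, 7), (58, 6), (8, 5), (101, 5), (104, 6), (13, 7), (89, 6), (9, 5), (86, 5), (6, 4), (91, 5), (11, 4), (87, 4), (90, 5), (91, 6), (88, 7), (77, 6), (67,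 5), (89, 8), (78, 7), (68, 6), (90, 9), (79, 8), (10, 7), (91, 8), (11, 7), (89, 7), (9, 6), (12, 6), (97, 7), (85, 6), (47, 5), (40, 4), (5, 3), (99, 4), (76, 3), (103, 5), (11, 4), (104, 4), (13, 5), (88, 4), (91, 5), (12, 6), (98, 6), (75, 5), (48, 4), (41, 3), (100, 6), (77, 5), (104, 7), (13, 8), (91, 7), (11, 6), (100, 7), (88, 6), (8, 5), (104, 5), (13, 6), (90, 5), (89, 6), (68, 5), (91, 7), (90, 8), (79, 7), (10, 6), (12, 7)]⟩,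
    ⟨2, [6, 0], [0, 6, 8], [(59, 0), (95, 4), (83, 3), (72, 2), (62, 1), (11, 3), (13, 4), (84, 3), (63, 2), (104, 5), (12, 4), (99, 4), (66, 3)], [], [(92, 9), (69, 8), (59, 7), (50, 6), (42, 5), (35, 4), (29, 3), (20, 2), (17, 1), (15, 0), (95, 5), (53, 4), (45, 3), (27, 2), (100, 6), (67, 5), (58, 4), (101, 7), (68, 6), (9, 5), (102, 6), (10, 5), (104, 5), (13, 6), (89, 5), (91, 6), (12, 7), (97, 7), (74, 6), (55, 5), (47, 4), (5, 3), (100, 4), (77, 3), (103, 5), (11, 4), (101, 4), (13, 5), (100, 6), (77, 5), (58, 4), (8, 3), (101, 3), (103, 4), (13, 5), (78, 4), (9, 3), (96, 4), (73, 3), (13, 5), (74, 4), (75, 5), (75, 6), (6, 5), (11, 5), (99, 6), (76, 5), (103, 7), (11, 6), (13, 6), (101, 8), (78, 7), (104, 9), (13, 10), (90, 9), (79, 8), (91, 10), (11, 9), (12, 9), (103, 9), (13, 10), (72, 9), (62, 8), (53, 7), (45,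 6), (38, 5), (27, 4), (23, 3), (3, 2), (96, 4), (73, 3), (33, 2), (103, 7), (91, 6), (11, 5), (13, 6), (98, 6), (86, 5), (56, 4), (6, 3), (78, 3), (104, 5), (13, 6), (87, 5), (76, 4), (57, 3), (88, 6), (77, 5), (58, 4), (91, 7), (11, 6), (85, 6), (55, 5), (47, 4), (40, 3), (100, 7), (88, 6), (77, 5), (103, 8), (91, 7), (11, 6), (101, 7), (89, 6), (13, 8), (12, 7), (9, 6), (99, 7), (66, 6), (49, 5), (7, 4), (100, 4), (13, 5), (102, 6), (10, 5), (103, 5), (104, 6), (100, 7), (88, 6), (77, 5), (8, 4), (103, 4), (104, 5), (13, 6), (89, 5), (78, 4), (90, 6), (79, 5), (12, 7), (101, 7), (78, 6), (68, 5), (9, 4), (103, 6), (11, 5), (104, 5), (102, 6), (90, 5), (10, 4), (103, 5), (91, 4), (103, 6), (91, 5), (11, 4), (96, 5), (84, 4), (28, 3), (4, 2), (85, 5), (74, 4), (40, 3), (34, 2), (87, 4), (91, 5), (12, 6), (103, 6), (11, 5),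 (104, 5), (101, 6), (89, 5), (103, 7), (91, 6), (13, 8), (12, 7), (99, 7), (76, 6), (57, 5), (7, 4), (101, 4), (103, 5), (13, 6), (78, 5), (9, 4), (79, 4), (11, 5)], [(94, 8), (82, 7), (71, 6), (61, 5), (52, 4), (37, 3), (22, 2), (19, 1), (96, 9), (84, 8), (63, 7), (54, 6), (46, 5), (33, 4), (28, 3), (98, 7), (75, 6), (56, 5), (103, 7), (13, 8), (78, 7), (9, 6), (11, 6), (100, 7), (88, 6), (102, 8), (90, 7), (103, 9), (91, 8), (101, 10), (89, 9), (78, 8), (68, 7), (103, 11), (91, 10), (11, 9), (102, 10), (90, 9), (10, 8), (104, 9), (12, 8), (13, 8), (100, 9), (88, 8), (58, 7), (8, 6), (101, 6), (104, 7), (13, 8), (89, 7), (9, 6), (87, 6), (90, 7), (91, 8), (89, 9), (78, 8), (68, 7), (12, 10), (79, 9), (10, 8), (11, 8), (91, 8), (12, 9), (13, 9), (72, 8), (53, 7), (38, 6), (32, 5), (27, 4), (23, 3), (3, 2), (96, 4), (73, 3),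 (33, 2), (103, 7), (91, 6), (11, 5), (13, 6), (98, 6), (86, 5), (56, 4), (6, 3), (78, 3), (104, 5), (13, 6), (87, 5), (76, 4), (57, 3), (88, 6), (77, 5), (58, 4), (91, 7), (11, 6), (85, 6), (55, 5), (47, 4), (40, 3), (100, 7), (88, 6), (77, 5), (103, 8), (91, 7), (11, 6), (101, 7), (89, 6), (13, 8), (12, 7), (9, 6), (98, 7), (65, 6), (48, 5), (41, 4), (100, 7), (77, 6), (104, 8), (13, 9), (90, 8), (79, 7), (99, 10), (87, 9), (76, 8), (66, 7), (49, 6), (7, 5), (100, 5), (13, 6), (102, 9), (90, 8), (79, 7), (10, 6), (103, 8), (91, 7), (11, 6), (104, 7), (12, 6), (101, 6), (103, 7), (104, 8), (103, 9), (91, 8), (11, 7), (96, 8), (84, 7), (54, 6), (46, 5), (33, 4), (28, 3), (4, 2), (85, 5), (74, 4), (40, 3), (34, 2), (87, 4), (91, 5), (12, 6), (103, 6), (11, 5), (104, 5), (101, 6), (89, 5), (103, 7), (91, 6), (13, 8), (86, 7),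 (75, 6), (56, 5), (41, 4), (6, 3), (76, 3), (11, 4), (101, 4), (13, 5), (89, 6), (78, 5), (9, 4), (91, 5), (11, 4), (12, 4), (100, 4), (102, 5), (103, 6), (101, 7), (78, 6), (68, 5), (103, 8), (11, 7), (104, 7), (13, 8), (86, 7), (65, 6), (56, 5), (48, 4), (41, 3), (100, 6), (77, 5), (104, 7), (13, 8), (89, 7), (78, 6), (102, 9), (90, 8), (79, 7), (104, 10), (12, 9), (99, 9), (76, 8), (66, 7), (57, 6), (49, 5), (7, 4), (100, 4), (13, 5), (100, 8), (77, 7), (67, 6), (58, 5), (8, 4), (101, 4), (102, 5), (103, 6), (13, 7), (78, 6), (68, 5), (9, 4), (79, 5), (10, 4), (11, 4), (102, 4), (104, 5)]⟩,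
    ⟨2, [3, 2], [2, 3, 7, 8], [(37, 1), (31, 0), (76, 2), (79, 3), (11, 4), (62, 3), (38, 2), (32, 1), (90, 6), (79, 5), (10, 4), (91, 5), (11, 4), (84, 4), (39, 3), (33, 2), (99, 7), (87, 6), (76, 5), (57, 4), (101, 8), (89, 7), (78, 6), (9, 5), (103, 7), (91, 6), (11, 5), (104, 6), (12, 5), (104, 5)], [], [(69, 5), (42, 4), (20, 3), (17, 2), (15, 1), (14, 0), (82, 7), (44, 6), (31, 5), (26, 4), (19, 3), (2, 2), (72, 6), (62, 5), (53, 4), (45, 3), (27, 2), (100, 6), (67, 5), (58, 4), (101, 7), (68, 6), (9, 5), (102, 6), (10, 5), (104, 5), (13, 6), (89, 5), (91, 6), (12, 7), (79, 6), (11, 7), (74, 7), (64, 6), (55, 5), (47, 4), (5, 3), (100, 4), (77, 3), (103, 5), (11, 4), (101, 4), (13, 5), (103, 6), (98, 7), (75, 6), (65, 5), (56, 4), (48, 3), (101, 6), (89, 5), (13, 7), (90, 6), (91, 7), (100, 9), (88, 8), (77, 7), (67,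 6), (58, 5), (8, 4), (101, 4), (102, 5), (103, 6), (104, 7), (13, 8), (89, 7), (78, 6), (68, 5), (9, 4), (90, 6), (79, 5), (10, 4), (12, 5), (97, 5), (74, 4), (34, 3), (91, 5), (101, 7), (89, 6), (78, 5), (102, 8), (90, 7), (79, 6), (98, 9), (86, 8), (75, 7), (65, 6), (56, 5), (6, 4), (78, 4), (102, 6), (79, 5), (103, 7), (11, 6), (104, 6), (13, 7), (91, 6), (88, 7), (77, 6), (67, 5), (58, 4), (89, 8), (78, 7), (68, 6), (9, 5), (90, 7), (79, 6), (10, 5), (91, 6), (11, 5), (12, 5), (97, 5), (47, 4), (5, 3), (100, 4), (77, 3), (103, 5), (11, 4), (13, 4), (8, 3), (101, 3), (13, 4), (53, 3), (3, 2), (101, 4), (78, 3), (103, 5), (11, 4), (104, 4), (97, 5), (85, 4), (55, 3), (34, 2), (89, 4), (104, 6), (12, 5), (13, 5), (58, 4), (9, 5), (96, 5), (46, 4), (33, 3), (28, 2), (98, 6), (75, 5), (56, 4), (103, 6), (13, 7), (78, 6), (9,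 5), (11, 5), (100, 6), (88, 5), (102, 7), (90, 6), (103, 8), (91, 7), (13, 9), (85, 8), (74, 7), (64, 6), (47, 5), (34, 4), (5, 3), (98, 4), (75, 3), (104, 5), (100, 6), (88, 5), (77, 4), (103, 7), (91, 6), (11, 5), (102, 6), (90, 5), (13, 7), (91, 6), (12, 7), (75, 6), (65, 5), (48, 4), (6, 3), (77, 3), (102, 6), (90, 5), (79, 4), (103, 7), (91, 6), (11, 5), (100, 6), (88, 5), (67, 4), (8, 3), (102, 3), (104, 4), (13, 5), (91, 4), (103, 6), (91, 5), (11, 4), (93, 5), (81, 4), (60, 3), (21, 2), (1, 1), (96, 2), (63, 1), (13, 4), (86, 3), (65, 2), (87, 4), (66, 3), (90, 5), (10, 4), (91, 4), (12, 5), (102, 5), (79, 4), (104, 6), (13, 7), (82, 6), (71, 5), (61, 4), (37, 3), (31, 2), (22, 1), (56, 4), (48, 3), (101, 6), (89, 5), (13, 7), (91, 6), (87, 7), (76, 6), (57, 5), (49, 4), (101, 6), (103, 7), (104, 8), (102, 9), (90,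 8), (79, 7), (103, 10), (91, 9), (11, 8), (102, 9), (90, 8), (10, 7), (103, 8), (91, 7), (104, 9), (12, 8), (103, 8), (11, 7), (104, 7), (13, 8), (84, 7), (54, 6), (46, 5), (39, 4), (33, 3), (4, 2), (86, 5), (75, 4), (41, 3), (6, 2), (76, 2), (11, 3), (103, 3), (104, 4), (101, 5), (89, 4), (78, 3), (103, 6), (91, 5), (11, 4), (104, 5), (12, 4), (13, 4), (57, 3), (7, 2), (101, 2), (101, 3), (9, 2), (103, 2), (104, 3), (100, 4), (88, 3), (77, 2), (102, 5), (90, 4), (79, 3), (103, 6), (91, 5), (11, 4), (101, 5), (89, 4), (68, 3), (103, 6), (91, 5), (104, 7), (12, 6), (97, 6), (74, 5), (64, 4), (55, 3), (47, 2), (78, 4), (102, 6), (79, 5), (13, 7), (11, 6), (98, 6), (65, 5), (56, 4), (48, 3), (101, 6), (89, 5), (13, 7), (90, 6), (103, 8), (91, 7), (13, 9)], [(93, 7), (70, 6), (30, 5), (25, 4), (21, 3), (16, 2), (1, 1), (94, 2),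 (61, 1), (96, 5), (84, 4), (73, 3), (63, 2), (103, 5), (91, 4), (13, 6), (12, 5), (100, 5), (77, 4), (67, 3), (103, 6), (11, 5), (104, 5), (96, 6), (84, 5), (63, 4), (46, 3), (4, 2), (88, 5), (77, 4), (90, 6), (79, 5), (91, 7), (11, 6), (90, 6), (10, 5), (12, 5), (104, 5), (13, 6), (86, 5), (48, 4), (41, 3), (6, 2), (76, 2), (11, 3), (100, 3), (104, 4), (13, 5), (12, 4), (49, 3), (7, 2), (100, 2), (13, 3), (97, 6), (85, 5), (74, 4), (64, 3), (47, 2), (79, 4), (103, 6), (11, 5), (104, 5), (13, 6), (86, 5), (65, 4), (48, 3), (102, 6), (90, 5), (104, 7), (12, 6), (99, 6), (66, 5), (49, 4), (102, 6), (13, 7), (67, 6), (8, 5), (102, 5), (104, 6), (98, 7), (86, 6), (65, 5), (41, 4), (6, 3), (76, 3), (11, 4), (102, 4), (104, 5), (13, 6), (88, 5), (67, 4), (91, 6), (103, 8), (91, 7), (11, 6), (104, 7), (12, 6), (13, 6), (61, 5),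 (44, 4), (37, 3), (26, 2), (2, 1), (74, 5), (64, 4), (55, 3), (47, 2), (5, 1), (100, 2), (77, 1), (103, 3), (11, 2), (101, 2), (13, 3), (103, 4), (101, 5), (78, 4), (68, 3), (9, 2), (102, 4), (79, 3), (10, 2), (99, 3), (76, 2), (49, 1), (103, 3), (13, 4), (79, 3), (11, 4), (67, 3), (8, 2), (102, 2), (101, 3), (68, 2), (102, 4), (10, 3), (103, 3), (102, 4), (79, 3), (103, 5), (11, 4), (104, 4), (95, 5), (83, 4), (62, 3), (53, 2), (38, 1), (89, 5), (78, 4), (68, 3), (91, 6), (11, 5), (12, 5), (10, 4), (13, 6), (84, 5), (73, 4), (54, 3), (39, 2), (89, 6), (78, 5), (9, 4), (91, 5), (11, 4), (91, 4), (104, 6), (12, 5), (100, 5), (77, 4), (103, 6), (11, 5), (94, 5), (44, 4), (37, 3), (22, 2), (19, 1), (96, 9), (84, 8), (63, 7), (54, 6), (46, 5), (33, 4), (28, 3), (98, 7), (75, 6), (56, 5), (103, 7), (13, 8), (78, 7), (9, 6), (11,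 6), (100, 7), (88, 6), (102, 8), (90, 7), (103, 9), (91, 8), (101, 10), (89, 9), (78, 8), (68, 7), (103, 11), (91, 10), (11, 9), (102, 10), (90, 9), (10, 8), (104, 9), (12, 8), (13, 8), (100, 9), (88, 8), (58, 7), (8, 6), (101, 6), (104, 7), (13, 8), (89, 7), (9, 6), (87, 6), (90, 7), (91, 8), (88, 9), (77, 8), (67, 7), (89, 10), (78, 9), (68, 8), (90, 11), (79, 10), (10, 9), (91, 10), (11, 9), (95, 10), (83, 9), (53, 8), (45, 7), (38, 6), (32, 5), (27, 4), (23, 3), (3, 2), (96, 4), (73, 3), (33, 2), (103, 7), (91, 6), (11, 5), (13, 6), (98, 6), (86, 5), (56, 4), (6, 3), (78, 3), (104, 5), (13, 6), (87, 5), (76, 4), (57, 3), (88, 6), (77, 5), (58, 4), (91, 7), (11, 6), (85, 6), (55, 5), (47, 4), (40, 3), (100, 7), (88, 6), (77, 5), (103, 8), (91, 7), (11, 6), (101, 7), (89, 6), (13, 8), (12, 7), (9, 6), (98, 7), (65, 6),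 (48, 5), (41, 4), (100, 7), (77, 6), (104, 8), (13, 9), (90, 8), (79, 7), (99, 10), (87, 9), (76, 8), (66, 7), (49, 6), (7, 5), (100, 5), (13, 6), (102, 9), (90, 8), (79, 7), (10, 6), (103, 8), (91, 7), (11, 6), (104, 7), (12, 6), (100, 6), (8, 5), (13, 5), (101, 8), (89, 7), (68, 6), (9, 5), (103, 7), (91, 6), (104, 8), (12, 7), (104, 7), (13, 8), (96, 8), (84, 7), (73, 6), (63, 5), (33, 4), (28, 3), (4, 2), (85, 5), (74, 4), (40, 3), (34, 2), (87, 4), (91, 5), (12, 6), (103, 6), (11, 5), (104, 5), (101, 6), (89, 5), (103, 7), (91, 6), (13, 8), (86, 7), (75, 6), (56, 5), (41, 4), (6, 3), (76, 3), (11, 4), (101, 4), (13, 5), (89, 6), (78, 5), (9, 4), (91, 5), (11, 4), (12, 4), (102, 4), (104, 5), (13, 6), (91, 5), (104, 7), (12, 6), (13, 6), (75, 5), (65, 4), (41, 3), (102, 6), (79, 5), (103, 7), (11, 6), (99, 6), (66, 5),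 (7, 4), (102, 4), (13, 5), (67, 4), (68, 5), (10, 6), (79, 6)]⟩,
    ⟨3, [0, 0], [4, 5], [(59, 4), (50, 3), (42, 2), (35, 1), (0, 0), (99, 1), (87, 0), (103, 2), (91, 1), (13, 3), (88, 2), (77, 1), (91, 3), (11, 2), (101, 3), (89, 2), (104, 4), (12, 3), (13, 3), (99, 6), (87, 5), (76, 4), (66, 3), (57, 2), (49, 1), (7, 0), (100, 0), (13, 1), (100, 5), (88, 4), (77, 3), (67, 2), (58, 1), (8, 0), (101, 0), (102, 1), (103, 2), (104, 3), (13, 4), (89, 3), (78, 2), (68, 1), (9, 0), (90, 2), (79, 1), (10, 0)], [], [(94, 7), (71, 6), (52, 5), (44, 4), (31, 3), (26, 2), (19, 1), (2, 0), (72, 4), (62, 3), (53, 2), (45, 1), (27, 0), (100, 4), (67, 3), (58, 2), (101, 5), (68, 4), (9, 3), (102, 4), (10, 3), (104, 3), (13, 4), (89, 3), (91, 4), (12, 5), (79, 4), (11, 5), (74, 5), (64, 4), (55, 3), (47, 2), (5, 1), (100, 2), (77, 1), (103,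 3), (11, 2), (101, 2), (13, 3), (103, 4), (98, 5), (75, 4), (65, 3), (56, 2), (48, 1), (101, 4), (89, 3), (13, 5), (90, 4), (91, 5), (100, 7), (88, 6), (77, 5), (67, 4), (58, 3), (8, 2), (101, 2), (102, 3), (103, 4), (104, 5), (13, 6), (89, 5), (78, 4), (68, 3), (9, 2), (90, 4), (79, 3), (10, 2), (12, 3), (97, 3), (74, 2), (34, 1), (91, 3), (101, 5), (89, 4), (78, 3), (102, 6), (90, 5), (79, 4), (98, 7), (86, 6), (75, 5), (65, 4), (56, 3), (6, 2), (78, 2), (102, 4), (79, 3), (103, 5), (11, 4), (104, 4), (13, 5), (91, 4), (88, 5), (77, 4), (67, 3), (58, 2), (89, 6), (78, 5), (68, 4), (9, 3), (90, 5), (79, 4), (10, 3), (91, 4), (11, 3), (89, 3), (12, 4), (95, 5), (72, 4), (53, 3), (45, 2), (27, 1), (3, 0), (97, 2), (74, 1), (34, 0), (91, 2), (101, 4), (89, 3), (78, 2), (102, 5), (90, 4), (79, 3), (13, 6), (88, 5), (77, 4),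 (67, 3), (58, 2), (89, 6), (78, 5), (68, 4), (9, 3), (90, 5), (79, 4), (10, 3), (12, 4), (101, 4), (78, 3), (103, 5), (11, 4), (104, 4), (103, 5), (91, 4), (13, 6), (85, 5), (74, 4), (55, 3), (47, 2), (34, 1), (5, 0), (98, 1), (75, 0), (104, 2), (100, 3), (88, 2), (77, 1), (103, 4), (91, 3), (11, 2), (101, 3), (89, 2), (13, 4), (91, 3), (12, 4), (75, 3), (56, 2), (48, 1), (6, 0), (77, 0), (101, 3), (89, 2), (78, 1), (13, 4), (91, 3), (11, 2), (88, 2), (58, 1), (8, 0), (101, 0), (104, 1), (101, 2), (89, 1), (9, 0), (103, 1), (91, 0), (13, 2)], [(85, 4), (55, 3), (40, 2), (34, 1), (5, 0), (98, 1), (75, 0), (104, 2), (99, 3), (87, 2), (76, 1), (103, 4), (91, 3), (11, 2), (104, 3), (12, 2), (13, 2), (104, 3), (98, 4), (86, 3), (56, 2), (41, 1), (6, 0), (76, 0), (11, 1), (101, 1), (13, 2), (99, 3), (87, 2), (57, 1), (7, 0), (101,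 0), (104, 1), (13, 2), (89, 1), (9, 0), (91, 0)]⟩,
    ⟨3, [1, 0], [0, 1], [(42, 3), (35, 2), (17, 1), (15, 0), (95, 5), (53, 4), (45, 3), (27, 2), (100, 6), (67, 5), (58, 4), (101, 7), (68, 6), (9, 5), (102, 6), (10, 5), (104, 5), (13, 6), (89, 5), (91, 6), (12, 7), (97, 7), (74, 6), (55, 5), (47, 4), (5, 3), (100, 4), (77, 3), (103, 5), (11, 4), (101, 4), (13, 5), (100, 6), (77, 5), (58, 4), (8, 3), (101, 3), (103, 4), (13, 5), (78, 4), (9, 3), (99, 4), (76, 3), (103, 5), (11, 4), (13, 4), (99, 6), (76, 5), (49, 4), (7, 3), (100, 3), (13, 4), (100, 5), (77, 4), (8, 3), (103, 3), (13, 4), (78, 3), (79, 4)], [(61, 4), (52, 3), (44, 2), (37, 1), (77, 4), (67, 3), (78, 5), (68, 4), (79, 6), (10, 5), (11, 5), (9, 4), (90, 4), (91, 5), (12, 6), (72, 5), (62, 4), (45, 3), (38, 2), (88, 6), (77, 5), (67, 4), (89, 7), (78, 6), (68,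 5), (90, 8), (79, 7), (10, 6), (12, 7), (102, 7), (79, 6), (103, 8), (11, 7), (103, 7), (99, 8), (76, 7), (66, 6), (57, 5), (49, 4), (7, 3), (100, 3), (13, 4), (100, 7), (77, 6), (67, 5), (58, 4), (8, 3), (101, 3), (102, 4), (103, 5), (13, 6)], [(71, 5), (61, 4), (44, 3), (31, 2), (26, 1), (65, 4), (56, 3), (102, 5), (103, 6), (100, 7), (77, 6), (67, 5), (58, 4), (101, 8), (78, 7), (68, 6), (9, 5), (102, 7), (79, 6), (10, 5), (103, 6), (11, 5), (102, 5), (103, 6), (104, 7), (103, 8), (91, 7), (11, 6), (95, 7), (83, 6), (62, 5), (45, 4), (32, 3), (27, 2), (98, 6), (65, 5), (56, 4), (102, 6), (13, 7), (67, 6), (58, 5), (68, 7), (9, 6), (10, 6), (102, 7), (90, 6), (103, 8), (91, 7), (104, 9), (12, 8), (13, 8), (97, 8), (74, 7), (64, 6), (47, 5), (34, 4), (5, 3), (98, 4), (75, 3), (104, 5), (100, 6), (88, 5), (77, 4), (103, 7),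 (91, 6), (11, 5), (102, 6), (90, 5), (13, 7), (91, 6), (98, 8), (86, 7), (75, 6), (65, 5), (48, 4), (6, 3), (77, 3), (102, 6), (90, 5), (79, 4), (103, 7), (91, 6), (11, 5), (104, 6), (12, 5), (13, 5), (67, 4), (8, 3), (102, 3), (101, 4), (68, 3), (103, 5), (13, 6)], [(92, 7), (69, 6), (50, 5), (42, 4), (29, 3), (24, 2), (17, 1), (15, 0), (95, 5), (53, 4), (45, 3), (27, 2), (100, 6), (67, 5), (58, 4), (101, 7), (68, 6), (9, 5), (102, 6), (10, 5), (104, 5), (13, 6), (89, 5), (91, 6), (12, 7), (97, 7), (74, 6), (55, 5), (47, 4), (5, 3), (100, 4), (77, 3), (103, 5), (11, 4), (101, 4), (13, 5), (100, 6), (77, 5), (58, 4), (8, 3), (101, 3), (103, 4), (13, 5), (78, 4), (9, 3), (97, 4), (74, 3), (103, 5), (11, 4), (104, 4), (98, 5), (86, 4), (103, 6), (91, 5), (13, 7), (88, 6), (77, 5), (91, 7), (11, 6), (101, 7), (89, 6), (104,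 8), (12, 7), (13, 7), (97, 8), (74, 7), (55, 6), (47, 5), (34, 4), (5, 3), (98, 4), (75, 3), (104, 5), (100, 6), (88, 5), (77, 4), (103, 7), (91, 6), (11, 5), (101, 6), (89, 5), (13, 7), (91, 6), (98, 8), (86, 7), (75, 6), (56, 5), (48, 4), (6, 3), (77, 3), (101, 6), (89, 5), (78, 4), (13, 7), (91, 6), (11, 5), (12, 5), (100, 5), (58, 4), (8, 3), (101, 3), (13, 4)]⟩,
    ⟨3, [2, 0], [0, 2, 4, 5], [(50, 3), (42, 2), (35, 1), (24, 0), (87, 3), (76, 2), (91, 4), (11, 3), (100, 4), (88, 3), (103, 5), (91, 4), (13, 6), (89, 5), (78, 4), (12, 6), (99, 6), (76, 5), (57, 4), (49, 3), (7, 2), (100, 2), (13, 3), (100, 5), (77, 4), (58, 3), (8, 2), (101, 2), (103, 3), (13, 4), (78, 3), (9, 2), (79, 2)], [(64, 4), (55, 3), (47, 2), (40, 1), (100, 5), (88, 4), (77, 3), (103, 6), (91, 5), (11, 4), (101, 5), (89, 4), (13, 6), (90, 5), (99,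 7), (87, 6), (66, 5), (57, 4), (49, 3), (7, 2), (100, 2), (13, 3), (100, 6), (88, 5), (67, 4), (58, 3), (8, 2), (101, 2), (102, 3), (104, 4), (13, 5), (89, 4), (68, 3), (9, 2), (91, 3), (12, 4)], [(82, 7), (61, 6), (44, 5), (37, 4), (26, 3), (19, 2), (2, 1), (72, 5), (62, 4), (53, 3), (45, 2), (27, 1), (100, 5), (67, 4), (58, 3), (101, 6), (68, 5), (9, 4), (102, 5), (10, 4), (104, 4), (13, 5), (89, 4), (91, 5), (12, 6), (79, 5), (11, 6), (74, 6), (64, 5), (55, 4), (47, 3), (5, 2), (100, 3), (77, 2), (103, 4), (11, 3), (101, 3), (13, 4), (103, 5), (98, 6), (75, 5), (65, 4), (56, 3), (48, 2), (101, 5), (89, 4), (13, 6), (90, 5), (91, 6), (100, 8), (88, 7), (77, 6), (67, 5), (58, 4), (8, 3), (101, 3), (102, 4), (103, 5), (104, 6), (13, 7), (89, 6), (78, 5), (68, 4), (9, 3), (90, 5), (79, 4), (10, 3), (12, 4), (97, 4), (74, 3),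 (34, 2), (91, 4), (101, 6), (89, 5), (78, 4), (102, 7), (90, 6), (79, 5), (99, 8), (87, 7), (76, 6), (66, 5), (57, 4), (102, 9), (90, 8), (79, 7), (10, 6), (103, 8), (91, 7), (11, 6), (100, 7), (88, 6), (58, 5), (101, 8), (89, 7), (9, 6), (102, 7), (90, 6), (103, 8), (91, 7), (102, 9), (90, 8), (79, 7), (10, 6), (103, 8), (91, 7), (11, 6), (104, 7), (12, 6), (104, 6), (13, 7), (83, 6), (45, 5), (38, 4), (32, 3), (27, 2), (3, 1), (97, 3), (74, 2), (34, 1), (91, 3), (101, 5), (89, 4), (78, 3), (102, 6), (90, 5), (79, 4), (13, 7), (86, 6), (75, 5), (65, 4), (56, 3), (6, 2), (78, 2), (102, 4), (79, 3), (103, 5), (11, 4), (104, 4), (99, 5), (87, 4), (66, 3), (57, 2), (102, 6), (90, 5), (10, 4), (103, 5), (91, 4), (104, 6), (12, 5), (100, 5), (77, 4), (58, 3), (101, 6), (78, 5), (9, 4), (102, 5), (79, 4), (104, 6), (13, 7), (12,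 6), (97, 6), (74, 5), (64, 4), (47, 3), (40, 2), (5, 1), (99, 2), (76, 1), (103, 3), (11, 2), (104, 2), (13, 3), (88, 2), (91, 3), (90, 4), (79, 3), (103, 6), (91, 5), (11, 4), (13, 5), (86, 4), (65, 3), (48, 2), (41, 1), (100, 4), (77, 3), (104, 5), (13, 6), (90, 5), (79, 4), (12, 6), (77, 5), (67, 4), (8, 3), (102, 3), (103, 4), (101, 5), (78, 4), (68, 3), (103, 6), (11, 5), (13, 5)], [(92, 7), (69, 6), (50, 5), (42, 4), (29, 3), (24, 2), (17, 1), (15, 0), (95, 5), (53, 4), (45, 3), (27, 2), (100, 6), (67, 5), (58, 4), (101, 7), (68, 6), (9, 5), (102, 6), (10, 5), (104, 5), (13, 6), (89, 5), (91, 6), (12, 7), (97, 7), (74, 6), (55, 5), (47, 4), (5, 3), (100, 4), (77, 3), (103, 5), (11, 4), (101, 4), (13, 5), (100, 6), (77, 5), (58, 4), (8, 3), (101, 3), (103, 4), (13, 5), (78, 4), (9, 3), (97, 4), (74, 3), (103, 5), (11,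 4), (104, 4), (98, 5), (86, 4), (103, 6), (91, 5), (13, 7), (88, 6), (77, 5), (91, 7), (11, 6), (101, 7), (89, 6), (104, 8), (12, 7), (13, 7), (94, 8), (71, 7), (52, 6), (44, 5), (31, 4), (26, 3), (19, 2), (2, 1), (72, 5), (62, 4), (53, 3), (45, 2), (27, 1), (100, 5), (67, 4), (58, 3), (101, 6), (68, 5), (9, 4), (102, 5), (10, 4), (104, 4), (13, 5), (89, 4), (91, 5), (12, 6), (79, 5), (11, 6), (74, 6), (64, 5), (55, 4), (47, 3), (5, 2), (100, 3), (77, 2), (103, 4), (11, 3), (101, 3), (13, 4), (103, 5), (98, 6), (75, 5), (65, 4), (56, 3), (48, 2), (101, 5), (89, 4), (13, 6), (90, 5), (91, 6), (100, 8), (88, 7), (77, 6), (67, 5), (58, 4), (8, 3), (101, 3), (102, 4), (103, 5), (104, 6), (13, 7), (89, 6), (78, 5), (68, 4), (9, 3), (90, 5), (79, 4), (10, 3), (12, 4), (97, 4), (74, 3), (34, 2), (91, 4), (101, 6), (89, 5), (78,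 4), (102, 7), (90, 6), (79, 5), (98, 8), (86, 7), (75, 6), (65, 5), (56, 4), (6, 3), (78, 3), (102, 5), (79, 4), (103, 6), (11, 5), (104, 5), (13, 6), (91, 5), (88, 6), (77, 5), (67, 4), (58, 3), (89, 7), (78, 6), (68, 5), (9, 4), (90, 6), (79, 5), (10, 4), (91, 5), (11, 4), (89, 4), (12, 5), (95, 6), (72, 5), (53, 4), (45, 3), (27, 2), (3, 1), (97, 3), (74, 2), (34, 1), (91, 3), (101, 5), (89, 4), (78, 3), (102, 6), (90, 5), (79, 4), (13, 7), (88, 6), (77, 5), (67, 4), (58, 3), (89, 7), (78, 6), (68, 5), (9, 4), (90, 6), (79, 5), (10, 4), (12, 5), (101, 5), (78, 4), (103, 6), (11, 5), (104, 5), (103, 6), (91, 5), (13, 7), (85, 6), (74, 5), (55, 4), (47, 3), (34, 2), (5, 1), (98, 2), (75, 1), (104, 3), (100, 4), (88, 3), (77, 2), (103, 5), (91, 4), (11, 3), (101, 4), (89, 3), (13, 5), (91, 4), (12, 5), (76, 4), (57, 3), (49,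 2), (101, 4), (103, 5), (100, 6), (77, 5), (58, 4), (8, 3), (101, 3), (103, 4), (13, 5), (79, 4), (85, 6), (74, 5), (64, 4), (55, 3), (40, 2), (34, 1), (87, 3), (91, 4), (12, 5), (101, 5), (78, 4), (13, 6), (79, 5), (103, 7), (11, 6), (104, 6), (98, 7), (86, 6), (65, 5), (56, 4), (41, 3), (6, 2), (76, 2), (11, 3), (101, 3), (13, 4), (99, 6), (87, 5), (66, 4), (57, 3), (7, 2), (101, 2), (102, 3), (104, 4), (13, 5), (89, 4), (68, 3), (9, 2), (12, 3), (64, 2), (5, 1), (102, 2), (79, 1), (13, 3), (75, 2), (65, 1), (76, 3), (66, 2), (78, 4), (68, 3), (11, 5)]⟩,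
    ⟨3, [4, 0], [0, 4], [(69, 0), (76, 1), (77, 2), (78, 3), (79, 4)], [], [(82, 4), (52, 3), (37, 2), (31, 1), (26, 0), (65, 3), (56, 2), (102, 4), (103, 5), (99, 6), (76, 5), (66, 4), (57, 3), (102, 7), (79, 6), (10, 5), (103, 6), (11, 5), (101, 5), (9, 4), (104, 4), (104, 5), (12, 4), (13, 4), (38, 3), (32, 2), (27, 1), (98, 5), (65, 4), (56, 3), (102, 5), (13, 6), (66, 5), (57, 4), (10, 6), (85, 7), (74, 6), (55, 5), (40, 4), (34, 3), (5, 2), (98, 3), (75, 2), (104, 4), (99, 5), (87, 4), (76, 3), (103, 6), (91, 5), (11, 4), (104, 5), (12, 4), (13, 4), (103, 5), (104, 6), (98, 7), (86, 6), (75, 5), (56, 4), (41, 3), (6, 2), (76, 2), (11, 3), (101, 3), (13, 4), (100, 6), (88, 5), (77, 4), (58, 3), (101, 7), (89, 6), (78, 5), (9, 4), (103, 6), (91, 5), (11, 4), (13, 5)], [(97, 7), (74, 6), (55, 5), (47, 4), (34, 3), (5,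 2), (98, 3), (75, 2), (104, 4), (100, 5), (88, 4), (77, 3), (103, 6), (91, 5), (11, 4), (101, 5), (89, 4), (13, 6), (91, 5), (98, 7), (86, 6), (75, 5), (56, 4), (48, 3), (6, 2), (77, 2), (101, 5), (89, 4), (78, 3), (13, 6), (91, 5), (11, 4), (12, 4), (99, 4), (57, 3), (49, 2), (101, 4), (13, 5), (9, 4)]⟩,
    ⟨3, [6, 0], [0, 6], [(92, 0), (99, 1), (100, 2), (101, 3), (102, 4)], [], [(71, 7), (61, 6), (37, 5), (31, 4), (26, 3), (19, 2), (2, 1), (72, 5), (62, 4), (53, 3), (45, 2), (27, 1), (100, 5), (67, 4), (58, 3), (101, 6), (68, 5), (9, 4), (102, 5), (10, 4), (104, 4), (13, 5), (89, 4), (91, 5), (12, 6), (79, 5), (11, 6), (74, 6), (64, 5), (55, 4), (47, 3), (5, 2), (100, 3), (77, 2), (103, 4), (11, 3), (101, 3), (13, 4), (103, 5), (98, 6), (75, 5), (65, 4), (56, 3), (48, 2), (101, 5), (89, 4), (13, 6), (90, 5), (91, 6),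 (100, 8), (88, 7), (77, 6), (67, 5), (58, 4), (8, 3), (101, 3), (102, 4), (103, 5), (104, 6), (13, 7), (89, 6), (78, 5), (68, 4), (9, 3), (90, 5), (79, 4), (10, 3), (12, 4), (97, 4), (74, 3), (34, 2), (91, 4), (101, 6), (89, 5), (78, 4), (102, 7), (90, 6), (79, 5), (98, 8), (86, 7), (75, 6), (65, 5), (56, 4), (6, 3), (78, 3), (102, 5), (79, 4), (103, 6), (11, 5), (104, 5), (13, 6), (91, 5), (87, 6), (76, 5), (66, 4), (57, 3), (90, 7), (79, 6), (10, 5), (91, 6), (11, 5), (90, 5), (91, 6), (12, 7), (11, 6), (62, 5), (53, 4), (38, 3), (27, 2), (3, 1), (97, 3), (74, 2), (34, 1), (91, 3), (101, 5), (89, 4), (78, 3), (102, 6), (90, 5), (79, 4), (13, 7), (87, 6), (76, 5), (66, 4), (57, 3), (90, 7), (79, 6), (10, 5), (91, 6), (11, 5), (12, 5), (9, 4), (90, 5), (79, 4), (91, 6), (11, 5), (85, 5), (64, 4), (40, 3), (34, 2), (5, 1),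 (98, 2), (75, 1), (104, 3), (99, 4), (87, 3), (76, 2), (103, 5), (91, 4), (11, 3), (104, 4), (12, 3), (13, 3), (104, 4), (98, 5), (86, 4), (65, 3), (41, 2), (6, 1), (76, 1), (11, 2), (102, 2), (104, 3), (13, 4), (88, 3), (67, 2), (89, 4), (68, 3), (91, 5)], [(92, 7), (69, 6), (50, 5), (42, 4), (29, 3), (24, 2), (17, 1), (15, 0), (95, 5), (53, 4), (45, 3), (27, 2), (100, 6), (67, 5), (58, 4), (101, 7), (68, 6), (9, 5), (102, 6), (10, 5), (104, 5), (13, 6), (89, 5), (91, 6), (12, 7), (97, 7), (74, 6), (55, 5), (47, 4), (5, 3), (100, 4), (77, 3), (103, 5), (11, 4), (101, 4), (13, 5), (100, 6), (77, 5), (58, 4), (8, 3), (101, 3), (103, 4), (13, 5), (78, 4), (9, 3), (97, 4), (74, 3), (103, 5), (11, 4), (104, 4), (98, 5), (86, 4), (103, 6), (91, 5), (13, 7), (88, 6), (77, 5), (91, 7), (11, 6), (101, 7), (89, 6), (104, 8), (12,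 7), (13, 7), (94, 8), (71, 7), (52, 6), (44, 5), (31, 4), (26, 3), (19, 2), (2, 1), (72, 5), (62, 4), (53, 3), (45, 2), (27, 1), (100, 5), (67, 4), (58, 3), (101, 6), (68, 5), (9, 4), (102, 5), (10, 4), (104, 4), (13, 5), (89, 4), (91, 5), (12, 6), (79, 5), (11, 6), (74, 6), (64, 5), (55, 4), (47, 3), (5, 2), (100, 3), (77, 2), (103, 4), (11, 3), (101, 3), (13, 4), (103, 5), (98, 6), (75, 5), (65, 4), (56, 3), (48, 2), (101, 5), (89, 4), (13, 6), (90, 5), (91, 6), (100, 8), (88, 7), (77, 6), (67, 5), (58, 4), (8, 3), (101, 3), (102, 4), (103, 5), (104, 6), (13, 7), (89, 6), (78, 5), (68, 4), (9, 3), (90, 5), (79, 4), (10, 3), (12, 4), (97, 4), (74, 3), (34, 2), (91, 4), (101, 6), (89, 5), (78, 4), (102, 7), (90, 6), (79, 5), (98, 8), (86, 7), (75, 6), (65, 5), (56, 4), (6, 3), (78, 3), (102, 5), (79, 4), (103, 6), (11, 5),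 (104, 5), (13, 6), (91, 5), (88, 6), (77, 5), (67, 4), (58, 3), (89, 7), (78, 6), (68, 5), (9, 4), (90, 6), (79, 5), (10, 4), (91, 5), (11, 4), (89, 4), (12, 5), (95, 6), (72, 5), (53, 4), (45, 3), (27, 2), (3, 1), (97, 3), (74, 2), (34, 1), (91, 3), (101, 5), (89, 4), (78, 3), (102, 6), (90, 5), (79, 4), (13, 7), (88, 6), (77, 5), (67, 4), (58, 3), (89, 7), (78, 6), (68, 5), (9, 4), (90, 6), (79, 5), (10, 4), (12, 5), (101, 5), (78, 4), (103, 6), (11, 5), (104, 5), (103, 6), (91, 5), (13, 7), (85, 6), (74, 5), (55, 4), (47, 3), (34, 2), (5, 1), (98, 2), (75, 1), (104, 3), (100, 4), (88, 3), (77, 2), (103, 5), (91, 4), (11, 3), (101, 4), (89, 3), (13, 5), (91, 4), (12, 5), (75, 4), (56, 3), (48, 2), (6, 1), (77, 1), (101, 4), (89, 3), (78, 2), (13, 5), (91, 4), (11, 3), (87, 3), (57, 2), (49, 1), (101, 3), (104, 4), (102,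 5), (90, 4), (103, 6), (91, 5)]⟩]
  adj := [
    [(0, 1), (1, 1), (3, 1), (5, 1), (8, 1), (14, 1), (23, 1), (147, 1)],
    [(0, 1), (1, 1), (2, 1), (3, 1), (4, 1), (8, 1), (14, 1), (18, 1), (23, 1), (120, 1)],
    [(0, 3), (1, 1), (2, 3), (3, 3), (6, 2), (16, 2), (18, 1), (105, 3), (133, 3), (147, 1)],
    [(1, 1), (5, 1), (14, 1), (16, 1), (23, 1), (105, 1), (133, 1), (147, 1)],
    [(0, 2), (2, 2), (4, 3), (5, 3), (6, 2), (8, 1), (16, 1), (18, 2), (23, 3)],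
    [(0, 1), (2, 1), (3, 2), (4, 1), (5, 1), (6, 3), (8, 3), (14, 2), (16, 1), (18, 3), (105, 2), (133, 2)],
    [(0, 2), (1, 2), (3, 3), (4, 2), (6, 3), (8, 1), (14, 2), (16, 2), (105, 2), (133, 2), (147, 2)],
    [(0, 1), (3, 1), (4, 3), (5, 2), (8, 2), (23, 2), (105, 2), (133, 2)],
    [(0, 1), (1, 2), (3, 2), (4, 3), (5, 2), (6, 2), (8, 3), (14, 2), (16, 2), (23, 3), (147, 2)],
    [(1, 1), (3, 2), (5, 1), (8, 1), (14, 2), (16, 1), (18, 1), (23, 1), (120, 2)],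
    [(1, 3), (2, 2), (3, 2), (8, 3), (14, 2), (18, 2), (120, 2)],
    [(3, 2), (6, 3), (8, 2)],
    [(0, 1), (1, 2), (3, 2), (4, 2), (6, 2), (8, 1), (14, 2), (147, 2)],
    [(0, 2), (4, 2), (5, 2), (6, 2), (8, 1), (23, 2)]]
  base := [
    ([(24, 1), (61, 3)], 2, [(1, 1), (2, 2), (3, 2), (5, 3), (6, 1), (7, 1), (8, 2), (10, 2), (13, 1), (14, 2), (16, 3), (18, 3), (19, 2), (20, 2), (22, 1), (24, 2), (25, 3), (26, 1), (27, 3), (28, 3), (29, 3), (31, 2), (32, 3), (33, 1), (34, 2), (35, 2), (36, 1), (38, 3), (40, 1), (41, 3), (43, 2), (44, 2), (45, 1), (46, 3), (47, 2), (48, 3), (51, 3), (52, 2), (53, 1), (54, 2), (55, 1), (56, 1), (57, 2), (58, 1), (59, 3), (60, 1), (61, 1), (63, 3), (64, 3), (65, 2), (66, 1), (67, 3), (68, 2), (69, 2), (70, 1), (71, 1), (72, 2), (73, 2), (74, 2), (75, 2), (76, 1), (77, 1), (79, 1), (82, 1),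 (84, 3), (85, 1), (87, 2), (96, 2), (98, 2)])]
  dense := [
    [0, 0, 0, 0, 0, 0, 0, 0, 0, 0, 0, 0, 0, 0, 0, 0, 0, 0, 0, 0, 0, 0, 0, 0, 0, 0, 0, 0, 0, 0, 0, 0, 0, 0, 0, 0, 0, 0, 0, 0, 0, 0, 0, 0, 0, 0, 0, 0, 0, 0, 0, 0, 0, 0, 0, 0, 0, 0, 0, 0, 0, 0, 0, 0, 0, 0, 0, 0, 0, 0, 0, 0, 0, 0, 0, 0, 0, 0, 0, 0, 1, 0, 0, 0, 0, 0, 0, 0, 0, 0, 0, 0, 1],
    [0, 0, 0, 0, 0, 0, 0, 0, 0, 0, 0, 0, 0, 0, 0, 0, 0, 0, 0, 0, 0, 0, 0, 0, 0, 0, 0, 0, 0, 0, 0, 0, 0, 0, 0, 0, 0, 0, 0, 0, 0, 0, 0, 0, 0, 0, 0, 0, 0, 0, 0, 0, 0, 0, 0, 0, 0, 0, 0, 0, 1, 0, 0, 0, 0, 0, 0, 0, 0, 0, 0, 0, 0, 0, 0, 0, 0, 0, 0, 0, 0, 0, 0, 0, 0, 0, 0, 0, 0, 0, 0, 0, 0, 1],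
    [0, 0, 3, 3, 3, 2, 0, 2, 0, 2, 3, 2, 0, 3, 2, 0, 3, 0, 3, 3, 0, 0, 0, 3, 0, 3, 3, 2, 0, 0, 3, 3, 0, 3, 0, 0, 0, 0, 0, 3, 3, 2, 0, 3, 3, 1, 0, 2, 1, 0, 0, 0, 0, 3, 3, 3, 1, 2, 0, 1, 0, 2, 1, 3, 1, 3, 3, 3, 0, 0, 0, 3, 3, 3, 0, 0, 2, 2, 3, 0, 0, 3, 0, 3, 3, 0, 3, 2, 0, 2, 0, 2, 1, 0, 2, 2, 3, 1, 2, 0, 1, 1, 1, 1, 2],
    [0, 0, 3, 3, 0, 1, 2, 0, 1, 0, 1, 3, 2, 0, 2, 3, 0, 3, 0, 3, 0, 0, 0, 0, 3, 0, 3, 3, 0, 3, 0, 3, 0, 0, 1, 0, 0, 0, 0, 0, 0, 0, 3, 0, 3, 3, 0, 1, 2, 0, 0, 0, 0, 2, 0, 2, 2, 0, 0, 0, 0, 0, 3, 0, 3, 2, 0, 1, 1, 0, 0, 0, 3, 0, 2, 0, 0, 1, 3, 3, 3, 3, 3, 2, 0, 1, 1, 0, 2, 0, 0, 1, 0, 3, 2, 0, 0, 1, 3, 0, 0, 0, 0, 2, 3],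
    [0, 0, 0, 0, 0, 0, 0, 0, 0, 1, 1, 1, 1, 0, 0, 0, 0, 0, 0, 0, 0, 0, 0, 0, 0, 0, 1, 0, 0, 0, 0, 0, 0, 0, 0, 0, 0, 0, 0, 0, 0, 0, 0, 0, 1, 0, 0, 0, 0, 0, 0, 0, 1, 0, 0, 0, 0, 0, 1, 0, 0, 1, 0, 0, 0, 0, 0, 1, 1, 0, 0, 1, 0, 0, 0, 0, 0, 0, 1, 1, 0, 0, 0, 0, 0, 0, 0, 0, 0, 0, 1, 1],
    [0, 0, 0, 0, 0, 3, 0, 0, 3, 2, 3, 0, 1, 2, 0, 2, 0, 0, 0, 0, 0, 0, 0, 0, 1, 0, 3, 0, 0, 0, 0, 0, 0, 0, 0, 0, 0, 0, 0, 0, 0, 0, 1, 0, 3, 0, 0, 3, 0, 0, 1, 0, 3, 0, 0, 3, 0, 0, 0, 1, 0, 0, 0, 0, 2, 0, 0, 3, 1, 1, 0, 0, 0, 0, 3, 0, 0, 3, 2, 2, 0, 0, 0, 0, 0, 3, 0, 0, 0, 0, 0, 2, 0, 0, 3, 0, 0, 3, 0, 0, 2, 3, 3, 2],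
    [0, 0, 0, 0, 0, 3, 0, 0, 3, 3, 0, 2, 3, 0, 0, 2, 0, 0, 0, 0, 0, 0, 0, 0, 3, 0, 0, 0, 0, 0, 0, 0, 0, 0, 0, 0, 0, 0, 0, 0, 0, 0, 3, 0, 0, 0, 0, 3, 0, 0, 3, 0, 0, 0, 0, 3, 0, 0, 3, 0, 0, 0, 0, 0, 0, 0, 0, 0, 0, 0, 0, 0, 0, 0, 0, 0, 0, 2, 0, 0, 0, 0, 3, 0, 0, 2, 0, 0, 3, 3, 0, 3, 3, 0, 3, 0, 0, 3, 0, 0, 2, 1, 0, 1, 2],
    [0, 0, 0, 0, 3, 0, 0, 0, 3, 2, 3, 3, 2, 1, 0, 0, 2, 0, 0, 0, 0, 0, 3, 0, 0, 1, 0, 0, 2, 0, 0, 0, 0, 0, 3, 0, 0, 0, 0, 0, 3, 0, 0, 1, 3, 0, 2, 0, 0, 0, 0, 1, 0, 0, 3, 0, 0, 0, 0, 0, 1, 0, 0, 2, 0, 0, 0, 0, 3, 0, 1, 3, 0, 3, 3, 0, 0, 2, 0, 1, 0, 0, 3, 0, 0, 3, 0, 3, 2, 1, 1, 2, 0, 0, 0, 0, 3, 0, 0, 0, 2, 1, 3, 0, 3],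
    [0, 0, 0, 0, 3, 0, 3, 3, 3, 0, 3, 0, 3, 3, 0, 0, 2, 0, 0, 0, 0, 3, 0, 0, 0, 0, 0, 0, 0, 0, 0, 0, 0, 0, 0, 0, 0, 0, 0, 0, 0, 3, 0, 3, 0, 0, 3, 0, 3, 3, 0, 0, 0, 0, 0, 0, 0, 0, 0, 0, 0, 3, 0, 2, 0, 0, 0, 2, 0, 0, 3, 0, 0, 3, 0, 0, 3, 1, 0, 3, 0, 3, 0, 0, 2, 0, 3, 0, 2, 0, 2, 2, 0, 0, 3, 0, 2, 0, 0, 0, 0, 0, 3, 0, 2],
    [0, 0, 0, 0, 0, 1, 0, 3, 3, 0, 3, 3, 2, 2, 0, 0, 0, 0, 0, 1, 1, 0, 3, 3, 0, 3, 0, 1, 3, 0, 0, 0, 3, 0, 1, 0, 0, 3, 3, 0, 0, 3, 1, 3, 0, 0, 3, 1, 3, 2, 0, 3, 3, 1, 0, 0, 2, 0, 2, 0, 0, 3, 1, 3, 1, 1, 3, 2, 0, 1, 0, 0, 0, 3, 1, 0, 2, 2, 1, 0, 1, 0, 1, 3, 0, 2, 3, 2, 3, 1, 0, 2, 0, 3, 0, 0, 0, 1, 3, 3, 2, 3],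
    [0, 0, 0, 0, 0, 0, 0, 0, 0, 0, 0, 0, 0, 0, 0, 0, 0, 0, 0, 0, 0, 0, 0, 0, 0, 0, 0, 0, 0, 0, 0, 0, 1, 0, 0, 0, 0, 0, 0, 0, 0, 0, 0, 0, 0, 0, 0, 0, 0, 0, 0, 0, 0, 0, 0, 0, 0, 0, 0, 0, 0, 0, 0, 0, 0, 0, 0, 0, 0, 0, 0, 0, 1, 0, 0, 0, 0, 0, 0, 0, 0, 0, 0, 0, 0, 0, 0, 0, 0, 0, 0, 0, 0, 0, 0, 1],
    [0, 0, 0, 0, 0, 3, 0, 0, 3, 2, 3, 3, 2, 1, 0, 0, 0, 2, 0, 0, 0, 0, 0, 0, 0, 0, 0, 3, 0, 1, 0, 0, 0, 0, 2, 0, 0, 0, 0, 0, 0, 0, 0, 0, 0, 3, 0, 3, 0, 0, 0, 0, 0, 3, 0, 3, 0, 0, 2, 0, 0, 0, 0, 0, 0, 0, 0, 3, 3, 1, 0, 0, 0, 0, 3, 3, 0, 2, 1, 2, 0, 0, 0, 0, 0, 3, 0, 0, 2, 1, 2, 2, 1, 0, 0, 3, 0, 3, 3, 0, 3, 3, 3, 3, 2],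
    [0, 0, 0, 0, 0, 3, 0, 0, 3, 3, 0, 2, 3, 0, 0, 0, 0, 2, 0, 0, 0, 0, 0, 0, 3, 0, 0, 0, 0, 0, 0, 0, 0, 0, 0, 0, 0, 0, 0, 0, 0, 0, 3, 0, 0, 0, 0, 3, 0, 0, 3, 0, 0, 0, 0, 3, 0, 0, 3, 0, 0, 0, 0, 0, 0, 0, 0, 0, 0, 0, 0, 0, 0, 0, 0, 0, 0, 2, 0, 0, 0, 0, 0, 3, 0, 2, 0, 0, 3, 3, 0, 3, 3, 0, 0, 3, 0, 3, 0, 0, 2, 1, 0, 1, 2],
    [0, 0, 0, 0, 3, 0, 2, 2, 0, 2, 2, 1, 0, 3, 0, 0, 0, 0, 2, 0, 0, 0, 0, 3, 0, 0, 0, 0, 0, 0, 1, 0, 3, 2, 0, 0, 0, 0, 3, 0, 0, 1, 0, 0, 0, 0, 3, 0, 2, 2, 0, 0, 0, 3, 0, 0, 1, 1, 2, 0, 0, 0, 3, 0, 0, 3, 3, 0, 2, 0, 1, 0, 3, 2, 0, 3, 0, 1, 3, 0, 0, 0, 0, 3, 3, 0, 0, 3, 3, 0, 3, 0, 0, 1, 0, 3, 2, 0, 3, 2, 0, 1, 0, 1, 1],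
    [0, 0, 0, 0, 3, 0, 2, 2, 3, 2, 2, 1, 0, 0, 0, 0, 0, 0, 2, 0, 0, 3, 0, 0, 0, 0, 0, 0, 0, 0, 3, 0, 0, 3, 0, 0, 3, 0, 0, 3, 0, 2, 0, 0, 0, 0, 0, 0, 0, 3, 0, 3, 0, 0, 3, 0, 2, 1, 2, 0, 3, 0, 3, 3, 0, 2, 2, 2, 2, 0, 3, 0, 0, 3, 0, 1, 1, 3, 0, 1, 0, 3, 0, 0, 0, 0, 1, 2, 0, 1, 2, 3, 0, 3, 0, 3, 3, 0, 1, 3, 2, 0, 1, 0, 3],
    [0, 0, 0, 0, 0, 0, 3, 3, 2, 2, 3, 3, 3, 0, 0, 0, 0, 0, 0, 3, 1, 0, 3, 3, 0, 3, 3, 1, 3, 1, 0, 0, 0, 2, 2, 1, 0, 0, 0, 0, 2, 1, 0, 3, 0, 1, 3, 0, 2, 0, 1, 3, 0, 3, 0, 0, 3, 3, 1, 1, 0, 0, 3, 3, 2, 3, 3, 2, 3, 1, 0, 0, 3, 3, 1, 1, 2, 2, 0, 0, 1, 0, 3, 0, 0, 0, 0, 1, 1, 0, 1, 0, 1, 3, 3, 3, 2, 0, 1, 0, 2, 3, 2, 2, 2],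
    [0, 0, 0, 0, 0, 3, 3, 0, 3, 2, 2, 2, 1, 2, 0, 0, 0, 0, 0, 2, 0, 0, 0, 0, 0, 0, 0, 3, 0, 0, 0, 1, 3, 0, 3, 0, 0, 0, 0, 0, 0, 0, 0, 0, 0, 3, 0, 3, 3, 0, 0, 0, 0, 3, 0, 3, 2, 0, 2, 0, 0, 0, 3, 0, 3, 2, 0, 2, 2, 0, 0, 1, 0, 0, 3, 3, 0, 3, 2, 1, 0, 0, 0, 3, 0, 0, 3, 0, 2, 0, 3, 2, 0, 0, 1, 3, 0, 3, 3, 0, 1, 3, 0, 2, 1],
    [0, 0, 0, 0, 0, 3, 3, 0, 3, 1, 1, 0, 0, 2, 0, 0, 0, 0, 0, 2, 0, 0, 0, 0, 0, 0, 3, 3, 0, 0, 0, 3, 0, 0, 3, 0, 0, 0, 0, 0, 0, 0, 0, 0, 3, 3, 0, 3, 3, 0, 0, 0, 3, 3, 0, 3, 2, 0, 1, 0, 0, 3, 3, 0, 3, 2, 0, 1, 1, 0, 0, 0, 3, 0, 2, 2, 0, 1, 0, 3, 0, 0, 3, 0, 0, 0, 3, 0, 2, 2, 0, 3, 0, 0, 3, 0, 0, 3, 2, 0, 1, 3, 0, 0, 1],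
    [0, 0, 0, 0, 0, 0, 0, 0, 0, 0, 0, 2, 1, 2, 0, 0, 0, 0, 0, 0, 0, 0, 0, 0, 1, 0, 3, 1, 0, 1, 0, 0, 0, 0, 2, 0, 0, 0, 0, 0, 0, 0, 1, 0, 3, 1, 0, 0, 0, 0, 1, 0, 3, 1, 0, 0, 0, 0, 2, 1, 0, 0, 0, 0, 2, 0, 0, 0, 2, 0, 0, 0, 0, 0, 1, 3, 0, 1, 3, 0, 1, 0, 0, 0, 0, 2, 1, 0, 0, 1, 2, 1, 1, 0, 3, 1, 0, 1, 0, 0, 1, 0, 0, 1],
    [0, 0, 0, 0, 0, 0, 1, 1, 1, 3, 0, 3, 1, 3, 0, 0, 0, 0, 0, 0, 0, 0, 3, 1, 0, 1, 0, 0, 2, 0, 1, 3, 0, 0, 0, 0, 0, 3, 0, 0, 0, 2, 0, 1, 0, 1, 3, 0, 1, 0, 0, 1, 3, 0, 3, 0, 0, 1, 2, 0, 1, 3, 0, 0, 0, 1, 1, 0, 3, 0, 0, 3, 1, 3, 0, 0, 1, 2, 0, 2, 0, 1, 3, 1, 3, 0, 1, 3, 1, 1, 2, 1, 0, 1, 3, 0, 0, 1, 0, 1, 0, 3, 2, 1, 2],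
    [0, 0, 0, 0, 0, 0, 0, 0, 0, 1, 0, 1, 1, 1, 0, 0, 0, 0, 0, 0, 0, 0, 0, 0, 0, 0, 0, 0, 0, 0, 0, 0, 0, 1, 0, 0, 0, 0, 0, 1, 0, 0, 0, 0, 0, 0, 0, 0, 0, 0, 0, 0, 0, 0, 0, 0, 0, 1, 0, 0, 0, 0, 0, 0, 0, 0, 0, 0, 0, 0, 0, 0, 0, 1, 0, 0, 1, 0, 1, 0, 0, 0, 0, 0, 1, 0, 0, 1, 0, 1, 0, 1, 0, 0, 0, 0, 0, 0, 0, 1, 0, 1, 0, 2, 1],
    [0, 0, 0, 0, 0, 3, 3, 0, 0, 3, 0, 1, 2, 1, 0, 0, 0, 0, 0, 0, 2, 0, 0, 0, 0, 0, 0, 0, 3, 1, 0, 0, 0, 3, 3, 1, 0, 0, 0, 0, 2, 2, 0, 0, 0, 0, 0, 0, 0, 0, 0, 0, 0, 0, 0, 0, 3, 0, 0, 0, 0, 0, 0, 0, 0, 0, 0, 0, 0, 1, 0, 0, 0, 0, 3, 3, 3, 0, 3, 0, 1, 0, 0, 0, 0, 3, 2, 3, 0, 2, 0, 1, 0, 0, 0, 0, 0, 3, 3, 0, 0, 2, 0, 2, 1],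
    [0, 0, 0, 0, 0, 3, 3, 0, 0, 0, 0, 2, 3, 3, 0, 0, 0, 0, 0, 0, 2, 0, 0, 0, 3, 0, 0, 0, 0, 3, 0, 0, 0, 0, 3, 0, 0, 0, 0, 0, 0, 0, 0, 0, 0, 0, 0, 0, 0, 0, 0, 0, 0, 0, 0, 0, 0, 0, 0, 0, 0, 0, 0, 0, 0, 0, 0, 0, 0, 0, 0, 0, 0, 0, 0, 3, 0, 0, 0, 0, 0, 0, 0, 0, 3, 2, 2, 0, 0, 0, 0, 3, 0, 0, 0, 0, 3, 2, 2, 0, 0, 0, 0, 0, 2],
    [0, 0, 0, 0, 0, 0, 3, 3, 1, 3, 3, 2, 2, 2, 0, 0, 0, 0, 0, 0, 0, 2, 0, 0, 0, 0, 0, 0, 0, 0, 1, 0, 0, 3, 0, 0, 1, 0, 0, 3, 0, 3, 0, 0, 0, 0, 0, 0, 0, 1, 0, 0, 0, 0, 0, 0, 0, 3, 0, 0, 0, 0, 0, 3, 0, 3, 3, 0, 0, 0, 1, 0, 0, 3, 0, 3, 0, 1, 3, 3, 0, 1, 0, 0, 3, 0, 2, 3, 0, 3, 2, 2, 0, 0, 0, 0, 3, 0, 0, 1, 0, 1, 3, 1, 1],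
    [0, 0, 0, 0, 0, 0, 3, 3, 3, 0, 3, 1, 2, 0, 0, 0, 0, 0, 0, 0, 0, 2, 0, 0, 0, 0, 0, 0, 0, 0, 3, 0, 0, 0, 0, 0, 3, 0, 0, 0, 0, 3, 0, 0, 0, 0, 0, 0, 0, 3, 0, 0, 0, 0, 0, 0, 0, 0, 0, 0, 3, 0, 0, 3, 0, 3, 3, 0, 0, 0, 3, 0, 0, 0, 0, 3, 3, 3, 0, 3, 0, 3, 0, 0, 0, 0, 3, 3, 0, 0, 3, 3, 0, 3, 0, 0, 3, 0, 3, 3, 2, 0, 0, 3],
    [0, 0, 0, 0, 0, 0, 3, 3, 2, 3, 3, 1, 1, 3, 0, 0, 0, 0, 0, 0, 0, 0, 3, 3, 0, 3, 3, 3, 1, 1, 3, 3, 3, 1, 3, 1, 0, 0, 0, 0, 1, 1, 0, 0, 0, 3, 1, 3, 3, 1, 0, 0, 0, 0, 0, 3, 0, 0, 3, 1, 0, 3, 0, 0, 0, 2, 0, 1, 3, 1, 0, 3, 0, 0, 2, 0, 2, 0, 1, 1, 1, 0, 3, 3, 1, 2, 0, 2, 3, 2, 0, 3, 1, 0, 0, 3, 0, 3, 3, 3, 2, 1, 3, 0, 1],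
    [0, 0, 0, 0, 0, 0, 0, 0, 3, 3, 0, 0, 0, 0, 0, 0, 0, 0, 0, 0, 0, 0, 2, 0, 0, 0, 0, 0, 0, 0, 0, 1, 0, 0, 0, 0, 0, 1, 0, 0, 0, 0, 0, 0, 0, 0, 3, 0, 0, 0, 0, 0, 0, 0, 3, 0, 0, 0, 3, 0, 0, 0, 0, 0, 0, 0, 0, 3, 2, 0, 0, 1, 0, 0, 0, 0, 1, 2, 3, 0, 0, 0, 1, 0, 0, 0, 0, 0, 2, 2, 3, 2, 0, 0, 0, 0, 0, 0, 0, 0, 0, 2, 3, 3, 3],
    [0, 0, 0, 0, 0, 0, 0, 0, 3, 2, 3, 2, 3, 2, 0, 0, 0, 0, 0, 0, 0, 0, 2, 0, 0, 0, 0, 0, 3, 0, 0, 0, 0, 0, 0, 0, 0, 0, 0, 0, 0, 0, 0, 0, 3, 0, 3, 0, 0, 0, 0, 0, 3, 0, 3, 0, 0, 0, 2, 0, 0, 0, 0, 3, 0, 0, 0, 0, 2, 0, 0, 0, 0, 3, 0, 0, 0, 3, 3, 2, 0, 0, 0, 0, 0, 0, 0, 0, 2, 1, 3, 2, 0, 0, 0, 0, 0, 0, 0, 0, 2, 3, 2, 2, 2],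
    [0, 0, 0, 0, 0, 0, 0, 0, 0, 0, 0, 1, 0, 1, 0, 0, 0, 0, 0, 0, 0, 0, 0, 0, 0, 0, 3, 0, 1, 0, 0, 3, 0, 0, 3, 0, 0, 0, 0, 0, 0, 0, 1, 0, 0, 0, 1, 3, 0, 0, 1, 0, 0, 0, 1, 3, 0, 0, 1, 0, 0, 0, 0, 0, 0, 0, 0, 0, 1, 0, 0, 0, 0, 0, 1, 3, 0, 2, 2, 0, 0, 0, 0, 0, 0, 3, 0, 0, 0, 1, 3, 3, 0, 0, 0, 0, 1, 0, 2, 0, 2, 0, 0, 3, 1],
    [0, 0, 0, 0, 0, 0, 0, 0, 0, 3, 0, 1, 3, 0, 0, 0, 0, 0, 0, 0, 0, 0, 0, 0, 0, 0, 0, 0, 0, 0, 0, 3, 0, 3, 0, 0, 0, 3, 0, 3, 0, 0, 0, 1, 0, 0, 0, 0, 0, 0, 0, 1, 0, 0, 3, 0, 3, 2, 3, 0, 0, 3, 0, 0, 0, 1, 1, 3, 3, 0, 0, 3, 0, 1, 0, 0, 0, 3, 3, 0, 0, 0, 3, 0, 0, 0, 3, 0, 0, 2, 1, 2, 0, 0, 3, 0, 3, 0, 1, 1, 1, 1, 1, 2],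
    [0, 0, 0, 0, 0, 0, 3, 3, 3, 3, 0, 1, 3, 1, 0, 0, 0, 0, 0, 0, 0, 0, 0, 2, 0, 0, 0, 0, 0, 0, 0, 0, 1, 3, 0, 0, 0, 0, 1, 3, 0, 3, 0, 0, 0, 0, 3, 0, 3, 3, 0, 0, 0, 0, 0, 0, 0, 3, 0, 0, 0, 0, 0, 0, 0, 3, 3, 3, 0, 0, 0, 0, 1, 3, 0, 2, 2, 2, 3, 3, 0, 0, 0, 1, 0, 0, 2, 0, 3, 3, 2, 1, 0, 0, 0, 0, 0, 0, 0, 3, 3, 1, 0, 3],
    [0, 0, 0, 0, 0, 0, 3, 3, 3, 3, 3, 1, 2, 3, 0, 0, 0, 0, 0, 0, 0, 0, 0, 2, 0, 0, 0, 0, 0, 0, 0, 0, 3, 3, 0, 0, 0, 0, 3, 0, 0, 3, 0, 0, 0, 3, 0, 0, 3, 3, 0, 0, 0, 0, 0, 0, 2, 2, 2, 0, 0, 0, 0, 0, 0, 0, 0, 3, 3, 0, 0, 0, 3, 3, 0, 0, 2, 2, 2, 3, 0, 0, 0, 0, 0, 0, 2, 3, 2, 2, 3, 2, 0, 0, 0, 0, 3, 0, 3, 3, 1, 3, 2, 1, 3],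
    [0, 0, 0, 0, 0, 0, 0, 0, 0, 0, 0, 1, 3, 0, 0, 0, 0, 0, 0, 0, 0, 0, 0, 0, 0, 0, 0, 3, 1, 1, 0, 0, 3, 0, 3, 1, 0, 0, 0, 0, 2, 3, 1, 0, 0, 0, 1, 3, 1, 1, 0, 0, 0, 0, 1, 3, 3, 0, 0, 0, 0, 0, 0, 0, 0, 1, 1, 0, 0, 1, 0, 0, 0, 0, 3, 1, 3, 2, 2, 0, 0, 0, 0, 0, 0, 3, 1, 3, 3, 2, 0, 2, 0, 0, 0, 0, 1, 3, 1, 0, 0, 3, 2, 3, 3],
    [0, 0, 0, 0, 0, 0, 0, 0, 1, 1, 3, 1, 1, 2, 0, 0, 0, 0, 0, 0, 0, 0, 0, 0, 0, 0, 0, 0, 0, 0, 1, 0, 3, 1, 0, 0, 1, 0, 3, 1, 0, 0, 0, 1, 0, 0, 3, 0, 2, 3, 0, 0, 0, 0, 1, 0, 2, 3, 3, 0, 0, 0, 3, 1, 0, 0, 0, 0, 3, 0, 1, 0, 3, 1, 0, 1, 1, 0, 2, 3, 0, 0, 0, 3, 0, 0, 2, 3, 3, 1, 2, 0, 0, 0, 0, 3, 1, 0, 0, 2, 2, 2, 3, 0, 2],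
    [0, 0, 0, 0, 0, 0, 0, 0, 0, 1, 1, 2, 3, 0, 0, 0, 0, 0, 0, 0, 0, 0, 0, 0, 0, 0, 0, 0, 1, 0, 0, 1, 0, 1, 3, 0, 0, 1, 0, 0, 3, 3, 0, 0, 1, 3, 1, 0, 0, 0, 0, 0, 0, 3, 1, 0, 1, 0, 1, 0, 0, 0, 0, 1, 3, 3, 0, 0, 0, 0, 0, 1, 0, 0, 0, 0, 3, 3, 0, 2, 0, 0, 0, 0, 1, 0, 1, 0, 3, 2, 0, 0, 0, 0, 0, 0, 1, 0, 1, 0, 1, 0, 2, 1],
    [0, 0, 0, 0, 0, 0, 0, 0, 0, 0, 0, 0, 0, 0, 0, 0, 0, 0, 0, 0, 0, 0, 0, 0, 0, 0, 0, 0, 0, 0, 0, 0, 0, 0, 0, 0, 0, 0, 0, 0, 0, 0, 0, 0, 0, 0, 0, 0, 0, 0, 0, 0, 0, 0, 0, 0, 0, 0, 0, 0, 0, 0, 0, 0, 0, 0, 0, 0, 0, 0, 0, 0, 0, 0, 1, 0, 0, 0, 0, 0, 0, 0, 0, 0, 0, 0, 0, 0, 0, 0, 0, 0, 0, 0, 0, 0, 0, 1],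
    [0, 0, 0, 0, 0, 0, 0, 0, 0, 0, 0, 3, 3, 0, 0, 0, 0, 0, 0, 0, 0, 0, 0, 0, 2, 0, 0, 0, 0, 0, 0, 0, 0, 0, 0, 0, 0, 0, 0, 0, 0, 0, 0, 0, 0, 0, 0, 0, 0, 0, 0, 0, 0, 0, 0, 0, 0, 0, 0, 0, 0, 0, 0, 0, 0, 0, 0, 0, 0, 1, 0, 0, 0, 0, 3, 0, 0, 0, 0, 0, 0, 0, 0, 0, 0, 3, 0, 0, 0, 0, 0, 3, 1, 0, 0, 0, 0, 0, 0, 0, 0, 0, 0, 2, 2],
    [0, 0, 0, 0, 0, 0, 3, 3, 3, 0, 0, 2, 2, 1, 0, 0, 0, 0, 0, 0, 0, 0, 0, 0, 0, 2, 0, 0, 0, 0, 0, 0, 0, 0, 3, 0, 0, 0, 0, 0, 3, 3, 0, 0, 0, 0, 0, 3, 3, 3, 0, 0, 0, 0, 0, 0, 0, 0, 0, 0, 0, 0, 0, 0, 0, 0, 0, 0, 0, 0, 1, 0, 0, 0, 0, 2, 1, 3, 0, 0, 0, 0, 0, 0, 0, 3, 3, 3, 0, 0, 0, 2, 0, 1, 0, 0, 0, 0, 3, 3, 2, 0, 0, 2],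
    [0, 0, 0, 0, 0, 0, 3, 3, 2, 0, 0, 2, 2, 0, 0, 0, 0, 0, 0, 0, 0, 0, 0, 0, 0, 2, 0, 0, 0, 0, 3, 0, 0, 0, 0, 0, 3, 0, 0, 0, 0, 3, 0, 3, 0, 0, 0, 0, 3, 0, 0, 0, 0, 0, 0, 0, 0, 0, 0, 0, 0, 0, 0, 0, 3, 2, 2, 0, 0, 0, 0, 0, 0, 0, 0, 0, 2, 3, 0, 0, 0, 3, 0, 0, 0, 0, 3, 0, 0, 0, 3, 0, 0, 0, 0, 0, 0, 3, 0, 0, 1, 0, 1, 1, 2],
    [0, 0, 0, 0, 0, 0, 0, 0, 0, 2, 1, 2, 2, 2, 0, 0, 0, 0, 0, 0, 0, 0, 0, 0, 0, 0, 3, 3, 0, 1, 0, 3, 3, 0, 0, 1, 0, 3, 3, 0, 3, 3, 1, 0, 3, 3, 0, 0, 0, 1, 0, 0, 0, 0, 0, 0, 2, 2, 2, 0, 0, 0, 3, 0, 0, 2, 2, 0, 0, 0, 3, 3, 0, 0, 0, 0, 2, 0, 3, 1, 1, 3, 3, 3, 0, 0, 0, 3, 0, 3, 3, 3, 0, 0, 0, 0, 0, 0, 0, 3, 0, 3, 3, 1, 3],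
    [0, 0, 0, 0, 0, 0, 0, 0, 0, 3, 3, 0, 0, 3, 0, 0, 0, 0, 0, 0, 0, 0, 0, 0, 0, 0, 2, 0, 0, 0, 0, 0, 0, 0, 0, 0, 0, 0, 0, 0, 0, 0, 0, 0, 0, 0, 0, 0, 0, 0, 0, 0, 0, 0, 0, 3, 0, 0, 0, 0, 0, 0, 0, 0, 3, 0, 0, 0, 3, 0, 0, 1, 0, 0, 0, 0, 0, 0, 2, 2, 0, 0, 0, 0, 0, 0, 0, 0, 0, 0, 0, 0, 0, 0, 1, 0, 0, 0, 0, 0, 0, 2, 3],
    [0, 0, 0, 0, 0, 0, 0, 0, 0, 3, 3, 3, 3, 3, 0, 0, 0, 0, 0, 0, 0, 0, 0, 0, 0, 0, 2, 0, 0, 0, 0, 0, 0, 0, 0, 0, 0, 0, 0, 0, 0, 0, 0, 0, 0, 0, 0, 3, 0, 0, 0, 0, 3, 0, 0, 3, 0, 0, 0, 0, 0, 3, 0, 0, 3, 0, 0, 0, 3, 0, 0, 0, 0, 0, 3, 0, 0, 0, 3, 3, 0, 0, 0, 0, 0, 0, 0, 0, 0, 0, 3, 3, 0, 0, 0, 0, 0, 0, 0, 0, 0, 2, 3, 2, 2],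
    [0, 0, 0, 0, 0, 0, 0, 0, 0, 0, 0, 1, 1, 0, 0, 0, 0, 0, 0, 0, 0, 0, 0, 0, 0, 0, 0, 0, 0, 0, 0, 0, 0, 0, 0, 0, 0, 0, 0, 0, 0, 0, 0, 0, 0, 0, 0, 1, 0, 0, 1, 0, 0, 0, 0, 0, 0, 0, 3, 1, 0, 0, 0, 0, 3, 0, 0, 3, 3, 0, 0, 3, 0, 0, 3, 0, 0, 1, 0, 0, 0, 0, 3, 0, 0, 3, 0, 0, 3, 0, 0, 0, 0, 0, 0, 0, 0, 0, 0, 0, 1, 1, 0, 1, 1],
    [0, 0, 0, 0, 0, 0, 0, 0, 0, 2, 3, 1, 3, 2, 0, 0, 0, 0, 0, 0, 0, 0, 0, 0, 0, 0, 0, 0, 3, 0, 0, 3, 0, 3, 0, 0, 0, 3, 0, 3, 0, 0, 0, 0, 3, 0, 3, 1, 1, 1, 0, 1, 0, 0, 0, 0, 2, 3, 1, 0, 1, 0, 0, 3, 0, 3, 3, 0, 0, 0, 0, 0, 0, 3, 1, 3, 3, 2, 3, 2, 0, 0, 3, 0, 3, 1, 1, 3, 0, 0, 2, 2, 0, 0, 0, 0, 0, 0, 3, 3, 1, 2, 0, 1, 2],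
    [0, 0, 0, 0, 0, 0, 0, 0, 0, 3, 3, 0, 0, 2, 0, 0, 0, 0, 0, 0, 0, 0, 0, 0, 0, 0, 0, 2, 0, 0, 0, 0, 0, 0, 0, 0, 0, 0, 0, 0, 0, 0, 0, 0, 0, 0, 0, 0, 0, 0, 0, 0, 0, 0, 0, 3, 0, 0, 0, 0, 0, 0, 0, 0, 3, 0, 0, 0, 3, 0, 0, 0, 1, 0, 0, 0, 0, 0, 2, 2, 0, 0, 0, 0, 0, 0, 0, 0, 0, 0, 0, 0, 0, 0, 0, 1, 0, 3, 0, 0, 0, 3],
    [0, 0, 0, 0, 0, 0, 0, 0, 0, 3, 3, 3, 3, 3, 0, 0, 0, 0, 0, 0, 0, 0, 0, 0, 0, 0, 0, 2, 0, 0, 0, 0, 0, 0, 3, 0, 0, 0, 0, 0, 0, 0, 0, 0, 0, 0, 0, 0, 0, 0, 0, 0, 0, 3, 0, 0, 0, 0, 0, 0, 0, 0, 3, 0, 0, 0, 0, 0, 3, 0, 0, 0, 0, 0, 3, 0, 0, 0, 2, 3, 0, 0, 0, 0, 0, 0, 0, 0, 0, 2, 3, 2, 0, 0, 0, 3, 0, 3, 0, 0, 0, 3, 3],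
    [0, 0, 0, 0, 0, 0, 0, 0, 0, 0, 0, 1, 1, 0, 0, 0, 0, 0, 0, 0, 0, 0, 0, 0, 0, 0, 0, 0, 0, 0, 0, 0, 0, 0, 0, 0, 0, 0, 0, 0, 0, 0, 0, 0, 0, 0, 0, 1, 0, 0, 1, 0, 0, 0, 0, 0, 0, 0, 3, 1, 0, 0, 0, 0, 3, 0, 0, 3, 3, 0, 0, 0, 3, 0, 3, 0, 0, 1, 0, 0, 0, 0, 0, 3, 0, 3, 0, 0, 3, 0, 0, 0, 1, 0, 0, 0, 0, 1],
    [0, 0, 0, 0, 0, 0, 0, 0, 0, 2, 3, 2, 2, 1, 0, 0, 0, 0, 0, 0, 0, 0, 0, 0, 0, 0, 0, 0, 3, 0, 0, 0, 3, 3, 1, 0, 0, 0, 3, 3, 1, 0, 0, 0, 0, 3, 3, 0, 3, 3, 0, 1, 0, 0, 0, 1, 2, 3, 3, 0, 1, 0, 0, 3, 1, 0, 0, 1, 1, 0, 0, 0, 0, 3, 1, 2, 3, 2, 2, 2, 0, 0, 0, 3, 3, 1, 1, 0, 0, 0, 2, 1, 0, 1, 0, 0, 0, 1, 1, 3, 2, 3, 3, 1, 2],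
    [0, 0, 0, 0, 0, 0, 0, 0, 0, 0, 0, 0, 1, 1, 0, 0, 0, 0, 0, 0, 0, 0, 0, 0, 0, 0, 0, 0, 0, 0, 0, 0, 0, 0, 1, 0, 0, 0, 0, 0, 0, 0, 0, 0, 0, 0, 0, 1, 0, 0, 0, 0, 1, 3, 0, 1, 0, 0, 0, 0, 0, 1, 3, 0, 1, 0, 0, 0, 0, 0, 0, 0, 0, 0, 0, 0, 0, 0, 3, 2, 0, 0, 0, 0, 0, 0, 3, 0, 0, 0, 0, 1, 0, 0, 1, 0, 0, 0, 1, 0, 1, 0, 3, 3],
    [0, 0, 0, 0, 0, 0, 0, 0, 0, 3, 0, 3, 0, 3, 0, 0, 0, 0, 0, 0, 0, 0, 0, 0, 0, 0, 0, 0, 2, 0, 0, 0, 0, 0, 0, 0, 0, 0, 0, 0, 0, 0, 0, 0, 0, 0, 0, 0, 0, 0, 0, 0, 0, 0, 0, 3, 0, 0, 0, 0, 0, 0, 0, 0, 0, 0, 0, 0, 0, 0, 0, 0, 0, 1, 3, 0, 0, 0, 3, 0, 0, 0, 0, 0, 0, 0, 0, 0, 0, 0, 0, 0, 0, 0, 0, 0, 1, 3, 0, 0, 0, 2, 0, 3],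
    [0, 0, 0, 0, 0, 0, 0, 0, 0, 3, 0, 2, 3, 2, 0, 0, 0, 0, 0, 0, 0, 0, 0, 0, 0, 0, 0, 0, 2, 0, 0, 0, 0, 0, 3, 0, 0, 0, 0, 0, 3, 0, 0, 0, 0, 0, 0, 0, 0, 0, 0, 0, 0, 0, 3, 0, 0, 0, 0, 0, 0, 0, 0, 0, 0, 0, 0, 0, 0, 0, 0, 0, 0, 3, 3, 0, 0, 0, 3, 0, 0, 0, 0, 0, 0, 3, 0, 3, 0, 2, 0, 0, 0, 0, 0, 0, 3, 0, 0, 0, 0, 3, 0, 2, 3],
    [0, 0, 0, 0, 0, 0, 0, 0, 0, 0, 0, 0, 1, 3, 0, 0, 0, 0, 0, 0, 0, 0, 0, 0, 0, 0, 0, 0, 0, 0, 0, 0, 0, 0, 1, 0, 0, 0, 0, 0, 0, 0, 0, 0, 0, 0, 0, 0, 0, 0, 1, 0, 0, 0, 0, 3, 3, 0, 0, 0, 0, 0, 0, 0, 0, 0, 0, 0, 0, 1, 0, 0, 0, 3, 0, 0, 0, 0, 3, 0, 0, 0, 0, 0, 3, 3, 3, 0, 0, 0, 0, 2, 1, 0, 0, 0, 0, 0, 1, 0, 0, 0, 0, 3, 2],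
    [0, 0, 0, 0, 0, 0, 0, 0, 0, 3, 0, 3, 0, 3, 0, 0, 0, 0, 0, 0, 0, 0, 0, 0, 0, 0, 0, 0, 0, 0, 0, 0, 0, 3, 1, 0, 0, 0, 0, 3, 1, 0, 0, 0, 0, 0, 3, 0, 3, 3, 0, 1, 0, 0, 0, 0, 2, 3, 3, 0, 0, 0, 0, 0, 1, 0, 0, 1, 1, 0, 1, 0, 0, 0, 1, 3, 0, 3, 3, 0, 0, 0, 0, 0, 3, 1, 0, 1, 1, 2, 3, 0, 0, 1, 0, 0, 0, 1, 3, 3, 2, 0, 2, 1, 3],
    [0, 0, 0, 0, 0, 0, 0, 0, 0, 0, 0, 0, 0, 0, 0, 0, 0, 0, 0, 0, 0, 0, 0, 0, 0, 0, 0, 0, 0, 0, 0, 0, 0, 0, 0, 0, 0, 0, 0, 0, 0, 0, 0, 0, 0, 0, 0, 1, 0, 0, 0, 0, 1, 0, 3, 1, 0, 0, 0, 0, 0, 0, 0, 3, 0, 0, 0, 3, 0, 0, 0, 1, 0, 0, 0, 0, 0, 0, 2, 1, 0, 0, 0, 0, 0, 0, 0, 0, 3, 3, 0, 1, 0, 0, 1, 0, 0, 0, 0, 0, 0, 1],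
    [0, 0, 0, 0, 0, 0, 0, 0, 0, 0, 0, 1, 1, 0, 0, 0, 0, 0, 0, 0, 0, 0, 0, 0, 0, 0, 0, 0, 0, 0, 0, 0, 0, 0, 1, 0, 0, 0, 0, 0, 1, 0, 0, 0, 0, 0, 0, 1, 0, 0, 0, 0, 0, 1, 3, 0, 0, 0, 0, 0, 0, 0, 0, 3, 0, 3, 3, 3, 1, 0, 0, 0, 1, 0, 1, 0, 0, 1, 1, 1, 0, 0, 0, 0, 0, 0, 3, 0, 3, 0, 0, 1, 0, 0, 0, 1, 3, 0, 3, 3, 0, 0, 0, 0, 3],
    [0, 0, 0, 0, 0, 0, 0, 0, 0, 0, 0, 0, 0, 0, 0, 0, 0, 0, 0, 0, 0, 0, 0, 0, 0, 0, 0, 0, 0, 0, 0, 0, 0, 0, 0, 0, 0, 0, 0, 0, 0, 0, 0, 0, 0, 0, 0, 0, 0, 0, 0, 0, 0, 0, 0, 0, 0, 0, 0, 0, 0, 0, 0, 0, 0, 0, 0, 0, 0, 0, 0, 0, 0, 0, 0, 1],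
    [0, 0, 0, 0, 0, 0, 0, 0, 0, 0, 0, 3, 0, 3, 0, 0, 0, 0, 0, 0, 0, 0, 0, 0, 0, 0, 0, 0, 0, 2, 0, 0, 0, 0, 0, 0, 0, 0, 0, 0, 0, 0, 0, 0, 0, 0, 0, 0, 0, 0, 0, 0, 0, 0, 0, 0, 0, 0, 0, 0, 0, 0, 0, 0, 0, 0, 0, 0, 0, 1, 0, 0, 0, 0, 0, 3, 0, 0, 0, 0, 0, 0, 0, 0, 0, 0, 0, 0, 0, 0, 0, 0, 0, 0, 0, 0, 0, 0, 3, 0, 0, 0, 0, 3],
    [0, 0, 0, 0, 0, 0, 0, 0, 0, 0, 0, 3, 0, 3, 0, 0, 0, 0, 0, 0, 0, 0, 0, 0, 0, 0, 0, 0, 0, 2, 0, 0, 0, 0, 0, 0, 0, 0, 0, 0, 0, 0, 0, 0, 0, 0, 0, 0, 0, 0, 0, 0, 0, 0, 0, 0, 0, 0, 0, 0, 0, 0, 0, 0, 0, 0, 0, 0, 0, 3, 0, 0, 0, 0, 0, 0, 0, 0, 0, 0, 0, 0, 0, 0, 0, 0, 3, 0, 0, 0, 0, 2, 3, 0, 0, 0, 0, 0, 3, 0, 0, 0, 0, 3],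
    [0, 0, 0, 0, 0, 0, 0, 0, 3, 0, 0, 3, 0, 2, 0, 0, 0, 0, 0, 0, 0, 0, 0, 0, 0, 0, 0, 0, 0, 0, 2, 0, 0, 0, 0, 0, 0, 0, 0, 0, 0, 0, 0, 0, 0, 0, 0, 0, 3, 0, 0, 0, 0, 0, 0, 0, 0, 0, 0, 0, 0, 0, 0, 0, 0, 0, 0, 0, 0, 0, 1, 0, 0, 0, 0, 3, 0, 3, 0, 0, 0, 0, 0, 0, 0, 0, 0, 0, 3, 0, 0, 2, 0, 0, 0, 0, 0, 0, 3, 0, 0, 0, 0, 2, 3],
    [0, 0, 0, 0, 0, 0, 0, 0, 3, 0, 0, 3, 3, 2, 0, 0, 0, 0, 0, 0, 0, 0, 0, 0, 0, 0, 0, 0, 0, 0, 2, 0, 0, 0, 0, 0, 0, 0, 0, 0, 0, 0, 0, 3, 0, 0, 0, 0, 0, 0, 0, 0, 0, 0, 0, 0, 0, 0, 0, 0, 0, 0, 0, 0, 0, 3, 0, 2, 0, 0, 3, 0, 0, 0, 0, 0, 0, 3, 0, 0, 0, 0, 0, 0, 0, 0, 0, 0, 0, 0, 0, 3, 0, 3, 0, 0, 0, 0, 3, 0, 3, 0, 3, 2, 3],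
    [0, 0, 0, 0, 0, 0, 0, 0, 0, 3, 3, 2, 2, 3, 0, 0, 0, 0, 0, 0, 0, 0, 0, 0, 0, 0, 0, 0, 0, 0, 0, 3, 3, 0, 3, 0, 0, 0, 0, 0, 0, 0, 1, 0, 3, 3, 0, 3, 0, 0, 0, 0, 0, 3, 0, 0, 0, 0, 0, 0, 0, 0, 3, 0, 0, 0, 0, 0, 3, 1, 3, 0, 0, 0, 0, 3, 0, 3, 3, 2, 0, 0, 3, 3, 0, 3, 1, 0, 2, 3, 0, 1, 1, 3, 0, 3, 0, 3, 3, 0, 0, 3, 3, 2],
    [0, 0, 0, 0, 0, 0, 0, 0, 0, 0, 0, 3, 0, 0, 0, 0, 0, 0, 0, 0, 0, 0, 0, 0, 0, 0, 0, 0, 0, 0, 0, 2, 0, 0, 0, 0, 0, 0, 0, 0, 0, 0, 0, 0, 0, 0, 0, 0, 0, 0, 0, 0, 0, 0, 0, 0, 0, 0, 0, 0, 0, 0, 0, 0, 0, 0, 0, 0, 0, 0, 0, 1, 0, 0, 0, 3],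
    [0, 0, 0, 0, 0, 0, 0, 0, 0, 0, 0, 3, 0, 3, 0, 0, 0, 0, 0, 0, 0, 0, 0, 0, 0, 0, 0, 0, 0, 0, 0, 2, 0, 0, 1, 0, 0, 0, 0, 0, 0, 0, 0, 0, 0, 0, 0, 0, 3, 0, 0, 0, 0, 0, 0, 0, 3, 0, 0, 0, 0, 0, 0, 0, 0, 3, 0, 0, 0, 0, 0, 3, 0, 0, 0, 3, 0, 0, 0, 0, 0, 0, 0, 0, 0, 0, 0, 0, 1, 0, 0, 2, 0, 0, 0, 0, 0, 0, 0, 0, 0, 3],
    [0, 0, 0, 0, 0, 0, 0, 0, 0, 0, 0, 0, 0, 1, 0, 0, 0, 0, 0, 0, 0, 0, 0, 0, 0, 0, 0, 0, 0, 0, 0, 0, 0, 0, 3, 0, 0, 0, 0, 0, 0, 0, 0, 0, 0, 0, 0, 0, 1, 0, 0, 0, 0, 0, 0, 0, 1, 0, 0, 0, 0, 0, 0, 0, 0, 0, 0, 0, 0, 1, 0, 3, 0, 0, 0, 0, 0, 0, 0, 0, 0, 0, 0, 0, 0, 0, 0, 0, 3, 0, 0, 2, 0, 0, 3, 0, 0, 3, 1, 0, 3, 0, 0, 1],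
    [0, 0, 0, 0, 0, 0, 0, 0, 0, 3, 3, 2, 0, 3, 0, 0, 0, 0, 0, 0, 0, 0, 0, 0, 0, 0, 0, 0, 0, 0, 0, 0, 0, 3, 0, 0, 0, 0, 0, 0, 0, 0, 0, 0, 3, 0, 3, 0, 1, 0, 0, 0, 0, 0, 3, 0, 0, 0, 3, 0, 0, 0, 0, 3, 0, 0, 0, 0, 3, 0, 1, 3, 0, 3, 0, 1, 0, 3, 3, 1, 0, 0, 0, 0, 0, 0, 1, 0, 3, 3, 2, 3, 0, 0, 3, 0, 3, 0, 0, 0, 0, 3, 2],
    [0, 0, 0, 0, 0, 0, 0, 0, 0, 0, 0, 0, 0, 0, 0, 0, 0, 0, 0, 0, 0, 0, 0, 0, 0, 0, 0, 0, 0, 0, 0, 0, 2, 0, 0, 0, 0, 0, 0, 0, 0, 0, 0, 0, 0, 0, 0, 0, 0, 0, 0, 0, 0, 0, 0, 0, 0, 0, 0, 0, 0, 0, 0, 0, 0, 0, 0, 0, 0, 0, 0, 0, 1],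
    [0, 0, 0, 0, 0, 0, 0, 0, 0, 0, 0, 0, 0, 0, 0, 0, 0, 0, 0, 0, 0, 0, 0, 0, 0, 0, 0, 0, 0, 0, 0, 0, 2, 0, 0, 0, 0, 0, 0, 0, 0, 0, 0, 0, 0, 0, 0, 0, 0, 0, 0, 0, 0, 0, 0, 0, 0, 0, 0, 0, 0, 0, 0, 0, 0, 0, 0, 0, 0, 0, 0, 0, 0, 0, 0, 3, 0, 0, 0, 0, 0, 0, 0, 0, 0, 0, 0, 0, 0, 0, 0, 0, 0, 0, 0, 0, 0, 0, 3],
    [0, 0, 0, 0, 0, 0, 0, 0, 0, 0, 0, 0, 0, 1, 0, 0, 0, 0, 0, 0, 0, 0, 0, 0, 0, 0, 0, 0, 0, 0, 0, 0, 0, 0, 3, 0, 0, 0, 0, 0, 0, 0, 0, 0, 0, 0, 0, 0, 1, 0, 0, 0, 0, 0, 0, 0, 1, 0, 0, 0, 0, 0, 0, 0, 0, 0, 0, 0, 0, 0, 0, 0, 3, 0, 3, 0, 0, 3, 3, 0, 0, 0, 0, 0, 0, 0, 0, 0, 3, 0, 0, 0, 0, 0, 0, 3, 0, 3, 1, 0, 3, 0, 0, 1],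
    [0, 0, 0, 0, 0, 0, 0, 0, 0, 3, 3, 3, 2, 2, 0, 0, 0, 0, 0, 0, 0, 0, 0, 0, 0, 0, 0, 0, 0, 0, 0, 0, 0, 3, 0, 0, 0, 0, 0, 0, 0, 1, 0, 0, 0, 3, 3, 0, 3, 3, 0, 0, 0, 0, 3, 0, 1, 0, 0, 0, 0, 0, 0, 3, 0, 1, 0, 1, 3, 0, 0, 0, 3, 3, 0, 1, 0, 3, 3, 1, 0, 0, 0, 0, 3, 0, 0, 0, 0, 3, 2, 2, 0, 0, 0, 3, 0, 0, 0, 0, 0, 3, 1],
    [0, 0, 0, 0, 0, 0, 0, 0, 0, 0, 0, 0, 0, 1, 0, 0, 0, 0, 0, 0, 0, 0, 0, 0, 0, 0, 0, 0, 0, 0, 0, 0, 0, 0, 3, 0, 0, 0, 0, 0, 0, 0, 0, 0, 0, 0, 0, 0, 1, 0, 0, 0, 0, 0, 0, 0, 1, 0, 0, 0, 0, 0, 0, 0, 0, 1, 0, 0, 0, 0, 0, 0, 3, 0, 3, 3, 0, 1, 1, 1, 0, 0, 0, 0, 0, 0, 0, 0, 3, 0, 0, 3, 0, 0, 0, 0, 0, 0, 1, 0, 0, 1, 0, 1],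
    [0, 0, 0, 0, 0, 0, 0, 0, 0, 3, 0, 3, 3, 3, 0, 0, 0, 0, 0, 0, 0, 0, 0, 0, 0, 0, 0, 0, 0, 0, 0, 0, 0, 2, 0, 0, 0, 0, 0, 0, 0, 0, 0, 0, 0, 0, 0, 0, 0, 0, 0, 0, 0, 0, 0, 0, 3, 0, 0, 0, 0, 0, 0, 0, 0, 0, 0, 0, 0, 0, 0, 0, 0, 1, 0, 3, 0, 0, 3, 0, 0, 0, 0, 0, 0, 0, 3, 0, 0, 3, 0, 3, 0, 0, 0, 0, 0, 0, 3, 0, 0, 0, 0, 3, 3],
    [0, 0, 0, 0, 0, 0, 0, 0, 0, 3, 0, 2, 3, 2, 0, 0, 0, 0, 0, 0, 0, 0, 0, 0, 0, 0, 0, 0, 0, 0, 0, 0, 0, 2, 0, 0, 0, 0, 0, 0, 0, 3, 0, 0, 0, 0, 0, 0, 0, 0, 0, 0, 0, 0, 3, 0, 0, 0, 0, 0, 0, 0, 0, 0, 0, 0, 0, 0, 0, 0, 0, 0, 0, 3, 0, 3, 0, 0, 3, 0, 0, 0, 0, 0, 3, 0, 3, 0, 0, 3, 0, 3, 0, 0, 0, 0, 3, 0, 0, 0, 0, 3, 0, 2, 1],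
    [0, 0, 0, 0, 0, 0, 0, 0, 0, 0, 0, 0, 0, 3, 0, 0, 0, 0, 0, 0, 0, 0, 0, 0, 0, 0, 0, 0, 0, 0, 0, 0, 0, 0, 3, 0, 0, 0, 0, 0, 0, 0, 0, 0, 0, 0, 0, 0, 0, 0, 1, 0, 0, 0, 0, 3, 3, 0, 0, 0, 0, 0, 0, 0, 0, 0, 0, 0, 0, 1, 0, 0, 0, 3, 0, 0, 0, 0, 3, 0, 1, 0, 0, 0, 0, 3, 0, 0, 0, 3, 0, 0, 1, 0, 0, 0, 3, 3, 0, 0, 0, 1, 0, 3],
    [0, 0, 0, 0, 0, 0, 0, 0, 0, 0, 0, 0, 0, 3, 0, 0, 0, 0, 0, 0, 0, 0, 0, 0, 0, 0, 0, 0, 0, 0, 0, 0, 0, 0, 0, 0, 0, 0, 0, 0, 0, 1, 0, 0, 0, 0, 3, 0, 3, 3, 0, 1, 0, 0, 0, 0, 3, 3, 3, 0, 0, 0, 0, 0, 0, 0, 3, 1, 1, 0, 1, 0, 0, 3, 0, 0, 1, 3, 3, 2, 0, 1, 0, 0, 0, 0, 0, 0, 0, 0, 3, 3, 0, 1, 0, 0, 3, 0, 0, 3, 3, 3, 0, 3, 1],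
    [0, 0, 0, 0, 0, 0, 0, 0, 0, 0, 0, 0, 1, 1, 0, 0, 0, 0, 0, 0, 0, 0, 0, 0, 0, 0, 0, 0, 0, 0, 0, 0, 0, 0, 0, 0, 0, 0, 0, 0, 0, 0, 0, 0, 0, 0, 0, 0, 1, 0, 0, 0, 1, 0, 0, 0, 1, 0, 3, 0, 0, 0, 0, 0, 0, 0, 0, 0, 0, 0, 0, 1, 0, 3, 0, 0, 0, 0, 1, 0, 0, 0, 1, 0, 0, 0, 0, 0, 3, 1, 0, 0, 0, 0, 1, 0, 0, 0, 0, 0, 0, 1, 0, 3],
    [0, 0, 0, 0, 0, 0, 0, 0, 0, 0, 0, 1, 1, 1, 0, 0, 0, 0, 0, 0, 0, 0, 0, 0, 0, 0, 0, 0, 0, 0, 0, 0, 0, 0, 0, 0, 0, 0, 0, 0, 0, 1, 0, 0, 0, 0, 0, 0, 1, 0, 0, 0, 0, 1, 0, 0, 3, 3, 3, 0, 0, 0, 0, 0, 0, 0, 0, 0, 0, 0, 0, 0, 1, 0, 0, 0, 1, 0, 0, 0, 0, 0, 0, 1, 0, 0, 3, 3, 3, 1, 0, 1, 0, 0, 0, 1, 0, 0, 3, 0, 1, 0, 0, 3],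
    [0, 0, 0, 0, 0, 0, 0, 0, 0, 0, 0, 0, 3, 0, 0, 0, 0, 0, 0, 0, 0, 0, 0, 0, 0, 0, 0, 0, 0, 0, 0, 0, 0, 0, 2, 0, 0, 0, 0, 0, 0, 0, 0, 0, 0, 0, 0, 0, 0, 0, 0, 0, 0, 0, 0, 0, 0, 0, 0, 0, 0, 0, 0, 0, 0, 0, 0, 0, 0, 0, 0, 0, 0, 0, 1, 0, 0, 0, 0, 0, 0, 0, 0, 0, 0, 0, 3],
    [0, 0, 0, 0, 0, 0, 0, 0, 0, 0, 0, 0, 3, 0, 0, 0, 0, 0, 0, 0, 0, 0, 0, 0, 0, 0, 0, 0, 0, 0, 0, 0, 0, 0, 2, 0, 0, 0, 0, 0, 0, 0, 0, 0, 0, 0, 0, 0, 0, 0, 0, 0, 0, 0, 0, 0, 0, 0, 0, 0, 0, 0, 0, 0, 0, 0, 0, 0, 0, 0, 0, 0, 0, 0, 0, 3, 0, 0, 0, 0, 0, 0, 0, 0, 0, 3, 0, 0, 0, 0, 0, 0, 0, 0, 0, 0, 0, 0, 3, 0, 0, 0, 0, 0, 2],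
    [0, 0, 0, 0, 0, 0, 0, 0, 0, 0, 0, 0, 0, 0, 0, 0, 0, 0, 0, 0, 0, 0, 0, 0, 0, 0, 0, 0, 0, 0, 0, 0, 0, 0, 0, 0, 0, 0, 0, 0, 0, 0, 0, 0, 0, 0, 0, 0, 0, 0, 0, 0, 0, 0, 0, 0, 0, 0, 0, 0, 0, 0, 0, 0, 0, 0, 0, 0, 0, 0, 0, 0, 0, 0, 3, 1, 0, 0, 0, 0, 1, 0, 0, 0, 0, 0, 1, 0, 0, 0, 0, 3, 0, 0, 0, 0, 0, 3, 0, 0, 0, 0, 0, 3],
    [0, 0, 0, 0, 0, 0, 0, 0, 0, 0, 0, 0, 0, 0, 0, 0, 0, 0, 0, 0, 0, 0, 0, 0, 0, 0, 0, 0, 0, 0, 0, 0, 0, 0, 0, 0, 0, 0, 0, 0, 0, 1, 0, 0, 0, 0, 0, 3, 0, 3, 0, 0, 0, 0, 0, 0, 0, 0, 0, 0, 0, 0, 0, 0, 0, 0, 0, 0, 0, 0, 0, 0, 0, 0, 3, 0, 0, 2, 0, 0, 0, 1, 0, 0, 0, 0, 0, 0, 3, 0, 0, 2, 0, 0, 0, 0, 0, 3, 3, 0, 0, 0, 0, 3],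
    [0, 0, 0, 0, 0, 0, 0, 0, 0, 0, 0, 0, 0, 1, 0, 0, 0, 0, 0, 0, 0, 0, 0, 0, 0, 0, 0, 0, 0, 0, 0, 0, 0, 0, 0, 0, 0, 0, 0, 0, 0, 0, 0, 0, 0, 0, 0, 0, 0, 0, 0, 0, 0, 0, 0, 0, 1, 0, 0, 0, 0, 0, 0, 0, 0, 1, 0, 0, 0, 0, 0, 0, 0, 0, 3, 0, 0, 0, 3, 3, 0, 0, 1, 0, 0, 0, 0, 0, 0, 3, 3, 3, 0, 0, 0, 0, 0, 0, 0, 0, 0, 0, 1, 1, 1],
    [0, 0, 0, 0, 0, 0, 0, 0, 0, 0, 0, 0, 0, 1, 0, 0, 0, 0, 0, 0, 0, 0, 0, 0, 0, 0, 0, 0, 0, 0, 0, 0, 0, 0, 0, 0, 0, 0, 0, 0, 0, 0, 0, 0, 0, 0, 0, 0, 0, 0, 0, 0, 0, 0, 0, 0, 1, 0, 0, 0, 0, 0, 0, 0, 0, 1, 0, 0, 0, 0, 0, 0, 0, 0, 0, 0, 0, 0, 0, 0, 0, 0, 0, 1, 0, 0, 0, 0, 0, 3, 3, 0, 0, 0, 0, 0, 0, 0, 1, 0, 0, 0, 1],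
    [0, 0, 0, 0, 0, 0, 0, 0, 0, 0, 0, 0, 0, 0, 0, 0, 0, 0, 0, 0, 0, 0, 0, 0, 0, 0, 0, 0, 0, 0, 0, 0, 0, 0, 0, 0, 0, 0, 0, 0, 0, 0, 0, 0, 0, 0, 0, 0, 0, 0, 0, 0, 0, 0, 0, 3, 1, 0, 0, 0, 0, 0, 0, 0, 0, 0, 0, 0, 0, 0, 0, 0, 0, 0, 3, 1, 0, 0, 0, 0, 0, 0, 0, 0, 1, 3, 0, 0, 0, 3, 0, 3, 0, 0, 0, 0, 0, 3, 1],
    [0, 0, 0, 0, 0, 0, 0, 0, 0, 0, 0, 0, 0, 0, 0, 0, 0, 0, 0, 0, 0, 0, 0, 0, 0, 0, 0, 0, 0, 0, 0, 0, 0, 0, 0, 0, 0, 0, 0, 0, 0, 0, 0, 0, 0, 0, 0, 0, 0, 0, 0, 0, 0, 0, 0, 0, 0, 0, 0, 0, 0, 0, 0, 0, 0, 0, 0, 0, 0, 0, 0, 0, 0, 0, 0, 0, 0, 0, 0, 0, 0, 0, 0, 0, 0, 0, 0, 0, 0, 0, 0, 0, 0, 0, 0, 0, 0, 0, 0, 1],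
    [0, 0, 0, 0, 0, 0, 0, 0, 0, 0, 0, 3, 0, 3, 0, 0, 0, 0, 0, 0, 0, 0, 0, 0, 0, 0, 0, 0, 0, 0, 0, 0, 0, 0, 0, 2, 0, 0, 0, 0, 0, 0, 0, 0, 0, 0, 0, 0, 0, 0, 0, 0, 0, 0, 0, 0, 0, 0, 0, 0, 0, 0, 0, 0, 0, 0, 0, 0, 0, 0, 0, 0, 0, 0, 0, 0, 3, 0, 0, 0, 0, 0, 0, 0, 0, 0, 0, 0, 0, 0, 0, 0, 1, 0, 0, 0, 0, 0, 0, 3, 0, 0, 0, 3],
    [0, 0, 0, 0, 0, 0, 0, 0, 3, 0, 0, 3, 3, 3, 0, 0, 0, 0, 0, 0, 0, 0, 0, 0, 0, 0, 0, 0, 0, 0, 0, 0, 0, 0, 0, 0, 2, 0, 0, 0, 0, 0, 0, 3, 0, 0, 0, 0, 0, 0, 0, 0, 0, 0, 0, 0, 0, 0, 0, 0, 0, 0, 0, 0, 0, 0, 3, 2, 0, 0, 3, 0, 0, 0, 0, 0, 0, 3, 0, 0, 0, 0, 0, 0, 0, 0, 0, 0, 0, 0, 0, 3, 0, 0, 0, 0, 0, 0, 0, 3, 2, 0, 3, 1, 3],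
    [1, 0, 0, 1, 1, 1, 3, 1, 2, 1, 0, 0, 1, 2, 0, 0, 0, 1, 0, 0, 1, 0, 0, 1, 0, 0, 0, 0, 1, 1, 0, 0, 0, 1, 0, 0, 0, 0, 0, 1, 0, 0, 1, 0, 0, 0, 2, 1, 3, 0, 0, 0, 0, 0, 2, 0, 1, 1, 3, 0, 0, 0, 1, 1, 1, 2, 0, 1, 1, 0, 0, 0, 0, 2, 1, 3, 2, 2, 2, 1, 1, 0, 0, 1, 2, 2, 2, 2, 0, 2, 3, 2, 1, 0, 0, 1, 2, 0, 3, 0, 0, 2, 2, 3, 3, 2],
    [0, 0, 0, 0, 0, 1, 0, 0, 0, 3, 0, 2, 1, 1, 0, 1, 0, 1, 0, 3, 1, 0, 3, 0, 0, 0, 0, 1, 3, 1, 0, 3, 0, 3, 0, 1, 0, 0, 1, 3, 0, 1, 1, 0, 3, 1, 3, 1, 0, 1, 1, 0, 0, 1, 1, 1, 0, 3, 2, 1, 0, 0, 0, 0, 0, 1, 0, 1, 2, 1, 0, 0, 0, 0, 2, 1, 1, 0, 0, 2, 1, 0, 3, 1, 1, 0, 3, 2, 2, 2, 1, 1, 2, 0, 3, 2, 0, 1, 0, 2, 3, 2, 1, 0, 3],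
    [0, 1, 3, 3, 3, 3, 1, 2, 1, 0, 0, 0, 2, 3, 0, 0, 0, 0, 0, 3, 0, 0, 3, 3, 0, 0, 0, 3, 0, 0, 0, 3, 0, 2, 0, 0, 0, 3, 3, 0, 0, 3, 0, 0, 3, 3, 3, 3, 1, 1, 0, 1, 3, 3, 3, 3, 1, 1, 3, 0, 0, 3, 2, 0, 3, 2, 3, 0, 0, 0, 0, 3, 3, 2, 3, 2, 1, 1, 0, 2, 0, 0, 0, 0, 0, 0, 1, 2, 0, 2, 2, 2, 0, 0, 3, 3, 1, 0, 0, 0, 0, 2, 2, 2, 2, 0, 0, 0, 0, 0, 0, 0, 0, 0, 0, 0, 0, 0, 0, 0, 2],
    [0, 0, 1, 1, 1, 1, 3, 2, 3, 0, 0, 3, 1, 0, 0, 0, 0, 0, 0, 1, 0, 0, 1, 1, 0, 0, 0, 1, 0, 0, 0, 1, 0, 2, 0, 0, 0, 1, 1, 0, 0, 1, 0, 0, 1, 1, 1, 1, 3, 3, 3, 0, 1, 2, 0, 1, 3, 0, 1, 3, 0, 1, 3, 1, 1, 2, 2, 0, 0, 3, 0, 1, 3, 2, 1, 2, 0, 3, 1, 1, 3, 0, 0, 1, 0, 0, 3, 3, 0, 0, 1, 3, 3, 0, 1, 2, 3, 0, 0, 3, 0, 1, 1, 2, 3, 0, 0, 0, 0, 0, 0, 0, 0, 0, 0, 0, 0, 0, 0, 0, 0, 0, 0, 0, 0, 0, 0, 0, 0, 0, 0, 0, 0, 2, 0, 0, 0, 0, 1, 1, 1, 1],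
    [0, 0, 0, 0, 1, 1, 2, 2, 2, 2, 2, 2, 0, 3, 3, 0, 0, 2, 1, 0, 1, 1, 0, 0, 3, 0, 3, 1, 1, 3, 1, 3, 1, 3, 3, 1, 1, 3, 3, 2, 0, 0, 0, 1, 0, 2, 3, 1, 2, 1, 1, 1, 1, 1, 1, 3, 1, 1, 0, 1, 0, 2, 0, 1, 2, 2, 0, 1, 3, 0, 0, 0, 1, 2, 0, 3, 0, 2, 1, 3, 1, 0, 0, 2, 3, 2, 3, 3, 0, 1, 2, 0, 0, 3, 3, 2, 0, 2, 2, 3, 0, 3, 3, 2, 2, 0, 0, 0, 0, 0, 0, 0, 0, 0, 0, 0, 0, 0, 0, 0, 0, 0, 0, 0, 0, 0, 0, 0, 0, 0, 0, 0, 0, 0, 0, 0, 0, 0, 1, 0, 1, 1],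
    [0, 0, 0, 0, 1, 2, 1, 2, 0, 3, 2, 1, 0, 3, 3, 3, 0, 3, 1, 0, 3, 1, 1, 0, 0, 0, 0, 0, 1, 1, 0, 1, 2, 1, 2, 1, 1, 0, 1, 2, 0, 0, 3, 0, 1, 0, 3, 1, 0, 3, 0, 1, 1, 2, 0, 3, 0, 3, 0, 0, 1, 1, 3, 3, 2, 0, 2, 3, 0, 3, 1, 0, 0, 3, 2, 0, 1, 1, 1, 3, 0, 1, 0, 3, 2, 3, 2, 2, 2, 0, 2, 0, 0, 1, 2, 0, 1, 2, 3, 0, 3, 2, 2, 0, 1, 0, 0, 0, 0, 0, 0, 0, 0, 0, 0, 0, 0, 0, 0, 0, 0, 0, 0, 0, 0, 0, 0, 0, 0, 0, 0, 0, 0, 0, 0, 0, 0, 0, 0, 1],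
    [0, 0, 0, 0, 0, 1, 1, 0, 1, 3, 0, 2, 3, 3, 0, 3, 0, 1, 0, 1, 1, 0, 1, 0, 3, 0, 0, 0, 2, 3, 0, 1, 3, 0, 0, 1, 0, 1, 0, 0, 1, 1, 0, 0, 1, 1, 3, 1, 1, 2, 1, 0, 1, 3, 2, 3, 0, 1, 1, 0, 0, 0, 3, 1, 1, 1, 0, 1, 1, 1, 0, 0, 1, 1, 1, 2, 3, 3, 3, 1, 1, 0, 0, 1, 2, 1, 2, 0, 0, 2, 0, 0, 1, 0, 3, 1, 1, 0, 1, 1, 1, 0, 0, 3, 1, 0, 0, 0, 0, 0, 0, 0, 0, 0, 0, 0, 0, 0, 0, 0, 0, 0, 0, 0, 0, 0, 0, 0, 0, 0, 0, 0, 0, 0, 0, 0, 0, 0, 1, 0, 0, 1],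
    [0, 0, 0, 0, 0, 3, 0, 0, 0, 0, 1, 3, 3, 2, 0, 3, 0, 3, 0, 1, 3, 0, 1, 0, 0, 0, 0, 3, 1, 3, 0, 0, 1, 2, 0, 3, 0, 1, 0, 0, 0, 3, 3, 0, 0, 2, 2, 3, 2, 1, 3, 0, 1, 3, 2, 3, 3, 0, 0, 0, 0, 1, 0, 2, 0, 2, 2, 0, 2, 3, 0, 1, 1, 3, 2, 0, 1, 0, 2, 2, 0, 0, 1, 1, 2, 0, 2, 2, 1, 3, 3, 3, 3, 0, 1, 0, 0, 3, 2, 0, 3, 0, 0, 3, 1, 0, 0, 0, 0, 0, 0, 0, 0, 0, 0, 0, 0, 0, 0, 0, 0, 0, 0, 0, 0, 0, 0, 0, 0, 0, 0, 0, 0, 0, 0, 0, 0, 0, 0, 0, 0, 1],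
    [0, 0, 0, 0, 1, 2, 1, 2, 1, 2, 0, 2, 2, 2, 3, 3, 1, 3, 0, 0, 3, 0, 0, 1, 0, 1, 0, 0, 1, 0, 1, 3, 2, 2, 2, 0, 0, 2, 3, 1, 2, 0, 3, 0, 1, 0, 0, 3, 3, 3, 0, 0, 0, 0, 1, 3, 2, 0, 2, 0, 3, 1, 1, 3, 3, 3, 2, 2, 3, 3, 1, 3, 3, 0, 3, 1, 2, 1, 1, 2, 0, 3, 2, 2, 1, 1, 2, 3, 1, 0, 2, 3, 0, 0, 2, 2, 3, 1, 3, 1, 3, 0, 1, 0, 3, 0, 0, 0, 0, 0, 0, 0, 0, 0, 0, 0, 0, 0, 0, 0, 0, 0, 0, 0, 0, 0, 0, 0, 0, 0, 0, 0, 0, 0, 0, 0, 0, 0, 0, 0, 1, 1],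
    [1, 0, 3, 3, 0, 3, 3, 2, 3, 1, 1, 0, 1, 1, 0, 0, 0, 0, 0, 3, 0, 0, 0, 0, 0, 0, 3, 2, 0, 0, 0, 3, 0, 0, 2, 1, 0, 0, 0, 0, 1, 1, 1, 0, 3, 2, 0, 2, 2, 1, 1, 0, 3, 2, 0, 3, 2, 2, 0, 1, 0, 0, 3, 0, 3, 2, 1, 1, 1, 0, 0, 3, 2, 0, 0, 1, 3, 0, 1, 2, 0, 0, 0, 0, 0, 0, 0, 0, 1, 0, 3, 1, 0, 0, 3, 3, 0, 2, 3, 0, 2, 1, 0, 3, 0, 0, 0, 0, 0, 0, 0, 0, 0, 0, 0, 0, 0, 0, 0, 0, 0, 0, 0, 0, 0, 0, 0, 0, 0, 0, 0, 0, 0, 0, 0, 0, 0, 0, 0, 0, 0, 0, 0, 0, 0, 0, 0, 2, 0, 0, 0, 1, 1],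
    [0, 0, 0, 0, 0, 2, 0, 0, 2, 1, 2, 1, 0, 3, 0, 2, 0, 2, 0, 0, 0, 0, 0, 0, 1, 0, 3, 1, 0, 1, 0, 3, 3, 0, 0, 1, 0, 3, 3, 0, 0, 0, 2, 0, 2, 0, 0, 2, 0, 0, 1, 0, 3, 2, 0, 3, 3, 3, 2, 0, 0, 2, 2, 0, 3, 1, 3, 0, 1, 1, 0, 3, 3, 0, 3, 0, 1, 2, 1, 0, 0, 0, 0, 3, 0, 0, 1, 0, 0, 0, 3, 1, 1, 0, 0, 1, 0, 3, 0, 1, 2, 3, 0, 2, 1],
    [0, 0, 0, 0, 0, 2, 1, 1, 1, 3, 0, 0, 3, 3, 0, 1, 0, 1, 0, 0, 0, 0, 0, 0, 2, 0, 0, 1, 0, 1, 0, 1, 3, 0, 2, 1, 0, 3, 3, 0, 3, 0, 2, 0, 0, 1, 0, 0, 3, 1, 2, 0, 1, 2, 0, 2, 1, 0, 3, 0, 0, 3, 0, 0, 0, 1, 3, 1, 3, 1, 0, 1, 1, 0, 3, 2, 3, 0, 2, 1, 0, 0, 3, 3, 0, 2, 1, 0, 1, 1, 3, 3, 1, 0, 1, 2, 0, 1, 0, 2, 2, 3, 0, 3, 0, 0, 0, 0, 0, 0, 0, 0, 0, 0, 0, 0, 0, 0, 0, 0, 0, 0, 0, 0, 0, 0, 0, 0, 0, 0, 0, 0, 0, 0, 0, 0, 0, 0, 0, 0, 0, 0, 0, 0, 0, 0, 0, 0, 0, 0, 0, 1, 1],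
    [0, 0, 0, 0, 0, 0, 0, 0, 0, 3, 2, 2, 3, 2, 0, 0, 0, 0, 0, 0, 0, 0, 0, 0, 0, 0, 3, 3, 0, 0, 0, 3, 3, 0, 0, 0, 0, 3, 3, 0, 3, 3, 0, 0, 0, 0, 0, 1, 1, 1, 0, 0, 3, 0, 0, 0, 2, 3, 3, 0, 0, 0, 0, 0, 0, 2, 2, 0, 0, 1, 0, 0, 0, 0, 0, 0, 2, 2, 1, 0, 0, 0, 3, 0, 0, 3, 0, 3, 0, 1, 0, 1, 0, 0, 0, 0, 0, 1, 3, 3, 0, 0, 1],
    [0, 0, 0, 0, 0, 1, 0, 0, 1, 3, 1, 1, 2, 2, 0, 1, 0, 1, 0, 0, 0, 0, 0, 0, 1, 0, 0, 1, 0, 1, 0, 0, 0, 0, 0, 0, 0, 3, 3, 0, 3, 3, 1, 0, 1, 2, 0, 2, 1, 1, 1, 0, 1, 1, 0, 2, 1, 3, 0, 0, 0, 3, 3, 0, 3, 3, 2, 2, 2, 1, 0, 0, 1, 0, 3, 1, 0, 3, 1, 3, 0, 0, 0, 0, 0, 0, 0, 2, 3, 2, 3, 3, 2, 0, 1, 2, 0, 2, 0, 0, 1, 1, 2, 3, 2]]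
  tgt := [
    ([], []),
    ([(0, 2)], [(0, 2), (1, 2), (4, 2), (6, 2), (7, 2), (9, 2), (11, 2), (13, 2), (15, 2), (18, 2), (19, 2), (20, 2), (24, 2), (27, 2), (28, 2), (31, 2), (33, 2), (35, 2), (37, 2), (41, 2), (42, 2), (45, 2), (46, 2), (48, 2), (49, 2), (50, 2), (51, 2), (56, 2), (57, 2), (59, 2), (61, 2), (62, 2), (66, 2), (67, 2), (68, 2), (71, 2), (74, 2), (75, 2), (76, 2), (77, 2), (81, 2), (83, 2), (84, 2), (96, 2), (98, 2)]),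
    ([], []),
    ([], []),
    ([], []),
    ([(0, 3)], [(0, 3), (1, 3), (2, 2), (4, 1), (5, 2), (6, 3), (7, 1), (8, 2), (9, 3), (11, 3), (12, 2), (13, 1), (14, 2), (15, 1), (17, 2), (18, 1), (19, 3), (20, 3), (24, 1), (25, 2), (26, 2), (27, 3), (28, 1), (30, 2), (31, 3), (32, 2), (33, 1), (34, 2), (35, 3), (36, 2), (37, 3), (39, 2), (40, 2), (41, 1), (42, 1), (45, 3), (46, 1), (47, 2), (48, 3), (49, 1), (50, 3), (51, 3), (52, 2), (53, 2), (56, 1), (57, 1), (58, 2), (59, 3), (60, 2), (61, 1), (62, 1), (63, 2), (66, 3), (67, 1), (68, 3), (70, 2), (71, 1), (72, 2), (74, 1), (75, 1), (76, 3), (77, 3), (78, 2), (81, 1), (82, 2), (83, 3), (84, 3), (90, 2), (92, 2), (93, 2), (94, 2), (96, 1), (98, 3), (99, 2)]),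
    ([], []),
    ([(0, 3)], [(1, 3), (2, 2), (4, 1), (5, 1), (6, 1), (9, 2), (11, 3), (12, 2), (13, 2), (14, 2), (17, 3), (18, 1), (19, 1), (20, 1), (21, 2), (22, 2), (23, 2), (25, 3), (27, 1), (28, 2), (29, 3), (30, 1), (31, 2), (32, 1), (33, 2), (34, 1), (35, 3), (37, 2), (39, 2), (40, 3), (41, 1), (42, 2), (43, 2), (44, 3), (45, 2), (46, 3), (47, 2), (48, 1), (49, 3), (50, 3), (51, 3), (52, 1), (53, 3), (54, 3), (55, 1), (56, 2), (60, 2), (61, 1), (62, 1), (63, 3), (64, 2), (65, 2), (67, 1), (68, 2), (69, 3), (72, 3), (73, 1), (74, 2), (76, 2), (77, 3), (78, 1), (80, 2), (82, 2), (84, 3), (86, 2), (90, 2), (92, 2), (93, 2), (94, 2), (95, 2), (97, 2), (98, 3)]),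
    ([(0, 2)], [(0, 2), (1, 2), (4, 2), (6, 2), (7, 2), (9, 2), (11, 2), (13, 2), (15, 2), (18, 2), (19, 2), (20, 2), (24, 2), (27, 2), (28, 2), (31, 2), (33, 2), (35, 2), (37, 2), (41, 2), (42, 2), (45, 2), (46, 2), (48, 2), (49, 2), (50, 2), (51, 2), (56, 2), (57, 2), (59, 2), (61, 2), (62, 2), (66, 2), (67, 2), (68, 2), (71, 2), (74, 2), (75, 2), (76, 2), (77, 2), (81, 2), (83, 2), (84, 2), (96, 2), (98, 2)]),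
    ([(0, 2)], [(0, 1), (1, 2), (2, 2), (4, 3), (5, 2), (6, 1), (8, 1), (9, 2), (11, 2), (12, 3), (14, 3), (15, 2), (16, 2), (17, 3), (18, 3), (19, 3), (20, 3), (21, 2), (22, 1), (23, 1), (25, 1), (27, 2), (28, 1), (29, 3), (31, 3), (33, 1), (35, 2), (37, 2), (38, 1), (39, 1), (40, 3), (41, 3), (42, 3), (43, 3), (44, 3), (46, 3), (47, 1), (48, 3), (51, 1), (52, 3), (53, 1), (54, 2), (55, 1), (57, 2), (59, 1), (60, 3), (61, 1), (64, 2), (65, 2), (66, 3), (67, 1), (69, 1), (70, 3), (72, 3), (73, 2), (74, 3), (75, 2), (76, 2), (77, 2), (78, 3), (82, 3), (84, 1), (87, 2), (88, 2), (90, 2), (92, 2), (93, 2), (94, 2), (98, 2), (99, 2)]),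
    ([], [(0, 2), (1, 3), (2, 2), (4, 2), (5, 1), (6, 2), (8, 1), (9, 2), (10, 1), (11, 3), (13, 2), (14, 1), (17, 1), (18, 1), (21, 3), (24, 1), (25, 2), (26, 3), (27, 2), (28, 2), (29, 1), (31, 3), (33, 2), (34, 2), (35, 1), (36, 2), (37, 1), (39, 1), (41, 3), (43, 3), (44, 1), (45, 2), (46, 2), (49, 2), (51, 3), (52, 3), (53, 2), (54, 1), (56, 2), (57, 3), (58, 1), (59, 2), (60, 1), (61, 3), (62, 3), (63, 3), (66, 1), (69, 2), (70, 3), (72, 1), (73, 2), (75, 1), (77, 2), (80, 2), (81, 3), (82, 3), (83, 1), (88, 2), (96, 2), (99, 2)]),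
    ([(0, 2)], [(0, 3), (1, 2), (2, 2), (3, 2), (4, 2), (5, 2), (7, 1), (10, 3), (11, 3), (12, 1), (13, 1), (15, 2), (16, 2), (18, 2), (20, 1), (21, 1), (22, 3), (23, 3), (24, 3), (25, 1), (26, 1), (27, 2), (28, 1), (29, 3), (31, 1), (33, 3), (34, 1), (36, 1), (37, 1), (38, 3), (39, 2), (40, 2), (41, 2), (42, 2), (43, 1), (44, 2), (45, 2), (46, 3), (47, 3), (48, 2), (49, 3), (50, 2), (51, 3), (52, 2), (53, 3), (54, 3), (55, 2), (56, 1), (57, 2), (58, 3), (60, 2), (61, 2), (62, 2), (63, 2), (64, 1), (65, 3), (66, 1), (67, 2), (68, 3), (70, 1), (71, 2), (72, 2), (74, 1), (75, 2), (77, 2), (78, 3), (79, 1), (80, 2), (81, 2), (82, 2), (83, 3), (84, 1), (87, 2), (96, 2), (98, 2)]),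
    ([], [(0, 1), (3, 2), (4, 1), (5, 1), (6, 2), (7, 3), (8, 1), (9, 2), (10, 1), (11, 1), (13, 1), (14, 3), (16, 2), (17, 2), (18, 1), (19, 2), (20, 2), (21, 2), (22, 2), (25, 1), (27, 3), (29, 1), (30, 1), (31, 2), (32, 1), (33, 2), (34, 3), (35, 1), (37, 2), (38, 3), (39, 2), (40, 3), (42, 2), (43, 2), (44, 1), (45, 3), (46, 3), (48, 2), (49, 2), (52, 3), (53, 1), (55, 1), (56, 1), (57, 1), (58, 1), (59, 2), (60, 1), (62, 3), (64, 3), (65, 1), (67, 2), (68, 3), (69, 1), (70, 1), (71, 1), (72, 3), (73, 2), (74, 3), (75, 2), (79, 3), (80, 3), (81, 1), (83, 3), (84, 2), (87, 2), (95, 2), (97, 2)]),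
    ([(0, 2)], [(4, 3), (5, 1), (6, 2), (7, 3), (8, 1), (9, 2), (10, 1), (11, 1), (12, 2), (13, 1), (14, 3), (16, 2), (18, 1), (19, 2), (23, 2), (24, 2), (25, 1), (27, 1), (28, 2), (29, 1), (30, 3), (32, 1), (34, 3), (36, 3), (37, 2), (38, 1), (39, 2), (40, 3), (41, 2), (42, 2), (43, 2), (44, 1), (45, 1), (46, 1), (47, 2), (51, 2), (52, 1), (53, 3), (55, 2), (56, 2), (57, 3), (58, 3), (59, 2), (60, 1), (62, 3), (63, 2), (64, 1), (65, 3), (68, 1), (69, 1), (70, 1), (71, 1), (72, 3), (73, 2), (74, 1), (76, 1), (77, 1), (78, 1), (79, 3), (80, 3), (81, 1), (82, 2), (83, 1), (87, 2), (96, 2)]),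
    ([], []),
    ([(0, 3)], [(0, 3), (2, 1), (3, 1), (4, 3), (5, 1), (7, 3), (8, 2), (9, 3), (10, 3), (11, 3), (12, 1), (13, 2), (14, 1), (15, 3), (16, 1), (17, 2), (18, 2), (19, 3), (21, 3), (23, 3), (24, 1), (27, 1), (28, 3), (30, 3), (31, 3), (32, 3), (33, 1), (34, 1), (35, 2), (36, 3), (38, 1), (40, 1), (41, 3), (42, 2), (43, 1), (44, 1), (45, 2), (46, 2), (47, 1), (48, 3), (50, 3), (51, 1), (52, 2), (53, 3), (54, 2), (55, 3), (56, 3), (57, 1), (59, 3), (62, 3), (63, 1), (64, 3), (66, 3), (68, 2), (69, 1), (71, 1), (72, 1), (73, 1), (75, 3), (76, 3), (79, 2), (80, 1), (81, 3), (82, 2), (83, 3), (84, 1), (86, 3), (87, 1), (88, 1), (89, 3), (90, 2), (91, 1), (92, 3), (93, 1), (94, 3), (95, 1), (96, 3), (97, 3), (99, 2)]),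
    ([(0, 1)], [(0, 1), (1, 1), (2, 2), (4, 3), (5, 2), (6, 1), (7, 3), (8, 2), (9, 1), (11, 1), (12, 2), (13, 3), (14, 2), (15, 3), (17, 2), (18, 3), (19, 1), (20, 1), (24, 3), (25, 2), (26, 2), (27, 1), (28, 3), (30, 2), (31, 1), (32, 2), (33, 3), (34, 2), (35, 1), (36, 2), (37, 1), (39, 2), (40, 2), (41, 3), (42, 3), (45, 1), (46, 3), (47, 2), (48, 1), (49, 3), (50, 1), (51, 1), (52, 2), (53, 2), (56, 3), (57, 3), (58, 2), (59, 1), (60, 2), (61, 3), (62, 3), (63, 2), (66, 1), (67, 3), (68, 1), (70, 2), (71, 3), (72, 2), (74, 3), (75, 3), (76, 1), (77, 1), (78, 2), (81, 3), (82, 2), (83, 1), (84, 1), (90, 2), (92, 2), (93, 2), (94, 2), (96, 3), (98, 1), (99, 2)]),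
    ([(0, 1)], [(1, 3), (3, 2), (5, 2), (6, 3), (9, 2), (10, 1), (11, 2), (12, 1), (13, 3), (14, 2), (15, 2), (16, 2), (18, 2), (20, 2), (21, 2), (22, 1), (23, 3), (24, 3), (25, 2), (26, 3), (27, 2), (28, 1), (30, 2), (31, 3), (32, 3), (33, 1), (34, 3), (35, 3), (36, 2), (38, 1), (39, 2), (40, 3), (42, 3), (43, 2), (46, 3), (47, 3), (48, 2), (50, 3), (51, 3), (52, 3), (53, 1), (55, 2), (56, 1), (58, 3), (59, 1), (60, 3), (61, 1), (63, 1), (64, 2), (65, 3), (66, 3), (67, 1), (69, 1), (70, 2), (72, 3), (73, 3), (74, 3), (75, 3), (76, 2), (77, 1), (78, 3), (79, 3), (80, 2), (82, 1), (83, 2), (84, 1), (86, 3), (87, 3), (88, 1), (89, 3), (90, 1), (91, 1), (95, 1), (96, 2), (97, 3), (98, 1), (99, 3)]),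
    ([], []),
    ([(0, 1)], [(0, 3), (1, 1), (2, 1), (3, 1), (4, 3), (5, 1), (9, 2), (10, 1), (11, 3), (12, 1), (13, 2), (14, 3), (16, 1), (18, 2), (19, 1), (20, 2), (21, 2), (23, 3), (25, 1), (26, 3), (28, 1), (29, 3), (30, 2), (31, 2), (32, 2), (33, 1), (34, 3), (35, 2), (36, 2), (37, 2), (38, 2), (39, 3), (40, 3), (42, 1), (43, 1), (44, 1), (45, 2), (46, 2), (47, 3), (48, 1), (50, 3), (51, 3), (52, 2), (53, 2), (55, 1), (56, 1), (57, 2), (58, 1), (59, 1), (60, 3), (61, 1), (62, 1), (63, 1), (65, 3), (66, 1), (67, 2), (68, 2), (69, 2), (70, 1), (71, 3), (72, 3), (74, 3), (75, 2), (77, 2), (78, 3), (79, 1), (80, 2), (81, 1), (82, 1), (86, 2), (88, 2), (90, 1), (92, 3), (93, 1), (94, 3), (95, 3), (96, 1), (97, 1), (98, 2), (99, 3)]),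
    ([], [(0, 2), (1, 1), (2, 2), (5, 2), (6, 2), (8, 1), (9, 3), (10, 3), (13, 2), (15, 3), (16, 1), (17, 1), (18, 1), (19, 2), (20, 3), (21, 1), (22, 1), (23, 3), (24, 2), (25, 1), (26, 1), (27, 2), (28, 2), (31, 1), (32, 1), (33, 1), (34, 1), (35, 3), (36, 3), (38, 1), (39, 1), (40, 1), (41, 1), (42, 1), (43, 2), (44, 2), (45, 2), (46, 3), (47, 2), (48, 3), (49, 2), (50, 1), (51, 3), (52, 3), (53, 1), (54, 1), (56, 1), (57, 2), (58, 3), (60, 3), (61, 1), (62, 1), (63, 2), (64, 2), (67, 1), (68, 2), (69, 1), (70, 2), (74, 3), (75, 2), (76, 1), (77, 3), (78, 1), (79, 3), (80, 2), (81, 2), (82, 2), (83, 3), (84, 3), (87, 3), (88, 2), (90, 3), (92, 1), (93, 3), (94, 1), (95, 1), (96, 3), (97, 3), (99, 1)]),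
    ([], [(0, 2), (1, 3), (2, 2), (3, 1), (5, 1), (9, 2), (10, 2), (11, 1), (13, 1), (14, 1), (15, 3), (16, 3), (17, 3), (18, 3), (19, 2), (21, 2), (22, 3), (24, 3), (25, 1), (26, 2), (27, 1), (28, 2), (32, 3), (33, 3), (36, 3), (37, 2), (38, 3), (40, 3), (41, 2), (43, 3), (45, 1), (46, 3), (48, 1), (50, 3), (51, 2), (53, 1), (56, 3), (57, 2), (58, 1), (59, 3), (60, 3), (62, 1), (63, 2), (64, 3), (65, 2), (70, 2), (71, 1), (72, 1), (74, 1), (75, 3), (77, 2), (78, 2), (81, 2), (87, 1), (88, 1), (95, 2), (96, 2), (97, 2), (98, 2)]),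
    ([], [(0, 1), (4, 1), (5, 2), (7, 1), (10, 3), (12, 2), (13, 2), (14, 3), (15, 1), (16, 1), (18, 2), (19, 2), (20, 1), (21, 3), (23, 3), (25, 3), (26, 2), (27, 1), (29, 3), (31, 3), (33, 2), (34, 3), (35, 2), (36, 2), (38, 3), (40, 1), (41, 1), (42, 1), (43, 3), (45, 1), (46, 2), (48, 1), (49, 3), (50, 2), (51, 1), (52, 3), (53, 1), (55, 1), (57, 3), (58, 1), (59, 1), (60, 3), (61, 3), (63, 3), (64, 2), (65, 1), (66, 1), (67, 1), (69, 1), (70, 2), (73, 2), (74, 1), (76, 2), (77, 1), (78, 1), (79, 2), (80, 1), (81, 2), (84, 2), (87, 1), (88, 1), (90, 1), (92, 3), (93, 1), (94, 3), (95, 3), (96, 1), (97, 1), (99, 3)]),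
    ([], []),
    ([], [(0, 2), (1, 3), (3, 3), (4, 2), (6, 1), (7, 1), (9, 3), (11, 2), (12, 1), (13, 3), (15, 3), (16, 2), (18, 3), (19, 2), (20, 3), (21, 2), (22, 3), (24, 3), (25, 1), (26, 3), (27, 1), (28, 3), (29, 2), (30, 3), (31, 3), (33, 1), (34, 2), (35, 2), (36, 2), (37, 3), (39, 2), (40, 2), (41, 1), (42, 2), (43, 1), (45, 1), (46, 2), (47, 2), (50, 1), (52, 2), (53, 2), (54, 2), (55, 3), (56, 2), (57, 1), (58, 3), (59, 2), (60, 3), (64, 3), (66, 2), (67, 2), (68, 3), (70, 2), (72, 2), (74, 2), (76, 1), (77, 3), (78, 1), (80, 2), (82, 2), (83, 2), (88, 2), (90, 2), (92, 2), (93, 2), (94, 2), (95, 3), (96, 2), (97, 1), (98, 2), (99, 2)]),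
    ([(0, 2)], [(1, 2), (2, 2), (3, 1), (5, 1), (6, 1), (7, 2), (9, 3), (10, 3), (12, 2), (15, 2), (18, 3), (20, 2), (21, 3), (22, 2), (23, 2), (24, 1), (25, 2), (26, 3), (27, 1), (28, 3), (30, 3), (31, 3), (32, 1), (34, 1), (36, 1), (38, 3), (41, 2), (42, 2), (44, 2), (45, 3), (46, 2), (47, 3), (48, 1), (49, 2), (50, 2), (51, 3), (52, 1), (55, 3), (56, 1), (57, 3), (58, 3), (59, 2), (60, 2), (62, 3), (63, 1), (65, 1), (66, 1), (67, 1), (68, 1), (69, 1), (70, 3), (71, 1), (72, 3), (73, 3), (74, 1), (75, 1), (76, 1), (77, 3), (80, 1), (81, 3), (82, 1), (87, 1), (88, 2), (90, 2), (92, 2), (93, 2), (94, 2), (95, 3), (96, 1), (97, 1), (99, 3)]),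
    ([], [(0, 3), (1, 3), (2, 1), (3, 3), (6, 1), (7, 2), (8, 1), (9, 2), (11, 3), (12, 3), (13, 1), (14, 1), (15, 3), (17, 2), (18, 3), (21, 1), (22, 1), (23, 1), (24, 1), (26, 3), (27, 1), (29, 3), (30, 3), (31, 2), (32, 2), (33, 3), (34, 1), (35, 1), (36, 3), (37, 1), (39, 2), (41, 3), (42, 1), (44, 3), (46, 3), (47, 3), (48, 3), (49, 2), (52, 2), (53, 3), (55, 2), (56, 3), (57, 3), (59, 3), (60, 1), (61, 1), (62, 2), (63, 1), (64, 3), (65, 2), (68, 3), (69, 3), (70, 3), (71, 3), (72, 2), (73, 2), (75, 1), (76, 3), (81, 1), (82, 3), (83, 2), (84, 2), (86, 2), (87, 1), (90, 2), (92, 2), (93, 2), (94, 2), (95, 2), (96, 1), (97, 2), (98, 2), (99, 2)]),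
    ([], [(0, 1), (1, 2), (2, 3), (3, 3), (4, 2), (5, 1), (6, 3), (7, 1), (8, 1), (10, 1), (11, 2), (12, 1), (13, 2), (14, 1), (15, 3), (16, 1), (17, 2), (22, 3), (23, 2), (25, 3), (26, 3), (27, 1), (28, 1), (29, 1), (30, 2), (33, 2), (34, 1), (35, 3), (36, 3), (37, 2), (38, 1), (41, 1), (42, 3), (43, 1), (44, 1), (45, 1), (47, 3), (49, 2), (50, 1), (51, 2), (54, 1), (57, 1), (58, 3), (59, 2), (60, 2), (61, 1), (62, 3), (63, 2), (66, 1), (67, 1), (69, 1), (70, 2), (71, 1), (74, 1), (75, 3), (76, 3), (77, 2), (78, 1), (79, 1), (80, 2), (82, 2), (83, 3), (84, 1), (86, 2), (87, 1), (90, 2), (92, 2), (93, 2), (94, 2), (96, 1), (98, 1), (99, 2)]),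
    ([(0, 1)], [(0, 1), (1, 1), (2, 1), (3, 2), (5, 3), (6, 1), (8, 3), (9, 2), (14, 3), (15, 2), (16, 3), (18, 3), (19, 2), (20, 3), (21, 2), (22, 3), (23, 1), (24, 3), (25, 1), (26, 3), (27, 1), (28, 1), (29, 2), (30, 2), (31, 3), (32, 3), (33, 3), (34, 2), (35, 1), (37, 1), (39, 1), (40, 3), (42, 3), (43, 1), (44, 3), (45, 1), (46, 1), (48, 2), (49, 2), (50, 3), (51, 2), (53, 1), (55, 1), (56, 3), (57, 1), (59, 1), (60, 2), (61, 1), (62, 1), (64, 1), (65, 3), (66, 3), (67, 1), (68, 1), (69, 3), (70, 3), (71, 2), (72, 1), (73, 1), (74, 3), (75, 3), (77, 3), (78, 3), (79, 3), (80, 2), (82, 3), (83, 1), (84, 1), (87, 2), (88, 3), (90, 2), (92, 2), (93, 2), (94, 2), (95, 2), (96, 1), (97, 2), (98, 3), (99, 2)]),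
    ([(0, 3)], [(0, 1), (1, 3), (4, 3), (6, 3), (7, 3), (9, 3), (10, 2), (12, 2), (13, 1), (15, 3), (16, 2), (17, 3), (18, 3), (19, 2), (21, 3), (23, 1), (25, 1), (26, 3), (31, 2), (33, 2), (34, 2), (36, 1), (37, 3), (38, 1), (39, 2), (43, 3), (44, 2), (46, 1), (47, 3), (48, 3), (49, 1), (50, 1), (51, 3), (52, 1), (53, 3), (55, 2), (57, 3), (58, 2), (59, 2), (60, 3), (61, 2), (63, 3), (65, 3), (66, 1), (67, 1), (68, 2), (69, 2), (72, 2), (74, 1), (75, 1), (76, 1), (78, 2), (79, 2), (81, 2), (82, 3), (83, 1), (84, 3), (86, 2), (87, 2), (90, 2), (92, 2), (93, 2), (94, 2), (96, 1)]),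
    ([(0, 2)], [(0, 2), (1, 3), (2, 1), (4, 1), (5, 2), (6, 1), (7, 1), (8, 2), (9, 2), (12, 1), (13, 2), (14, 1), (16, 3), (17, 1), (18, 1), (19, 2), (21, 2), (24, 2), (25, 3), (26, 3), (27, 3), (28, 2), (29, 1), (30, 3), (32, 2), (33, 3), (34, 3), (35, 1), (36, 2), (38, 3), (39, 3), (40, 2), (41, 2), (42, 3), (44, 3), (45, 3), (47, 2), (48, 1), (49, 2), (50, 1), (51, 1), (53, 2), (56, 3), (57, 3), (58, 2), (59, 2), (60, 3), (63, 1), (67, 3), (69, 1), (70, 2), (71, 3), (74, 2), (75, 1), (76, 2), (77, 3), (78, 1), (79, 3), (81, 1), (82, 1), (87, 2), (88, 2), (90, 3), (92, 1), (93, 3), (94, 1), (95, 1), (96, 3), (97, 3), (98, 1)]),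
    ([], [(0, 3), (1, 3), (3, 2), (5, 3), (6, 1), (7, 2), (8, 2), (9, 1), (11, 1), (13, 2), (15, 1), (16, 2), (17, 3), (18, 2), (19, 1), (20, 2), (22, 1), (24, 1), (25, 1), (27, 2), (28, 1), (29, 1), (31, 1), (33, 1), (34, 3), (35, 1), (37, 2), (39, 3), (40, 1), (41, 2), (43, 3), (44, 2), (45, 1), (46, 1), (48, 3), (49, 2), (50, 2), (51, 1), (52, 3), (54, 3), (55, 1), (57, 3), (58, 2), (59, 1), (60, 1), (61, 2), (62, 3), (63, 1), (65, 1), (68, 3), (69, 3), (70, 2), (71, 1), (72, 1), (74, 3), (75, 3), (76, 3), (77, 1), (78, 2), (79, 3), (81, 1), (82, 3), (83, 3), (84, 1), (86, 2), (87, 2), (95, 2), (96, 3), (97, 2), (98, 1)]),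
    ([(0, 2)], [(0, 1), (1, 3), (5, 3), (6, 3), (7, 1), (9, 3), (10, 1), (12, 2), (13, 3), (15, 1), (17, 1), (18, 3), (19, 1), (21, 1), (22, 1), (24, 3), (26, 3), (28, 2), (29, 1), (33, 1), (34, 3), (35, 1), (40, 2), (41, 1), (42, 2), (43, 3), (44, 3), (46, 1), (47, 1), (48, 3), (50, 1), (51, 3), (52, 2), (53, 1), (55, 2), (56, 2), (57, 2), (58, 1), (59, 2), (61, 2), (62, 1), (63, 1), (64, 2), (65, 1), (66, 3), (67, 1), (68, 2), (69, 3), (70, 1), (71, 2), (72, 2), (73, 1), (74, 2), (75, 1), (76, 2), (77, 1), (78, 1), (79, 3), (80, 1), (81, 1), (82, 3), (83, 3), (90, 2), (92, 2), (93, 2), (94, 2), (98, 2), (99, 2)]),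
    ([(0, 3)], [(2, 3), (3, 1), (5, 1), (6, 2), (8, 3), (9, 2), (11, 1), (12, 3), (13, 2), (14, 1), (15, 2), (16, 1), (17, 1), (18, 2), (19, 3), (20, 3), (21, 2), (22, 3), (25, 2), (26, 2), (27, 1), (29, 3), (30, 3), (31, 3), (32, 1), (33, 2), (35, 3), (36, 2), (37, 2), (38, 1), (40, 2), (43, 3), (46, 3), (47, 3), (48, 3), (49, 3), (50, 2), (52, 3), (54, 3), (55, 3), (56, 3), (57, 2), (58, 3), (59, 1), (60, 3), (63, 2), (64, 3), (65, 1), (66, 2), (68, 1), (69, 3), (70, 3), (72, 3), (73, 1), (74, 3), (75, 2), (76, 2), (77, 2), (78, 2), (79, 1), (80, 2), (81, 2), (82, 2), (84, 2), (86, 2), (88, 1), (95, 3), (96, 1), (97, 1)]),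
    ([], [(0, 3), (1, 1), (2, 2), (3, 3), (4, 3), (7, 2), (8, 1), (9, 3), (10, 1), (11, 2), (12, 3), (13, 2), (14, 3), (15, 1), (17, 2), (20, 2), (21, 2), (22, 2), (23, 2), (26, 2), (27, 3), (28, 2), (29, 2), (30, 3), (31, 3), (33, 1), (34, 1), (35, 1), (36, 3), (39, 1), (41, 3), (42, 2), (43, 1), (45, 1), (47, 3), (48, 3), (50, 1), (51, 1), (52, 3), (54, 2), (55, 1), (56, 1), (57, 3), (58, 2), (59, 2), (60, 3), (61, 1), (62, 1), (63, 3), (68, 2), (69, 1), (70, 1), (71, 1), (73, 2), (76, 1), (77, 3), (78, 1), (79, 2), (81, 2), (83, 3), (86, 2), (87, 2), (88, 2), (95, 1), (96, 2), (97, 3), (98, 3), (99, 2)]),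
    ([(0, 1)], [(1, 3), (2, 3), (3, 1), (4, 3), (5, 1), (6, 2), (7, 1), (8, 3), (10, 2), (11, 1), (12, 1), (13, 3), (14, 2), (16, 2), (18, 1), (19, 3), (21, 3), (23, 2), (24, 2), (26, 1), (27, 1), (28, 3), (29, 2), (30, 3), (31, 1), (32, 2), (33, 2), (35, 3), (36, 2), (37, 1), (38, 1), (39, 2), (41, 1), (42, 3), (43, 2), (44, 3), (45, 3), (46, 3), (47, 2), (48, 1), (49, 3), (50, 2), (51, 1), (52, 1), (54, 3), (55, 2), (56, 3), (58, 3), (59, 2), (60, 3), (61, 1), (63, 1), (65, 3), (66, 1), (67, 1), (68, 2), (69, 1), (70, 2), (71, 3), (72, 3), (73, 2), (74, 3), (75, 3), (76, 3), (77, 3), (78, 2), (79, 2), (81, 1), (82, 2), (83, 3), (84, 1), (86, 2), (90, 1), (92, 3), (93, 1), (94, 3), (96, 1)]),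
    ([(0, 3)], [(0, 2), (1, 3), (3, 3), (4, 3), (5, 3), (7, 1), (8, 2), (9, 3), (10, 2), (11, 2), (12, 1), (13, 2), (15, 1), (18, 1), (19, 3), (20, 3), (21, 2), (22, 1), (23, 1), (24, 2), (26, 3), (27, 3), (28, 1), (29, 3), (30, 2), (31, 3), (34, 1), (36, 2), (37, 2), (38, 2), (39, 1), (41, 2), (43, 3), (45, 3), (46, 2), (48, 2), (49, 3), (50, 1), (51, 1), (55, 3), (56, 1), (58, 2), (59, 3), (60, 2), (61, 1), (62, 3), (63, 3), (64, 2), (65, 2), (66, 3), (70, 2), (71, 2), (72, 1), (74, 2), (75, 1), (77, 1), (78, 2), (79, 2), (82, 3), (83, 2), (87, 2), (88, 2), (95, 3), (96, 2), (97, 1), (99, 2)]),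
    ([], [(1, 2), (3, 3), (4, 2), (5, 3), (6, 3), (7, 2), (8, 1), (9, 1), (11, 3), (13, 1), (14, 1), (15, 2), (16, 1), (17, 2), (18, 2), (19, 1), (20, 2), (23, 2), (24, 2), (26, 1), (27, 2), (28, 2), (29, 1), (30, 1), (31, 1), (33, 2), (35, 2), (36, 2), (37, 2), (38, 3), (41, 3), (42, 1), (44, 1), (45, 2), (46, 1), (48, 2), (49, 1), (50, 3), (51, 1), (53, 3), (54, 2), (55, 1), (56, 3), (58, 1), (59, 1), (60, 3), (62, 1), (64, 3), (66, 3), (67, 3), (68, 2), (69, 1), (71, 1), (72, 3), (73, 1), (74, 2), (75, 1), (77, 1), (78, 2), (82, 1), (84, 1), (86, 2), (87, 3), (88, 1), (90, 2), (92, 2), (93, 2), (94, 2), (95, 2), (96, 3), (97, 2), (98, 3), (99, 2)]),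
    ([(0, 3)], [(0, 2), (1, 1), (4, 3), (5, 1), (6, 2), (7, 1), (8, 1), (9, 2), (10, 3), (11, 3), (12, 2), (14, 1), (15, 3), (16, 3), (17, 2), (22, 2), (23, 2), (24, 1), (26, 3), (27, 3), (28, 2), (29, 3), (30, 1), (31, 1), (33, 3), (34, 1), (36, 3), (37, 1), (38, 3), (39, 2), (40, 2), (41, 2), (43, 1), (44, 3), (45, 2), (46, 2), (47, 3), (49, 2), (50, 1), (51, 1), (52, 1), (53, 2), (54, 2), (55, 3), (56, 1), (57, 1), (59, 2), (60, 3), (62, 2), (63, 3), (65, 2), (67, 1), (70, 2), (71, 2), (72, 1), (73, 2), (74, 2), (75, 3), (78, 3), (81, 2), (82, 2), (83, 1), (87, 3), (88, 3), (95, 3), (97, 1), (98, 2), (99, 2)]),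
    ([], [(0, 2), (1, 2), (3, 2), (4, 2), (5, 1), (6, 2), (7, 1), (8, 3), (10, 1), (11, 1), (12, 1), (13, 3), (15, 2), (16, 2), (17, 2), (18, 2), (19, 2), (20, 3), (21, 3), (22, 2), (23, 1), (24, 2), (26, 3), (27, 3), (28, 2), (31, 3), (33, 3), (34, 3), (35, 2), (36, 1), (37, 3), (38, 3), (39, 2), (40, 3), (41, 2), (42, 2), (45, 1), (46, 1), (48, 3), (49, 2), (50, 1), (52, 1), (54, 1), (55, 2), (56, 2), (57, 2), (58, 1), (59, 3), (60, 1), (61, 1), (62, 2), (63, 3), (64, 3), (65, 3), (66, 1), (67, 1), (68, 3), (70, 3), (72, 1), (75, 3), (76, 1), (77, 2), (78, 2), (80, 2), (81, 1), (83, 1), (84, 1), (86, 2), (87, 2), (88, 1), (90, 1), (92, 3), (93, 1), (94, 3), (95, 1), (96, 2), (97, 3), (98, 3), (99, 2)]),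
    ([(0, 3)], [(0, 2), (2, 2), (3, 3), (4, 3), (5, 1), (7, 1), (9, 2), (10, 3), (12, 1), (13, 3), (16, 1), (17, 2), (19, 3), (20, 1), (21, 1), (22, 2), (23, 3), (24, 1), (25, 2), (27, 1), (28, 1), (29, 1), (30, 2), (31, 3), (33, 1), (34, 2), (36, 3), (37, 2), (38, 3), (39, 3), (40, 2), (42, 1), (43, 2), (44, 3), (45, 3), (46, 1), (47, 3), (48, 1), (49, 1), (50, 1), (51, 1), (52, 1), (53, 1), (55, 3), (57, 1), (58, 2), (59, 3), (61, 1), (62, 3), (63, 3), (64, 1), (65, 2), (66, 2), (67, 3), (68, 1), (69, 1), (71, 2), (72, 3), (73, 1), (74, 2), (75, 2), (77, 3), (78, 2), (79, 1), (80, 1), (81, 1), (82, 2), (83, 1), (84, 1), (88, 2), (95, 1), (97, 3), (99, 2)]),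
    ([(0, 3)], [(1, 1), (4, 2), (6, 1), (7, 2), (8, 1), (9, 2), (11, 3), (12, 1), (13, 2), (14, 3), (15, 2), (16, 1), (17, 2), (18, 3), (19, 1), (20, 1), (23, 2), (24, 1), (25, 1), (27, 3), (29, 1), (30, 2), (32, 2), (33, 2), (34, 2), (35, 3), (36, 3), (38, 2), (39, 3), (40, 1), (41, 2), (42, 1), (44, 2), (46, 1), (47, 2), (48, 1), (49, 1), (50, 3), (52, 3), (53, 1), (54, 3), (55, 2), (56, 1), (58, 1), (59, 1), (60, 2), (61, 2), (62, 1), (63, 2), (64, 1), (65, 2), (67, 2), (68, 2), (70, 2), (72, 1), (75, 1), (76, 3), (79, 1), (80, 1), (81, 1), (86, 2), (87, 2), (90, 2), (92, 2), (93, 2), (94, 2), (98, 3), (99, 2)]),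
    ([(0, 1)], [(0, 2), (2, 1), (3, 3), (4, 3), (5, 3), (6, 2), (8, 3), (9, 3), (10, 1), (11, 3), (12, 1), (15, 3), (16, 1), (19, 3), (20, 2), (21, 3), (24, 3), (25, 3), (26, 2), (27, 3), (29, 2), (30, 3), (31, 1), (32, 1), (33, 3), (36, 3), (37, 3), (38, 1), (39, 3), (40, 2), (42, 2), (45, 2), (46, 1), (47, 3), (48, 2), (49, 1), (52, 1), (53, 2), (54, 3), (55, 1), (56, 1), (57, 1), (58, 3), (59, 2), (60, 3), (61, 2), (63, 1), (64, 1), (66, 3), (69, 2), (70, 2), (71, 1), (72, 1), (75, 2), (78, 1), (79, 2), (80, 2), (81, 2), (82, 2), (84, 2), (86, 2), (87, 2), (90, 1), (92, 3), (93, 1), (94, 3), (96, 2), (99, 2)]),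
    ([(0, 1)], [(0, 2), (2, 1), (3, 2), (4, 2), (5, 1), (6, 3), (7, 2), (8, 3), (9, 1), (10, 1), (11, 3), (13, 2), (15, 3), (16, 3), (17, 1), (18, 1), (19, 1), (20, 3), (21, 3), (22, 1), (23, 3), (25, 1), (26, 2), (29, 2), (30, 2), (31, 3), (32, 2), (33, 2), (34, 3), (35, 1), (36, 2), (37, 2), (38, 2), (39, 3), (42, 3), (43, 3), (47, 1), (48, 1), (49, 3), (50, 1), (52, 2), (53, 3), (54, 1), (57, 1), (58, 1), (59, 1), (60, 2), (61, 3), (62, 1), (64, 2), (65, 3), (67, 3), (68, 2), (70, 1), (71, 2), (73, 2), (74, 3), (75, 1), (76, 2), (77, 2), (81, 2), (82, 1), (83, 3), (84, 3), (86, 2), (87, 2), (88, 2), (90, 1), (92, 3), (93, 1), (94, 3), (95, 3), (96, 1), (97, 1)]),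
    ([(0, 1)], [(0, 3), (1, 2), (2, 3), (3, 3), (4, 2), (6, 1), (8, 1), (10, 1), (11, 3), (13, 3), (14, 1), (15, 1), (18, 3), (19, 2), (20, 2), (22, 3), (23, 1), (28, 2), (29, 2), (30, 1), (31, 1), (32, 1), (33, 3), (34, 2), (36, 3), (38, 3), (39, 2), (42, 2), (43, 2), (44, 2), (45, 1), (46, 2), (47, 3), (48, 2), (50, 3), (51, 2), (52, 3), (53, 2), (54, 3), (55, 2), (56, 3), (59, 3), (60, 3), (61, 1), (62, 2), (63, 2), (64, 2), (66, 3), (67, 1), (68, 1), (69, 3), (70, 3), (71, 2), (72, 3), (73, 2), (74, 1), (75, 1), (76, 2), (77, 2), (78, 2), (80, 3), (81, 3), (82, 2), (83, 1), (84, 2), (87, 1), (96, 3), (98, 1), (99, 2)]),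
    ([(0, 2)], [(2, 3), (4, 3), (6, 2), (7, 1), (8, 3), (9, 3), (10, 1), (12, 2), (14, 3), (16, 2), (17, 2), (18, 1), (19, 1), (20, 2), (23, 2), (25, 2), (26, 3), (27, 2), (28, 2), (29, 3), (30, 3), (31, 3), (32, 2), (33, 2), (34, 3), (35, 1), (36, 1), (37, 3), (38, 3), (40, 3), (41, 3), (42, 1), (43, 2), (45, 3), (46, 1), (47, 1), (48, 1), (49, 1), (51, 3), (53, 1), (56, 2), (57, 2), (58, 2), (59, 1), (60, 2), (62, 1), (63, 2), (64, 3), (67, 2), (68, 3), (70, 3), (71, 1), (72, 1), (73, 2), (74, 3), (75, 1), (77, 1), (79, 1), (80, 2), (82, 2), (83, 2), (84, 2), (87, 1), (88, 2), (90, 2), (92, 2), (93, 2), (94, 2), (95, 1), (96, 1), (97, 3), (98, 1)]),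
    ([(0, 3)], [(3, 3), (4, 1), (5, 1), (6, 2), (7, 3), (10, 2), (11, 3), (12, 1), (13, 2), (15, 3), (16, 3), (18, 3), (19, 2), (22, 3), (23, 2), (24, 1), (26, 3), (27, 2), (28, 1), (29, 3), (30, 3), (31, 3), (32, 3), (33, 1), (34, 2), (35, 2), (39, 1), (40, 3), (43, 3), (44, 3), (45, 3), (47, 3), (48, 2), (49, 1), (50, 3), (51, 1), (52, 2), (53, 3), (54, 3), (55, 1), (57, 2), (58, 3), (61, 2), (62, 2), (64, 3), (66, 3), (67, 2), (68, 2), (70, 1), (72, 3), (76, 2), (77, 1), (78, 2), (79, 3), (80, 3), (81, 1), (82, 1), (83, 1), (86, 2), (87, 1), (88, 1), (90, 2), (92, 2), (93, 2), (94, 2), (95, 2), (96, 2), (97, 2), (98, 1)]),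
    ([(0, 3)], [(0, 3), (1, 2), (2, 2), (5, 1), (7, 1), (8, 3), (9, 1), (12, 2), (13, 3), (14, 1), (15, 3), (16, 1), (18, 1), (20, 2), (21, 2), (22, 3), (23, 3), (25, 3), (26, 1), (27, 3), (29, 1), (30, 2), (31, 2), (32, 1), (33, 2), (34, 1), (36, 3), (37, 1), (38, 2), (39, 1), (40, 3), (41, 2), (42, 1), (43, 2), (44, 2), (45, 2), (46, 1), (47, 2), (48, 1), (50, 1), (52, 3), (54, 2), (55, 1), (57, 2), (58, 3), (59, 3), (60, 3), (62, 1), (63, 3), (64, 3), (65, 1), (66, 1), (67, 2), (68, 1), (69, 3), (72, 1), (73, 2), (74, 2), (76, 1), (77, 1), (78, 3), (79, 2), (80, 2), (81, 3), (82, 3), (83, 3), (86, 2), (90, 2), (92, 2), (93, 2), (94, 2), (95, 2), (97, 2), (98, 3), (99, 2)]),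
    ([(0, 1)], [(0, 2), (1, 2), (2, 3), (4, 1), (5, 3), (6, 3), (7, 3), (8, 3), (9, 3), (10, 3), (11, 3), (12, 2), (13, 1), (14, 2), (15, 3), (17, 3), (18, 1), (19, 1), (20, 3), (21, 2), (22, 1), (25, 2), (26, 1), (27, 3), (30, 1), (33, 3), (34, 3), (36, 3), (38, 2), (39, 1), (40, 3), (41, 3), (43, 2), (44, 3), (45, 2), (46, 2), (47, 1), (48, 2), (50, 3), (51, 2), (52, 2), (53, 2), (54, 3), (56, 1), (57, 3), (59, 2), (63, 1), (65, 2), (66, 2), (67, 2), (68, 1), (69, 1), (72, 3), (74, 2), (77, 1), (78, 3), (79, 1), (80, 2), (83, 1), (86, 2), (87, 2), (88, 2), (90, 1), (92, 3), (93, 1), (94, 3), (95, 3), (96, 3), (97, 1), (98, 2), (99, 2)]),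
    ([], [(0, 3), (1, 2), (2, 2), (5, 3), (6, 3), (7, 2), (8, 3), (10, 2), (11, 2), (12, 2), (13, 2), (14, 1), (16, 2), (17, 1), (19, 3), (21, 3), (22, 2), (23, 1), (24, 1), (25, 1), (26, 2), (27, 2), (28, 2), (30, 1), (31, 3), (32, 1), (33, 2), (34, 2), (35, 1), (38, 1), (39, 1), (42, 3), (43, 2), (44, 1), (45, 3), (46, 3), (47, 1), (48, 2), (50, 3), (51, 2), (53, 3), (55, 2), (56, 1), (58, 2), (59, 1), (60, 2), (61, 1), (62, 2), (63, 1), (64, 3), (66, 3), (67, 2), (68, 2), (71, 2), (73, 1), (76, 1), (77, 1), (78, 2), (81, 2), (87, 2), (95, 2), (97, 2)]),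
    ([(0, 1)], [(0, 3), (2, 3), (4, 3), (5, 1), (8, 1), (9, 3), (10, 3), (11, 3), (12, 1), (13, 2), (14, 2), (15, 1), (16, 2), (17, 3), (18, 1), (20, 3), (21, 2), (22, 3), (23, 1), (24, 3), (26, 1), (27, 2), (28, 1), (29, 1), (30, 2), (31, 3), (32, 3), (33, 1), (34, 1), (36, 3), (37, 1), (43, 3), (45, 2), (47, 3), (48, 3), (49, 3), (51, 1), (52, 2), (53, 1), (54, 1), (55, 2), (56, 3), (57, 3), (58, 3), (59, 1), (60, 3), (61, 3), (62, 3), (63, 1), (64, 3), (66, 2), (67, 1), (68, 1), (70, 3), (71, 1), (72, 2), (74, 3), (75, 3), (78, 2), (79, 1), (80, 2), (81, 1), (83, 2), (84, 2), (86, 2), (88, 2), (90, 3), (92, 1), (93, 3), (94, 1), (95, 3), (96, 1), (97, 1), (98, 2)]),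
    ([(0, 2)], [(0, 1), (1, 1), (3, 3), (5, 3), (6, 3), (7, 1), (10, 2), (11, 2), (12, 2), (15, 1), (16, 2), (17, 3), (18, 2), (19, 2), (20, 2), (21, 3), (22, 1), (24, 3), (25, 2), (27, 1), (28, 2), (29, 1), (30, 3), (32, 3), (33, 2), (35, 1), (36, 2), (38, 1), (39, 2), (41, 2), (42, 1), (44, 1), (45, 1), (47, 1), (48, 3), (49, 3), (51, 2), (52, 2), (53, 1), (54, 2), (55, 2), (56, 2), (57, 2), (58, 3), (59, 2), (60, 3), (63, 1), (65, 2), (66, 2), (67, 3), (68, 1), (69, 3), (70, 1), (72, 1), (74, 2), (75, 1), (76, 3), (77, 1), (79, 1), (80, 3), (81, 3), (82, 2), (83, 1), (84, 1), (87, 3), (88, 1), (90, 2), (92, 2), (93, 2), (94, 2), (95, 2), (96, 2), (97, 2)]),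
    ([], [(0, 3), (1, 1), (3, 1), (4, 2), (6, 3), (7, 1), (8, 3), (10, 2), (13, 1), (14, 1), (16, 3), (17, 3), (18, 1), (19, 3), (20, 1), (21, 2), (22, 3), (23, 3), (24, 1), (25, 2), (29, 2), (32, 1), (33, 3), (35, 3), (36, 1), (37, 1), (39, 1), (40, 2), (41, 1), (43, 2), (45, 3), (47, 3), (48, 1), (49, 1), (50, 2), (51, 2), (52, 3), (53, 1), (54, 2), (55, 1), (56, 1), (57, 2), (58, 1), (59, 2), (61, 2), (62, 1), (64, 2), (65, 3), (67, 1), (68, 2), (70, 1), (71, 2), (72, 3), (73, 1), (76, 3), (78, 3), (80, 2), (81, 3), (82, 3), (83, 3), (84, 2), (86, 2), (88, 2), (95, 1), (96, 2), (97, 3), (98, 1)]),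
    ([], [(0, 2), (2, 1), (3, 2), (4, 2), (5, 1), (6, 1), (7, 3), (9, 2), (10, 3), (13, 3), (14, 1), (15, 2), (16, 1), (17, 2), (18, 1), (19, 1), (21, 3), (23, 3), (24, 1), (26, 1), (27, 3), (29, 2), (30, 1), (31, 2), (32, 2), (33, 2), (34, 2), (35, 1), (36, 3), (37, 3), (39, 3), (40, 1), (41, 2), (42, 3), (43, 1), (45, 1), (46, 2), (49, 2), (50, 3), (53, 1), (54, 1), (57, 2), (58, 3), (60, 1), (63, 1), (64, 3), (65, 2), (67, 2), (68, 2), (69, 1), (72, 1), (73, 3), (75, 3), (76, 3), (78, 2), (80, 1), (81, 2), (82, 1), (83, 3), (84, 2), (87, 2), (88, 2), (90, 1), (92, 3), (93, 1), (94, 3), (95, 3), (96, 1), (97, 1), (98, 3)]),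
    ([], [(0, 2), (2, 3), (3, 3), (4, 2), (5, 2), (6, 3), (10, 3), (11, 2), (13, 2), (14, 1), (16, 2), (20, 1), (21, 2), (22, 1), (26, 1), (27, 3), (28, 1), (32, 1), (35, 2), (36, 3), (39, 3), (40, 1), (41, 3), (43, 2), (47, 2), (48, 1), (49, 3), (50, 2), (51, 1), (53, 1), (54, 3), (55, 3), (56, 2), (57, 3), (58, 3), (59, 2), (60, 1), (61, 3), (63, 2), (64, 3), (65, 1), (66, 3), (67, 2), (68, 3), (69, 2), (70, 2), (71, 1), (72, 3), (74, 2), (75, 3), (76, 1), (77, 1), (78, 3), (79, 1), (81, 3), (84, 2), (86, 2), (90, 1), (92, 3), (93, 1), (94, 3), (95, 2), (96, 3), (97, 2)]),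
    ([(0, 3)], [(0, 2), (1, 1), (2, 1), (3, 1), (4, 3), (5, 1), (6, 1), (8, 2), (10, 2), (11, 3), (12, 1), (14, 3), (15, 2), (16, 3), (17, 3), (19, 1), (20, 3), (21, 2), (24, 1), (25, 1), (27, 1), (28, 2), (29, 1), (30, 2), (36, 2), (38, 3), (39, 1), (40, 1), (41, 2), (42, 3), (43, 2), (45, 1), (46, 1), (47, 1), (48, 2), (51, 3), (52, 2), (53, 3), (55, 1), (56, 3), (57, 3), (58, 3), (59, 1), (60, 1), (61, 3), (62, 3), (63, 2), (66, 3), (67, 3), (68, 3), (69, 3), (70, 2), (71, 3), (72, 2), (73, 3), (74, 1), (75, 3), (76, 2), (77, 3), (78, 1), (79, 1), (81, 1), (83, 2), (87, 2), (90, 3), (92, 1), (93, 3), (94, 1), (95, 2), (96, 3), (97, 2), (98, 1)]),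
    ([(0, 3)], [(0, 2), (1, 1), (2, 3), (3, 3), (4, 3), (5, 2), (7, 2), (8, 1), (9, 2), (11, 3), (12, 1), (13, 2), (14, 2), (16, 2), (17, 3), (18, 2), (20, 2), (21, 1), (23, 3), (24, 3), (26, 1), (27, 3), (29, 3), (32, 2), (33, 2), (38, 3), (39, 1), (41, 1), (42, 2), (43, 2), (45, 1), (46, 2), (47, 1), (48, 2), (49, 2), (50, 3), (51, 1), (52, 1), (53, 2), (54, 3), (55, 2), (57, 3), (58, 3), (59, 1), (60, 3), (61, 3), (62, 1), (64, 1), (65, 2), (66, 2), (69, 2), (70, 1), (71, 1), (74, 1), (75, 1), (76, 1), (77, 3), (78, 3), (79, 2), (80, 1), (81, 3), (83, 3), (84, 3), (90, 3), (92, 1), (93, 3), (94, 1), (95, 2), (96, 1), (97, 2), (98, 1)]),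
    ([(0, 2)], [(0, 1), (1, 1), (2, 2), (3, 2), (4, 2), (5, 2), (6, 1), (7, 1), (8, 1), (9, 3), (10, 1), (12, 3), (13, 3), (14, 1), (15, 1), (16, 2), (17, 3), (18, 2), (19, 1), (22, 2), (23, 2), (24, 2), (26, 1), (27, 2), (28, 2), (29, 1), (30, 2), (31, 3), (32, 1), (33, 2), (34, 1), (36, 3), (38, 3), (40, 2), (41, 2), (42, 2), (43, 3), (44, 3), (45, 2), (46, 1), (47, 3), (48, 1), (49, 1), (51, 1), (52, 2), (53, 1), (54, 3), (55, 2), (57, 3), (58, 1), (59, 1), (60, 2), (62, 2), (63, 1), (64, 2), (65, 1), (66, 1), (67, 2), (69, 1), (70, 1), (71, 3), (72, 3), (74, 1), (75, 1), (76, 2), (77, 3), (79, 2), (80, 2), (81, 3), (82, 3), (83, 1), (84, 1), (90, 2), (92, 2), (93, 2), (94, 2), (96, 2), (99, 2)]),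
    ([(0, 2)], [(1, 2), (4, 3), (5, 3), (6, 3), (7, 1), (9, 1), (11, 2), (13, 1), (14, 2), (15, 1), (16, 3), (17, 3), (18, 2), (19, 2), (20, 2), (21, 3), (23, 1), (24, 3), (25, 1), (27, 1), (28, 1), (29, 3), (30, 1), (31, 3), (32, 3), (33, 3), (34, 1), (35, 3), (36, 1), (38, 1), (39, 2), (40, 2), (41, 1), (43, 3), (44, 2), (45, 3), (46, 3), (47, 3), (49, 2), (50, 1), (51, 3), (52, 2), (54, 3), (55, 2), (56, 2), (57, 3), (60, 1), (63, 2), (64, 2), (65, 2), (66, 2), (67, 1), (69, 2), (71, 1), (72, 2), (75, 1), (76, 2), (79, 3), (80, 3), (81, 2), (83, 2), (84, 2), (90, 2), (92, 2), (93, 2), (94, 2), (98, 2), (99, 2)]),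
    ([(0, 2)], [(0, 1), (2, 1), (4, 3), (5, 1), (6, 1), (7, 1), (8, 3), (9, 1), (12, 2), (13, 3), (14, 2), (15, 1), (16, 3), (17, 2), (18, 3), (19, 3), (20, 2), (21, 2), (22, 2), (23, 2), (24, 3), (25, 2), (26, 2), (27, 2), (28, 1), (29, 3), (30, 2), (31, 2), (32, 1), (33, 3), (34, 3), (35, 2), (36, 3), (37, 1), (38, 3), (39, 2), (40, 1), (41, 2), (42, 3), (44, 3), (47, 2), (49, 2), (50, 3), (51, 3), (52, 2), (53, 1), (54, 1), (55, 2), (56, 1), (60, 1), (63, 2), (64, 2), (66, 3), (67, 2), (68, 1), (69, 2), (71, 2), (72, 2), (74, 1), (75, 2), (76, 2), (77, 3), (79, 2), (80, 2), (81, 3), (83, 3), (87, 2), (88, 2), (90, 3), (92, 1), (93, 3), (94, 1), (95, 1), (96, 1), (97, 3), (98, 3), (99, 2)]),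
    ([(0, 2)], [(0, 1), (1, 3), (2, 2), (3, 2), (4, 2), (5, 1), (6, 2), (7, 1), (8, 2), (9, 2), (11, 2), (12, 1), (13, 1), (14, 2), (17, 3), (18, 2), (19, 2), (20, 1), (21, 1), (22, 2), (23, 1), (24, 1), (25, 1), (26, 1), (27, 2), (28, 1), (29, 2), (31, 2), (32, 2), (33, 3), (34, 3), (35, 1), (36, 1), (37, 2), (38, 1), (39, 2), (41, 2), (42, 3), (45, 2), (46, 3), (47, 2), (48, 2), (50, 1), (52, 3), (54, 3), (55, 2), (56, 1), (57, 2), (58, 3), (59, 1), (60, 3), (61, 2), (62, 3), (63, 3), (64, 3), (65, 1), (67, 3), (68, 2), (70, 1), (72, 1), (73, 2), (74, 2), (75, 3), (76, 1), (77, 3), (79, 3), (81, 3), (82, 2), (83, 1), (84, 1)]),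
    ([(0, 3)], [(0, 2), (1, 3), (3, 3), (4, 2), (6, 1), (7, 1), (9, 3), (11, 2), (12, 1), (13, 3), (15, 3), (16, 2), (18, 3), (19, 2), (20, 3), (21, 2), (22, 3), (24, 3), (25, 1), (26, 3), (27, 1), (28, 3), (29, 2), (30, 3), (31, 3), (33, 1), (34, 2), (35, 2), (36, 2), (37, 3), (39, 2), (40, 2), (41, 1), (42, 2), (43, 1), (45, 1), (46, 2), (47, 2), (50, 1), (52, 2), (53, 2), (54, 2), (55, 3), (56, 2), (57, 1), (58, 3), (59, 2), (60, 3), (64, 3), (66, 2), (67, 2), (68, 3), (70, 2), (72, 2), (74, 2), (76, 1), (77, 3), (78, 1), (80, 2), (82, 2), (83, 2), (88, 2), (90, 2), (92, 2), (93, 2), (94, 2), (95, 3), (96, 2), (97, 1), (98, 2), (99, 2)]),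
    ([(0, 2)], [(1, 2), (2, 3), (3, 3), (4, 2), (5, 3), (6, 1), (7, 1), (8, 1), (11, 2), (12, 3), (13, 1), (16, 1), (17, 3), (18, 3), (19, 2), (20, 1), (21, 1), (23, 2), (24, 2), (25, 1), (26, 3), (27, 3), (28, 3), (29, 3), (30, 3), (31, 2), (32, 3), (33, 1), (34, 2), (35, 3), (36, 2), (37, 1), (38, 2), (39, 1), (41, 2), (43, 1), (44, 1), (46, 3), (47, 3), (48, 2), (49, 1), (50, 1), (51, 1), (52, 2), (53, 2), (54, 2), (56, 3), (57, 2), (58, 1), (59, 2), (60, 2), (62, 2), (63, 3), (64, 1), (65, 1), (66, 3), (68, 1), (69, 1), (71, 3), (72, 3), (73, 3), (74, 2), (77, 2), (80, 2), (81, 1), (82, 3), (84, 3), (86, 2), (90, 1), (92, 3), (93, 1), (94, 3), (95, 2), (96, 1), (97, 2), (98, 2), (99, 2)]),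
    ([], [(0, 1), (1, 1), (2, 2), (3, 1), (4, 2), (5, 3), (6, 3), (7, 3), (8, 1), (9, 3), (12, 1), (13, 3), (14, 3), (15, 3), (16, 1), (21, 3), (22, 2), (23, 1), (25, 1), (27, 1), (28, 1), (29, 1), (31, 2), (34, 3), (36, 3), (37, 2), (39, 3), (42, 2), (44, 3), (45, 1), (46, 2), (47, 1), (48, 3), (49, 2), (50, 1), (52, 2), (54, 1), (56, 3), (59, 1), (60, 2), (61, 2), (62, 1), (63, 3), (64, 3), (65, 3), (66, 2), (69, 1), (70, 1), (71, 1), (73, 2), (74, 3), (75, 2), (76, 1), (77, 1), (78, 3), (79, 1), (80, 1), (83, 2), (84, 3), (86, 2), (87, 2), (88, 2), (90, 2), (92, 2), (93, 2), (94, 2), (95, 3), (97, 1), (98, 3)]),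
    ([(0, 3)], [(0, 1), (1, 3), (2, 3), (3, 3), (4, 1), (5, 3), (7, 1), (8, 3), (9, 2), (10, 1), (12, 1), (13, 1), (14, 2), (16, 3), (17, 3), (19, 2), (20, 2), (21, 3), (22, 1), (23, 3), (24, 3), (25, 3), (26, 1), (28, 3), (29, 2), (31, 1), (32, 2), (35, 3), (36, 1), (37, 2), (38, 3), (40, 1), (41, 2), (42, 1), (43, 2), (44, 2), (46, 1), (48, 1), (50, 2), (51, 3), (52, 1), (53, 3), (54, 2), (55, 2), (56, 2), (58, 1), (59, 3), (60, 2), (62, 2), (63, 2), (64, 2), (65, 1), (66, 1), (67, 2), (68, 1), (70, 2), (71, 2), (72, 2), (73, 3), (74, 2), (76, 3), (77, 3), (78, 2), (80, 2), (81, 3), (83, 3), (84, 2), (87, 2), (90, 1), (92, 3), (93, 1), (94, 3), (95, 2), (96, 3), (97, 2), (98, 3), (99, 2)]),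
    ([], [(0, 1), (1, 3), (5, 2), (6, 1), (8, 2), (9, 3), (10, 1), (11, 3), (14, 2), (15, 1), (17, 2), (18, 1), (19, 2), (20, 1), (21, 3), (22, 2), (27, 2), (28, 3), (29, 1), (30, 1), (31, 2), (32, 1), (33, 3), (34, 2), (35, 3), (36, 3), (38, 1), (39, 1), (40, 3), (42, 2), (43, 3), (47, 2), (48, 2), (49, 2), (50, 1), (51, 1), (52, 1), (54, 1), (55, 2), (56, 1), (57, 3), (58, 2), (59, 3), (61, 1), (62, 3), (64, 1), (66, 3), (67, 1), (68, 2), (69, 3), (70, 3), (71, 3), (72, 3), (73, 1), (74, 2), (75, 3), (77, 1), (78, 1), (79, 3), (81, 3), (82, 3), (84, 1), (87, 2), (96, 2), (98, 2)]),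
    ([(0, 2)], [(0, 2), (2, 2), (3, 2), (4, 3), (6, 1), (7, 3), (8, 2), (9, 1), (10, 1), (11, 1), (13, 1), (15, 1), (17, 1), (18, 3), (19, 3), (20, 3), (23, 1), (25, 2), (26, 3), (27, 1), (28, 2), (30, 2), (31, 2), (32, 3), (33, 1), (35, 2), (36, 1), (38, 2), (39, 2), (40, 2), (41, 3), (43, 1), (46, 2), (47, 1), (48, 1), (52, 3), (54, 3), (56, 2), (58, 3), (59, 3), (61, 3), (62, 1), (65, 1), (66, 3), (67, 3), (69, 3), (70, 1), (71, 1), (72, 3), (73, 3), (76, 1), (78, 2), (79, 3), (80, 2), (81, 3), (82, 2), (83, 1), (84, 2), (87, 2), (96, 2), (99, 2)]),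
    ([], [(0, 2), (1, 3), (2, 2), (3, 2), (5, 2), (6, 2), (8, 2), (10, 3), (11, 3), (12, 1), (15, 2), (16, 2), (17, 2), (18, 2), (19, 2), (20, 2), (21, 3), (22, 1), (23, 1), (24, 1), (25, 2), (26, 2), (28, 1), (31, 1), (33, 1), (34, 2), (35, 3), (36, 2), (37, 2), (38, 3), (39, 3), (41, 1), (43, 1), (46, 2), (47, 1), (48, 3), (49, 2), (50, 1), (51, 1), (52, 2), (54, 1), (55, 2), (56, 3), (58, 2), (60, 1), (61, 1), (62, 1), (63, 2), (64, 3), (67, 3), (68, 1), (71, 2), (72, 3), (73, 2), (76, 2), (77, 1), (78, 3), (79, 2), (80, 1), (81, 3), (82, 2), (83, 2), (84, 1), (87, 2), (90, 2), (92, 2), (93, 2), (94, 2), (98, 2), (99, 2)]),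
    ([], [(4, 2), (5, 2), (6, 3), (9, 3), (10, 2), (11, 3), (12, 2), (13, 2), (14, 2), (15, 3), (16, 2), (17, 1), (18, 2), (19, 2), (20, 1), (21, 3), (22, 1), (23, 2), (24, 1), (26, 2), (27, 1), (29, 2), (30, 1), (31, 2), (33, 1), (34, 3), (35, 3), (36, 2), (37, 2), (40, 2), (41, 1), (43, 2), (44, 1), (45, 1), (46, 3), (47, 3), (48, 3), (49, 2), (50, 1), (51, 2), (54, 1), (55, 2), (56, 3), (57, 2), (58, 1), (59, 3), (61, 3), (62, 2), (63, 2), (64, 3), (65, 3), (66, 2), (67, 3), (68, 3), (71, 1), (72, 1), (73, 3), (74, 3), (75, 2), (76, 1), (77, 2), (78, 2), (80, 1), (81, 3), (84, 1), (87, 2), (96, 2), (98, 2)]),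
    ([], [(2, 2), (3, 2), (5, 3), (6, 2), (8, 2), (10, 2), (11, 3), (12, 2), (16, 2), (17, 2), (18, 3), (19, 2), (24, 2), (25, 2), (26, 2), (28, 2), (29, 2), (30, 2), (37, 2), (39, 2), (45, 2), (47, 2), (51, 2), (52, 2), (54, 2), (56, 3), (59, 2), (60, 2), (62, 2), (63, 2), (64, 2), (66, 2), (67, 2), (70, 2), (71, 2), (73, 2), (74, 2), (76, 2), (77, 2), (78, 3), (82, 2), (90, 2), (92, 2), (93, 2), (94, 2), (96, 2), (98, 2), (99, 2)]),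
    ([(0, 1)], [(0, 1), (1, 1), (2, 3), (3, 2), (4, 1), (5, 1), (7, 1), (8, 3), (10, 3), (11, 2), (13, 3), (15, 2), (16, 2), (18, 3), (19, 1), (20, 1), (21, 1), (23, 2), (24, 1), (26, 1), (27, 1), (28, 3), (29, 2), (30, 2), (32, 1), (33, 1), (34, 2), (35, 1), (36, 3), (37, 3), (38, 3), (39, 2), (40, 2), (42, 2), (43, 3), (44, 1), (45, 2), (46, 1), (47, 2), (48, 1), (49, 1), (50, 1), (51, 2), (52, 1), (53, 1), (56, 1), (57, 3), (58, 3), (59, 3), (60, 3), (61, 1), (62, 3), (63, 3), (64, 3), (66, 1), (67, 3), (68, 2), (70, 3), (71, 3), (72, 1), (73, 1), (74, 1), (75, 2), (76, 2), (79, 1), (82, 1), (83, 1), (84, 2), (86, 2), (87, 2), (88, 2), (90, 1), (92, 3), (93, 1), (94, 3), (95, 1), (96, 1), (97, 3), (98, 2)]),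
    ([(0, 2)], [(0, 1), (2, 2), (3, 2), (4, 2), (6, 2), (7, 1), (9, 2), (10, 3), (11, 1), (12, 1), (13, 1), (16, 2), (17, 2), (18, 2), (19, 2), (20, 1), (21, 1), (22, 1), (23, 3), (24, 1), (25, 3), (26, 1), (27, 2), (28, 3), (29, 1), (31, 3), (33, 1), (34, 3), (35, 2), (36, 1), (37, 1), (38, 3), (41, 2), (42, 2), (43, 3), (44, 2), (46, 1), (47, 3), (49, 3), (50, 2), (51, 1), (53, 3), (54, 1), (55, 1), (56, 1), (58, 3), (59, 2), (61, 3), (64, 1), (65, 1), (66, 1), (67, 2), (68, 1), (69, 2), (70, 1), (74, 3), (76, 2), (78, 3), (79, 3), (80, 2), (83, 1), (84, 3), (87, 2)]),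
    ([], [(0, 2), (1, 2), (5, 2), (6, 2), (7, 2), (9, 2), (10, 2), (13, 2), (15, 2), (17, 2), (18, 2), (19, 2), (21, 2), (22, 2), (24, 2), (26, 2), (29, 2), (33, 2), (34, 2), (35, 2), (41, 2), (43, 2), (44, 2), (46, 2), (47, 2), (48, 2), (50, 2), (51, 2), (53, 2), (58, 2), (62, 2), (63, 2), (65, 3), (66, 2), (67, 2), (69, 2), (70, 2), (73, 2), (75, 2), (77, 2), (78, 2), (79, 2), (80, 2), (81, 2), (82, 2), (83, 2)]),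
    ([(0, 1)], [(0, 1), (1, 1), (2, 1), (3, 1), (4, 1), (5, 1), (6, 1), (7, 1), (8, 1), (10, 3), (11, 1), (12, 3), (13, 3), (16, 2), (17, 3), (18, 2), (19, 3), (20, 3), (21, 1), (22, 2), (23, 2), (24, 3), (25, 2), (26, 3), (27, 1), (31, 2), (32, 3), (33, 2), (34, 1), (35, 2), (36, 3), (37, 3), (40, 3), (41, 3), (42, 1), (44, 1), (45, 1), (46, 2), (47, 3), (49, 3), (50, 1), (55, 2), (56, 3), (57, 3), (58, 3), (59, 3), (60, 1), (62, 2), (63, 1), (64, 3), (68, 3), (69, 3), (70, 1), (73, 2), (74, 3), (75, 2), (76, 1), (78, 1), (80, 3), (81, 1), (82, 1), (83, 3), (84, 1), (87, 2), (90, 3), (92, 1), (93, 3), (94, 1), (95, 2), (96, 1), (97, 2), (98, 1)]),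
    ([], [(0, 1), (1, 2), (2, 2), (3, 2), (5, 3), (6, 1), (7, 1), (8, 1), (9, 2), (13, 1), (14, 3), (15, 2), (16, 1), (19, 3), (20, 2), (21, 1), (23, 3), (26, 2), (27, 1), (28, 2), (29, 2), (30, 2), (31, 3), (32, 2), (33, 1), (34, 3), (37, 3), (38, 3), (39, 1), (40, 2), (41, 1), (42, 1), (43, 1), (44, 2), (45, 3), (47, 2), (48, 3), (49, 3), (50, 2), (51, 3), (53, 3), (54, 2), (55, 2), (56, 2), (58, 3), (59, 3), (60, 1), (64, 3), (65, 3), (68, 2), (69, 1), (72, 2), (75, 2), (76, 1), (78, 3), (80, 1), (83, 3), (87, 2), (90, 2), (92, 2), (93, 2), (94, 2), (96, 2), (98, 2), (99, 2)]),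
    ([], [(55, 1)]),
    ([], [(0, 2), (1, 2), (2, 2), (3, 2), (4, 1), (5, 1), (6, 3), (9, 2), (10, 3), (13, 2), (16, 3), (18, 2), (19, 1), (20, 2), (21, 1), (22, 2), (23, 1), (24, 2), (25, 1), (29, 3), (30, 3), (31, 1), (32, 1), (33, 3), (35, 1), (37, 3), (39, 1), (40, 3), (41, 1), (42, 3), (43, 1), (44, 1), (46, 1), (48, 3), (49, 1), (51, 1), (52, 1), (53, 2), (55, 2), (58, 2), (59, 1), (60, 2), (62, 3), (63, 2), (64, 2), (66, 3), (67, 2), (68, 1), (70, 3), (71, 1), (72, 1), (73, 2), (74, 1), (75, 2), (76, 2), (77, 2), (79, 1), (80, 2), (81, 3), (82, 2), (83, 3), (84, 3), (90, 2), (92, 2), (93, 2), (94, 2), (98, 2)]),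
    ([(0, 2)], [(2, 2), (3, 2), (4, 2), (5, 3), (7, 3), (8, 2), (9, 2), (10, 3), (12, 3), (13, 1), (15, 2), (18, 2), (19, 1), (20, 3), (21, 2), (23, 2), (24, 3), (26, 1), (27, 1), (28, 2), (29, 3), (30, 2), (31, 3), (32, 1), (33, 1), (34, 3), (35, 1), (36, 3), (37, 3), (39, 3), (40, 1), (41, 3), (42, 2), (43, 1), (44, 3), (46, 1), (47, 2), (48, 3), (50, 2), (51, 3), (53, 3), (54, 2), (56, 2), (61, 1), (62, 3), (65, 1), (66, 2), (67, 2), (68, 2), (69, 1), (71, 3), (73, 2), (74, 2), (75, 1), (77, 1), (78, 3), (79, 3), (80, 2), (81, 3), (82, 3), (83, 2), (84, 2), (98, 2)]),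
    ([], [(0, 2), (2, 2), (3, 2), (4, 1), (7, 1), (8, 3), (10, 3), (11, 3), (12, 1), (13, 1), (14, 1), (16, 2), (17, 3), (18, 3), (19, 1), (20, 2), (21, 3), (23, 3), (24, 2), (25, 2), (26, 2), (27, 3), (28, 2), (29, 2), (31, 1), (32, 2), (33, 1), (34, 1), (35, 3), (37, 3), (38, 3), (39, 3), (41, 3), (42, 3), (43, 1), (44, 2), (45, 3), (46, 2), (47, 2), (48, 3), (49, 3), (50, 2), (51, 3), (53, 1), (55, 3), (56, 2), (57, 3), (58, 3), (59, 3), (60, 1), (61, 2), (62, 1), (63, 1), (64, 3), (65, 3), (66, 2), (67, 1), (68, 2), (70, 2), (75, 2), (76, 1), (78, 3), (79, 2), (80, 3), (81, 2), (82, 2), (83, 1), (87, 2), (90, 2), (92, 2), (93, 2), (94, 2), (96, 2), (98, 2), (99, 2)]),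
    ([(0, 2)], [(1, 2), (2, 2), (3, 2), (4, 1), (5, 2), (6, 3), (7, 3), (8, 2), (10, 2), (11, 1), (13, 1), (16, 1), (17, 1), (18, 3), (19, 3), (20, 1), (21, 2), (24, 3), (25, 2), (26, 3), (27, 3), (28, 2), (29, 1), (31, 1), (32, 3), (33, 1), (34, 1), (35, 1), (36, 3), (37, 3), (38, 2), (39, 1), (40, 1), (41, 1), (42, 2), (43, 1), (44, 1), (45, 2), (46, 1), (47, 2), (48, 3), (49, 2), (50, 2), (51, 3), (53, 1), (55, 1), (56, 1), (57, 2), (58, 2), (59, 2), (60, 2), (61, 2), (62, 1), (63, 3), (64, 2), (65, 2), (66, 3), (67, 1), (68, 2), (69, 3), (70, 2), (71, 1), (72, 2), (73, 2), (74, 2), (75, 3), (76, 2), (77, 1), (79, 3), (80, 2), (81, 3), (82, 3), (83, 2), (84, 2), (98, 2)]),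
    ([], [(0, 3), (2, 2), (3, 2), (4, 3), (6, 3), (7, 2), (9, 2), (10, 1), (11, 3), (16, 3), (17, 2), (18, 1), (19, 1), (20, 2), (21, 1), (23, 1), (24, 2), (25, 3), (27, 2), (29, 1), (30, 1), (31, 1), (32, 3), (33, 3), (34, 2), (35, 3), (36, 2), (37, 3), (39, 1), (40, 1), (41, 3), (42, 3), (43, 3), (44, 3), (46, 1), (47, 2), (48, 3), (49, 3), (51, 3), (52, 1), (53, 2), (55, 2), (57, 2), (58, 2), (59, 1), (61, 2), (62, 1), (63, 2), (65, 2), (67, 2), (68, 3), (70, 1), (71, 3), (72, 1), (73, 2), (74, 1), (78, 3), (79, 1), (81, 1), (83, 2), (90, 2), (92, 2), (93, 2), (94, 2), (96, 2), (99, 2)]),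
    ([(0, 2)], [(0, 1), (1, 2), (4, 2), (5, 1), (6, 1), (11, 3), (12, 3), (16, 3), (17, 1), (18, 2), (19, 3), (20, 3), (21, 1), (22, 3), (23, 3), (24, 3), (25, 3), (26, 3), (27, 2), (29, 3), (30, 3), (31, 1), (32, 1), (33, 2), (34, 3), (35, 2), (36, 3), (38, 2), (39, 1), (40, 1), (42, 3), (43, 3), (44, 1), (46, 3), (47, 3), (48, 2), (49, 1), (50, 3), (51, 2), (52, 2), (54, 3), (55, 1), (57, 2), (59, 2), (60, 3), (61, 1), (62, 1), (65, 2), (66, 3), (67, 3), (70, 3), (71, 1), (72, 1), (73, 2), (74, 1), (75, 2), (77, 1), (78, 3), (79, 3), (80, 1), (81, 1), (82, 3), (83, 1), (84, 1)]),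
    ([(0, 1)], [(0, 1), (1, 1), (2, 3), (3, 3), (4, 1), (5, 2), (6, 1), (7, 1), (9, 2), (10, 1), (11, 3), (12, 2), (13, 3), (14, 3), (15, 2), (16, 3), (17, 1), (18, 2), (19, 1), (20, 1), (22, 2), (23, 2), (25, 2), (26, 2), (27, 2), (28, 2), (29, 2), (30, 2), (31, 2), (32, 3), (33, 3), (34, 3), (36, 2), (38, 1), (39, 3), (40, 2), (41, 2), (44, 2), (47, 1), (49, 1), (50, 1), (51, 1), (52, 2), (53, 3), (54, 2), (57, 2), (59, 2), (60, 2), (61, 2), (62, 1), (63, 2), (64, 1), (65, 2), (66, 2), (67, 3), (70, 1), (71, 2), (73, 1), (74, 3), (75, 1), (76, 1), (77, 3), (78, 3), (79, 2), (81, 1), (82, 1), (83, 3), (84, 2), (90, 3), (92, 1), (93, 3), (94, 1), (95, 2), (96, 1), (97, 2), (98, 3), (99, 2)]),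
    ([(0, 1)], [(0, 3), (1, 3), (2, 3), (3, 3), (4, 2), (5, 3), (6, 3), (7, 1), (8, 2), (13, 1), (14, 3), (15, 2), (17, 2), (18, 2), (19, 2), (20, 1), (21, 3), (22, 3), (23, 1), (24, 2), (25, 3), (26, 2), (27, 1), (28, 1), (32, 2), (33, 1), (34, 1), (36, 2), (40, 3), (41, 3), (42, 2), (43, 2), (44, 1), (45, 2), (46, 2), (47, 2), (48, 1), (49, 2), (50, 3), (51, 3), (53, 1), (54, 1), (55, 2), (57, 3), (58, 3), (60, 2), (62, 1), (63, 2), (64, 2), (65, 1), (66, 1), (67, 3), (68, 1), (70, 2), (71, 3), (73, 3), (74, 2), (76, 3), (80, 2), (84, 3), (87, 2), (90, 3), (92, 1), (93, 3), (94, 1), (95, 2), (96, 1), (97, 2), (98, 1), (99, 2)]),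
    ([(0, 2)], [(0, 2), (1, 2), (5, 1), (7, 1), (8, 3), (9, 2), (10, 3), (12, 1), (13, 1), (14, 3), (16, 1), (17, 1), (18, 2), (19, 3), (23, 2), (24, 3), (25, 2), (26, 2), (27, 3), (29, 2), (30, 1), (33, 2), (34, 3), (36, 2), (38, 2), (39, 2), (40, 2), (41, 2), (42, 1), (44, 1), (45, 3), (48, 1), (49, 2), (50, 3), (51, 1), (54, 3), (55, 3), (56, 3), (57, 3), (59, 1), (62, 3), (64, 3), (66, 1), (67, 3), (68, 2), (69, 3), (70, 3), (71, 2), (72, 2), (73, 3), (74, 1), (75, 1), (78, 2), (79, 1), (80, 1), (82, 3), (83, 3), (84, 1), (87, 2)]),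
    ([], [(0, 3), (4, 3), (5, 1), (7, 1), (8, 1), (9, 2), (10, 3), (11, 1), (13, 3), (14, 3), (17, 2), (18, 1), (21, 2), (22, 2), (23, 2), (25, 1), (27, 3), (28, 2), (29, 3), (30, 1), (31, 2), (32, 3), (34, 3), (35, 1), (38, 3), (40, 1), (42, 2), (44, 1), (45, 3), (46, 1), (47, 2), (48, 2), (51, 2), (52, 3), (53, 3), (54, 2), (55, 3), (56, 1), (57, 3), (58, 3), (59, 2), (60, 1), (61, 2), (62, 1), (64, 3), (65, 3), (66, 1), (68, 3), (69, 3), (70, 1), (71, 1), (72, 1), (74, 3), (76, 2), (77, 3), (79, 1), (80, 1), (81, 3), (82, 2), (83, 3), (87, 2), (98, 2)]),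
    ([], [(0, 2), (2, 2), (3, 2), (4, 1), (5, 2), (6, 3), (7, 2), (8, 2), (9, 2), (10, 1), (11, 3), (12, 2), (14, 2), (16, 3), (17, 2), (18, 3), (19, 1), (21, 3), (22, 2), (23, 3), (25, 3), (26, 2), (28, 2), (29, 1), (30, 3), (31, 3), (32, 1), (33, 1), (34, 2), (35, 1), (36, 2), (37, 1), (39, 1), (40, 3), (41, 3), (42, 3), (43, 1), (44, 1), (45, 2), (46, 1), (48, 3), (49, 1), (51, 1), (52, 3), (53, 2), (54, 2), (55, 3), (56, 3), (57, 1), (58, 2), (59, 1), (60, 2), (61, 2), (62, 3), (63, 2), (65, 2), (67, 2), (68, 3), (69, 2), (70, 1), (71, 1), (72, 3), (73, 2), (74, 1), (76, 2), (77, 2), (78, 1), (79, 1), (80, 2), (81, 3), (83, 2), (84, 2), (90, 2), (92, 2), (93, 2), (94, 2), (96, 2), (99, 2)]),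
    ([], [(1, 2), (2, 2), (3, 2), (4, 1), (5, 3), (7, 2), (9, 1), (10, 1), (11, 2), (12, 1), (13, 2), (14, 2), (15, 3), (16, 1), (17, 2), (19, 1), (20, 1), (21, 2), (24, 2), (25, 3), (26, 1), (27, 2), (28, 1), (29, 1), (31, 2), (32, 1), (33, 2), (34, 2), (35, 2), (36, 3), (37, 2), (39, 1), (40, 1), (42, 3), (43, 3), (45, 3), (47, 2), (48, 1), (49, 2), (50, 3), (52, 3), (53, 2), (55, 1), (57, 1), (58, 2), (59, 2), (60, 2), (63, 2), (64, 2), (65, 1), (66, 2), (68, 1), (70, 3), (71, 3), (72, 3), (74, 1), (75, 3), (76, 2), (77, 2), (78, 1), (79, 2), (80, 2), (81, 1), (82, 3), (90, 2), (92, 2), (93, 2), (94, 2), (99, 2)]),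
    ([], [(1, 3), (4, 1), (5, 3), (6, 1), (7, 3), (9, 1), (10, 2), (11, 3), (12, 1), (13, 3), (14, 2), (15, 3), (16, 3), (17, 2), (18, 2), (19, 3), (20, 3), (21, 1), (22, 3), (23, 2), (24, 2), (25, 2), (26, 1), (27, 3), (28, 1), (29, 3), (30, 1), (31, 1), (32, 2), (33, 3), (35, 3), (36, 3), (37, 2), (38, 3), (39, 2), (41, 2), (44, 3), (45, 2), (47, 1), (48, 2), (49, 1), (50, 2), (51, 1), (52, 3), (54, 3), (55, 1), (56, 1), (57, 3), (58, 2), (59, 3), (60, 1), (61, 2), (62, 2), (63, 2), (64, 3), (65, 1), (67, 3), (68, 3), (69, 2), (70, 1), (73, 3), (74, 1), (75, 1), (78, 1), (79, 3), (80, 3), (82, 2), (84, 2), (90, 2), (92, 2), (93, 2), (94, 2), (99, 2)]),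
    ([], [(0, 1), (1, 2), (2, 2), (3, 2), (4, 2), (5, 3), (6, 3), (9, 2), (10, 2), (12, 2), (14, 2), (15, 2), (17, 3), (18, 1), (21, 2), (22, 1), (27, 1), (28, 1), (29, 1), (30, 1), (31, 1), (32, 2), (33, 1), (35, 3), (36, 2), (37, 1), (38, 1), (39, 2), (40, 3), (41, 3), (43, 3), (44, 1), (45, 1), (47, 3), (48, 1), (49, 3), (50, 2), (52, 1), (54, 1), (55, 3), (56, 3), (57, 2), (58, 3), (59, 1), (62, 1), (63, 2), (64, 1), (65, 3), (66, 2), (67, 2), (68, 2), (70, 3), (71, 2), (72, 2), (74, 2), (75, 3), (76, 2), (77, 2), (79, 3), (80, 2), (83, 3), (84, 3), (87, 2), (90, 2), (92, 2), (93, 2), (94, 2), (96, 2), (98, 2), (99, 2)]),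
    ([], [(0, 1), (1, 3), (2, 2), (3, 2), (4, 3), (5, 1), (6, 2), (7, 2), (9, 1), (10, 1), (11, 3), (15, 1), (16, 1), (17, 3), (18, 1), (21, 3), (22, 2), (23, 2), (24, 1), (25, 2), (26, 3), (27, 2), (28, 3), (30, 1), (31, 1), (32, 2), (33, 1), (35, 2), (36, 1), (37, 3), (39, 2), (40, 2), (41, 2), (42, 3), (44, 3), (47, 2), (48, 3), (49, 3), (50, 1), (51, 1), (53, 2), (54, 2), (55, 3), (56, 3), (57, 2), (59, 1), (61, 1), (62, 1), (64, 2), (66, 2), (68, 2), (69, 2), (70, 2), (74, 2), (75, 1), (78, 3), (79, 3), (80, 1), (81, 1), (82, 1), (83, 1), (90, 2), (92, 2), (93, 2), (94, 2), (99, 2)]),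
    ([(0, 2)], [(1, 2), (4, 3), (6, 2), (8, 1), (9, 2), (10, 2), (11, 3), (12, 3), (13, 2), (14, 1), (15, 2), (17, 2), (20, 3), (21, 1), (22, 3), (23, 3), (24, 3), (26, 1), (27, 1), (28, 3), (29, 2), (30, 1), (31, 1), (32, 1), (33, 1), (34, 2), (35, 1), (36, 2), (37, 3), (38, 2), (40, 1), (42, 2), (43, 3), (44, 1), (45, 3), (46, 2), (47, 1), (49, 1), (50, 2), (51, 3), (52, 3), (53, 2), (54, 3), (55, 2), (57, 2), (59, 2), (60, 1), (61, 2), (62, 1), (63, 2), (65, 2), (66, 2), (68, 2), (69, 1), (71, 1), (72, 1), (73, 2), (75, 2), (76, 3), (77, 1), (78, 2), (80, 1), (81, 1), (82, 2), (84, 1), (90, 2), (92, 2), (93, 2), (94, 2), (99, 2)]),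
    ([], [(0, 2), (2, 2), (3, 2), (4, 1), (6, 1), (7, 2), (9, 2), (10, 3), (11, 1), (16, 1), (17, 2), (18, 3), (19, 3), (20, 2), (21, 3), (23, 3), (24, 2), (25, 1), (27, 2), (29, 3), (30, 3), (31, 3), (32, 1), (33, 1), (34, 2), (35, 1), (36, 2), (37, 1), (39, 3), (40, 3), (41, 1), (42, 1), (43, 1), (44, 1), (46, 3), (47, 2), (48, 1), (49, 1), (51, 1), (52, 3), (53, 2), (55, 2), (57, 2), (58, 2), (59, 3), (61, 2), (62, 3), (63, 2), (65, 2), (67, 2), (68, 1), (70, 3), (71, 1), (72, 3), (73, 2), (74, 3), (78, 1), (79, 3), (81, 3), (83, 2), (90, 2), (92, 2), (93, 2), (94, 2), (96, 2), (99, 2)]),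
    ([(0, 2)], [(0, 3), (1, 2), (2, 2), (3, 2), (4, 2), (5, 3), (6, 2), (7, 3), (8, 2), (9, 2), (11, 2), (12, 3), (13, 3), (14, 2), (17, 1), (18, 2), (19, 2), (20, 3), (21, 3), (22, 2), (23, 3), (24, 3), (25, 3), (26, 3), (27, 2), (28, 3), (29, 2), (31, 2), (32, 2), (33, 1), (34, 1), (35, 3), (36, 3), (37, 2), (38, 3), (39, 2), (41, 2), (42, 1), (45, 2), (46, 1), (47, 2), (48, 2), (50, 3), (52, 1), (54, 1), (55, 2), (56, 3), (57, 2), (58, 1), (59, 3), (60, 1), (61, 2), (62, 1), (63, 1), (64, 1), (65, 3), (67, 1), (68, 2), (70, 3), (72, 3), (73, 2), (74, 2), (75, 1), (76, 3), (77, 1), (79, 1), (81, 1), (82, 2), (83, 3), (84, 3)]),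
    ([(0, 2)], [(0, 1), (1, 3), (2, 2), (3, 2), (4, 3), (5, 2), (6, 2), (7, 3), (8, 2), (9, 3), (10, 1), (11, 3), (12, 1), (13, 3), (14, 2), (15, 3), (16, 3), (17, 2), (18, 3), (21, 2), (23, 3), (24, 1), (25, 1), (26, 1), (27, 1), (28, 1), (29, 3), (31, 2), (32, 3), (33, 3), (34, 1), (35, 3), (36, 2), (38, 3), (39, 1), (40, 3), (42, 2), (43, 3), (45, 2), (46, 1), (47, 2), (48, 2), (49, 1), (50, 3), (51, 1), (52, 2), (53, 3), (54, 3), (55, 2), (56, 2), (57, 1), (58, 2), (60, 2), (61, 2), (62, 3), (63, 1), (64, 1), (65, 1), (66, 2), (67, 3), (68, 3), (69, 3), (70, 2), (71, 1), (72, 2), (73, 3), (74, 3), (76, 2), (79, 3), (80, 1), (81, 2), (83, 2), (84, 1), (87, 2), (96, 2), (98, 2)]),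
    ([(0, 2)], [(0, 1), (1, 3), (5, 3), (6, 3), (7, 1), (9, 3), (10, 2), (12, 2), (13, 3), (15, 1), (17, 1), (18, 3), (19, 1), (21, 1), (22, 1), (24, 3), (26, 3), (28, 2), (29, 1), (33, 1), (34, 3), (35, 1), (40, 2), (41, 1), (42, 2), (43, 3), (44, 3), (46, 1), (47, 1), (48, 3), (50, 1), (51, 3), (52, 2), (53, 1), (55, 2), (56, 2), (57, 2), (58, 1), (59, 2), (61, 2), (62, 1), (63, 1), (64, 2), (66, 3), (67, 1), (68, 2), (69, 3), (70, 1), (71, 2), (72, 2), (73, 1), (74, 2), (75, 1), (76, 2), (77, 1), (78, 1), (79, 3), (80, 1), (81, 1), (82, 3), (83, 3), (90, 2), (92, 2), (93, 2), (94, 2), (98, 2), (99, 2)]),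
    ([], [(0, 2), (4, 2), (5, 3), (6, 3), (7, 2), (8, 1), (9, 2), (10, 2), (12, 2), (14, 1), (16, 3), (18, 3), (19, 2), (20, 1), (22, 3), (25, 2), (26, 1), (27, 1), (28, 1), (29, 2), (30, 2), (32, 1), (35, 2), (36, 3), (38, 1), (39, 1), (40, 1), (41, 1), (42, 2), (44, 2), (45, 1), (47, 3), (48, 2), (49, 1), (50, 3), (51, 1), (52, 3), (53, 1), (55, 1), (56, 2), (57, 1), (58, 1), (62, 2), (64, 2), (65, 3), (66, 3), (67, 1), (68, 2), (69, 1), (70, 2), (71, 1), (72, 1), (73, 1), (74, 1), (75, 1), (76, 2), (77, 1), (78, 1), (79, 3), (81, 2), (82, 2), (83, 2), (90, 2), (92, 2), (93, 2), (94, 2), (96, 2), (99, 2)]),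
    ([], [(0, 3), (1, 2), (2, 2), (3, 2), (5, 1), (6, 3), (7, 3), (8, 3), (9, 2), (13, 3), (14, 1), (15, 2), (16, 3), (19, 1), (20, 2), (21, 3), (23, 1), (26, 2), (27, 3), (28, 2), (29, 2), (30, 2), (31, 1), (32, 2), (33, 3), (34, 1), (35, 1), (37, 1), (38, 1), (39, 3), (40, 2), (41, 3), (42, 3), (43, 3), (44, 2), (45, 1), (47, 2), (48, 1), (49, 1), (50, 2), (51, 1), (53, 1), (54, 2), (55, 2), (56, 2), (58, 1), (59, 1), (60, 3), (64, 1), (65, 1), (68, 2), (69, 3), (72, 2), (75, 2), (76, 3), (78, 1), (80, 3), (83, 1), (87, 2), (90, 2), (92, 2), (93, 2), (94, 2), (96, 2), (98, 2), (99, 2)]),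
    ([], [(0, 2), (1, 2), (5, 2), (6, 2), (7, 2), (9, 2), (10, 2), (13, 2), (15, 2), (17, 2), (18, 2), (19, 2), (21, 2), (22, 2), (24, 2), (26, 2), (29, 2), (33, 2), (34, 2), (35, 2), (41, 2), (43, 2), (44, 2), (46, 2), (47, 2), (48, 2), (50, 2), (51, 2), (53, 2), (55, 3), (58, 2), (62, 2), (63, 2), (65, 2), (66, 1), (67, 2), (69, 2), (70, 2), (73, 2), (75, 2), (77, 2), (78, 2), (79, 2), (80, 2), (81, 2), (82, 2), (83, 2)]),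
    ([], [(83, 1)]),
    ([], [(0, 3), (1, 2), (4, 1), (5, 3), (6, 1), (7, 2), (10, 1), (11, 2), (12, 2), (14, 2), (15, 2), (16, 1), (18, 2), (19, 3), (20, 2), (21, 1), (22, 2), (23, 1), (24, 2), (25, 1), (26, 2), (27, 2), (29, 1), (30, 1), (31, 3), (32, 1), (33, 1), (36, 3), (37, 3), (38, 2), (39, 1), (40, 2), (42, 3), (43, 1), (45, 1), (46, 1), (49, 1), (51, 3), (52, 1), (54, 2), (56, 2), (57, 3), (58, 2), (59, 3), (61, 1), (62, 3), (63, 2), (64, 2), (65, 3), (66, 2), (67, 2), (68, 3), (69, 2), (70, 3), (71, 3), (72, 3), (74, 1), (75, 2), (76, 1), (77, 1), (78, 3), (79, 3), (80, 2), (81, 3), (82, 2), (96, 2), (98, 2)]),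
    ([(0, 2)], [(1, 2), (4, 3), (5, 3), (6, 3), (7, 3), (9, 2), (11, 3), (12, 3), (13, 3), (14, 2), (16, 3), (18, 1), (19, 2), (20, 3), (21, 1), (22, 2), (23, 3), (24, 1), (25, 1), (26, 1), (27, 3), (28, 2), (29, 2), (30, 1), (31, 2), (34, 3), (35, 3), (36, 3), (38, 2), (39, 2), (40, 1), (41, 3), (44, 1), (45, 1), (46, 1), (47, 2), (48, 3), (49, 1), (52, 3), (53, 3), (54, 2), (55, 2), (57, 2), (58, 2), (59, 1), (60, 2), (61, 2), (62, 1), (63, 2), (64, 2), (66, 3), (68, 3), (69, 2), (70, 3), (71, 2), (72, 1), (73, 2), (74, 1), (75, 1), (76, 1), (77, 3), (79, 2), (80, 3), (81, 1), (82, 1), (84, 2), (90, 2), (92, 2), (93, 2), (94, 2), (96, 2), (98, 2), (99, 2)]),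
    ([(0, 2)], [(0, 2), (2, 2), (3, 2), (4, 1), (5, 2), (6, 1), (7, 2), (8, 2), (9, 2), (10, 3), (12, 3), (13, 2), (15, 2), (16, 1), (17, 1), (18, 2), (25, 2), (26, 2), (28, 2), (29, 2), (30, 2), (32, 2), (33, 2), (36, 3), (37, 2), (41, 1), (42, 3), (45, 1), (46, 1), (48, 1), (50, 2), (52, 2), (53, 2), (54, 2), (55, 3), (56, 3), (58, 2), (60, 2), (61, 1), (64, 2), (65, 3), (66, 1), (69, 2), (71, 2), (74, 2), (75, 2), (76, 1), (77, 3), (80, 3), (81, 1), (82, 2), (83, 2), (90, 2), (92, 2), (93, 2), (94, 2), (98, 2), (99, 2)]),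
    ([(0, 2)], [(0, 1), (1, 2), (4, 1), (5, 2), (8, 1), (9, 2), (11, 3), (12, 3), (13, 2), (14, 1), (15, 2), (16, 2), (17, 2), (19, 2), (20, 3), (21, 3), (22, 3), (23, 1), (24, 3), (25, 2), (26, 1), (27, 1), (28, 3), (30, 3), (31, 3), (32, 3), (33, 3), (34, 2), (35, 2), (36, 2), (37, 1), (38, 2), (39, 2), (40, 3), (41, 2), (43, 1), (44, 3), (45, 3), (47, 1), (48, 2), (49, 3), (50, 2), (51, 1), (52, 1), (53, 2), (54, 3), (56, 3), (57, 1), (60, 1), (61, 2), (62, 3), (63, 2), (65, 2), (66, 2), (69, 1), (70, 2), (71, 3), (72, 3), (73, 2), (74, 2), (75, 2), (76, 3), (77, 1), (78, 1), (79, 2), (80, 1), (81, 3), (82, 2), (84, 1), (90, 2), (92, 2), (93, 2), (94, 2), (99, 2)]),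
    ([(0, 2)], [(0, 2), (2, 2), (3, 2), (4, 1), (5, 2), (6, 2), (7, 3), (9, 2), (11, 1), (12, 3), (13, 3), (16, 3), (17, 3), (20, 1), (21, 1), (22, 3), (23, 3), (24, 1), (25, 3), (26, 1), (27, 2), (28, 1), (29, 3), (30, 2), (31, 1), (33, 1), (34, 1), (35, 1), (36, 3), (37, 3), (38, 3), (40, 2), (41, 2), (42, 2), (43, 1), (45, 2), (46, 1), (47, 1), (48, 2), (49, 3), (50, 2), (51, 3), (53, 1), (54, 1), (55, 1), (56, 2), (57, 3), (58, 1), (61, 2), (62, 2), (63, 2), (64, 1), (65, 1), (66, 1), (68, 1), (69, 2), (70, 1), (72, 2), (73, 2), (74, 3), (76, 2), (78, 2), (79, 3), (80, 3), (81, 3), (82, 2), (83, 1), (84, 3), (87, 2)])]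

/-- Orbits inside the subgroup. -/
def orbits : List (ℕ × List (ℕ × List ℕ)) := [
    (0, [(0, []), (1, [3, 4, 6, 8, 9]), (2, [8, 9, 10, 11, 12]), (4, [3, 6, 8, 10, 12, 13]), (7, [1, 3, 4, 7, 12]), (8, [6, 13]), (9, [2, 4, 6, 8, 9, 11, 12]), (10, [3, 5, 6, 11]), (11, [3, 4, 6, 8, 9, 13]), (12, [0, 2, 4, 9, 10]), (14, [3, 4, 6, 11, 12, 13]), (15, [0, 2, 3]), (18, [0, 5, 7, 10, 11]), (19, [0, 1, 6, 12, 13]), (20, [3, 4, 5, 8, 10]), (22, [2, 6, 7, 8, 13]), (25, [1, 3, 9, 10, 12]), (26, [4, 7, 11, 13]), (27, [6, 8, 9]), (29, [6, 11, 12]), (30, [2, 4, 8, 11]), (31, [0, 7, 10]), (34, [13]), (35, [1, 3, 6]), (36, [2, 6, 11, 13]), (41, [0, 2, 6, 8, 12]), (43, [2, 4, 6, 13]), (44, [1, 7, 8, 13]), (45, [0, 4, 5, 10]), (47, [3, 4, 6, 7, 8, 9]), (51, [5, 7, 10, 11]), (53, [1, 2, 6, 9]), (57, [2, 8, 10, 13]), (58, [0, 1, 3, 4, 10, 12]),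 (61, [0, 5, 7]), (66, [3, 7, 10]), (67, [2, 8, 10, 11, 13]), (68, [4, 6, 13]), (70, [5, 6, 7, 8, 10, 12]), (71, [1, 5, 7, 12]), (72, [1, 7, 8, 11]), (73, [3, 4, 6, 12, 13]), (76, [1, 6, 7, 11, 13]), (77, [0, 12]), (79, [0, 2, 4, 8, 12]), (80, [3, 4, 10, 13]), (81, [8, 10, 11, 12]), (86, [4, 8, 11]), (87, [3, 10, 12, 13]), (88, [2, 3, 10]), (89, [2, 6, 7, 8]), (94, [0, 4, 6, 7]), (95, [4, 6, 8, 9, 12, 13]), (96, [8, 9, 12]), (98, [3, 4, 6, 8, 11, 12]), (99, [6, 9, 11, 12]), (103, [1, 6, 7, 8, 13]), (104, [3, 6, 7, 8, 10]), (106, [2, 6, 8, 10]), (107, [0, 1, 9, 12]), (109, [3, 6, 9, 12, 13]), (110, [5, 7]), (113, [3, 4, 5, 6, 7, 8, 11]), (115, [3, 4, 5, 6, 11]), (116, [0, 2, 5, 11]), (119, [2, 4, 6, 8, 11, 12]), (121, [1, 2, 9, 12]), (123, [10]), (127, [0, 4, 6, 10]), (130, [6, 7, 9, 10]), (131, [1, 3, 4, 9, 11, 13]), (132,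 [7, 8, 12, 13]), (135, [3, 6, 9, 12]), (137, [3, 4, 9, 10]), (138, [2, 4]), (140, [2, 6, 8, 12, 13]), (141, [6, 7, 8, 10, 11]), (143, [0, 2, 4, 8]), (146, [8, 9, 12, 13]), (147, [5, 9, 10, 13]), (153, [3, 4, 5, 6, 7, 8, 11, 13]), (156, [2, 6, 8, 11, 12]), (157, [4, 5, 7, 8, 10]), (158, [2, 6, 8, 9, 11]), (161, [3, 4]), (162, [0, 2]), (165, [1, 2, 6, 10, 11]), (167, [0, 1, 3, 4, 9, 11]), (169, [2, 7, 10, 12, 13]), (170, [1, 2, 4, 9]), (171, [5, 8, 9, 10, 12]), (172, [7, 12, 13]), (174, [3, 4, 6, 11, 12]), (175, [1, 6, 7, 9, 13]), (178, [1, 5, 8, 13]), (179, [1, 2, 4, 7, 9]), (180, [4, 5, 6, 9, 10, 12]), (181, [5, 7, 8, 9, 10]), (182, [3, 4, 5, 6, 11, 12]), (183, [3, 7]), (184, [1, 4]), (185, [1, 3, 13]), (187, [2, 4, 5, 6, 7]), (188, [3, 7, 8, 9, 11, 13]), (189, [0, 1, 2, 4, 9]), (193, [0, 6, 7]), (195, [1, 3, 4, 9]), (197,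 [2, 8, 10, 11]), (198, [3, 7, 9, 10, 13]), (201, [1, 3]), (204, [3, 5, 8, 11]), (206, [1, 3, 4, 11, 12]), (208, [0, 5, 12, 13]), (211, [3, 4, 7, 10, 12, 13]), (212, [1, 6, 8, 11]), (213, [5, 7, 9, 11, 12]), (214, [2, 8, 9, 10, 11]), (216, [3, 4, 5, 6, 7, 8]), (217, [4, 10, 11]), (219, [3, 4, 6, 10, 11, 13]), (220, [0, 1, 5, 10, 13]), (221, [1, 5, 9, 11]), (223, [4, 7, 10]), (225, [2, 6, 9, 12]), (226, [2, 5, 6, 8, 11]), (228, [3, 4, 6, 9, 11, 13]), (229, [0, 2, 4, 6, 7]), (232, [2, 3, 5, 10]), (234, [4, 6, 9, 10, 11, 13]), (236, [2, 5, 10, 12]), (237, [2, 5, 6, 10]), (243, [1, 2, 13]), (245, [0, 1, 6]), (247, [0]), (251, [2, 4, 5, 7, 13]), (256, [5, 6, 9, 10, 11]), (259, [1, 3, 5, 6, 9]), (260, [2, 4, 7, 8]), (261, [3, 4, 6, 10, 11]), (265, [1, 2, 3, 9, 10]), (266, [0, 4, 11, 12]), (271, [4, 7, 8, 9, 11]), (272, [2, 4, 5,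 8, 11]), (274, [3, 7, 8, 11, 12, 13]), (276, [3, 9, 11, 12]), (277, [3, 4, 6, 10, 13]), (278, [4, 7, 8, 9, 11, 13]), (279, [0, 4, 8, 10, 13]), (281, [5, 7, 10, 11, 13]), (284, [5, 6, 11, 12]), (286, [3, 6, 11, 12, 13]), (288, [6, 11]), (289, [3, 4, 6, 7, 9, 13]), (290, [5, 7, 8, 11, 12]), (295, [5, 7, 9, 13]), (296, [5, 7, 10, 11, 12]), (297, [5, 7, 9, 10, 12]), (298, [0, 4, 8, 12]), (301, [0, 1, 13]), (304, [1, 5, 6]), (306, [1, 2, 4, 6, 9, 11, 13]), (307, [3, 4, 8, 10, 11, 13]), (308, [0, 3, 4, 5, 8, 12, 13]), (309, [4, 5, 10, 11]), (311, [2, 4, 6, 7, 10, 12]), (313, [1, 6]), (316, [3, 6, 8, 11, 12]), (318, [5, 6, 7, 10, 11, 13]), (320, [6, 10, 11, 13]), (321, [1, 6, 7, 9, 11]), (323, [6, 12, 13]), (328, [3, 6, 7, 9, 12]), (330, [4, 6, 7, 8, 11]), (331, [6, 12]), (332, [5, 8, 9, 13]), (334, [1, 2, 3]), (337, [0, 1, 11,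 12]), (338, [8, 11, 12]), (342, [4, 7, 9, 10]), (344, [5, 6, 8, 11]), (345, [3, 6, 12, 13]), (347, [4, 5, 8, 10, 11]), (350, [4, 7, 8, 13]), (351, [5, 8, 11, 12, 13]), (354, [5]), (355, [3, 4, 9, 13]), (357, [2, 6, 8, 10, 11]), (358, [0, 7, 12, 13]), (360, [1, 3, 4, 9, 13]), (362, [2, 6, 8, 12]), (363, [2, 3, 8, 9, 13]), (364, [4, 7, 12, 13]), (365, [6, 7, 8, 10]), (366, [1, 6, 10, 13]), (367, [3, 4, 5, 6, 7, 9]), (368, [3, 7, 9, 12]), (370, [5, 8, 13]), (374, [8, 9, 10, 11]), (375, [3, 4, 6, 7, 9]), (376, [1, 5, 6, 13]), (377, [4, 5, 7, 9, 12]), (380, [6, 7, 8]), (381, [5, 6, 8, 13]), (386, [1, 2, 4, 6, 7, 8, 10]), (388, [4, 12, 13]), (392, [0, 1, 2, 6, 10]), (393, [2, 4, 8, 9, 13]), (397, [2, 4, 6, 9, 12]), (401, [4, 5, 8, 9]), (404, [0, 4, 11, 13]), (405, [3, 4, 7, 12, 13]), (407, [3, 4, 6, 10, 12, 13]), (409, [4, 6, 8,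 9, 13]), (412, [1, 5, 7, 11, 12]), (413, [9]), (416, [4, 5, 11]), (418, [0, 3, 4, 8, 9]), (423, [8, 10, 13]), (427, [5, 10, 13]), (429, [3, 5, 13]), (432, [3, 10, 11]), (435, [0, 5, 6, 7, 12]), (436, [0, 1, 6, 11, 13]), (443, [3, 8, 10, 11, 12]), (447, [3, 12, 13]), (456, [1, 11, 12, 13]), (458, [2, 4, 5]), (462, [1, 6, 7, 8, 10]), (463, [2, 6, 9, 11, 13]), (464, [3, 6, 10, 12]), (465, [1, 2, 5, 11]), (466, [5, 6, 9]), (469, [2, 10, 11]), (470, [0, 5, 6, 9]), (472, [0, 5, 11, 13]), (477, [2, 4, 6, 7, 11, 13]), (480, [3, 6, 8, 12]), (481, [0, 7, 11, 13]), (482, [4, 6, 8, 9, 12]), (486, [8, 9, 11, 13]), (487, [2, 4, 6, 7, 8, 9, 12]), (488, [2, 4, 7, 11, 12, 13]), (490, [2, 5, 11, 13]), (491, [1, 2, 10]), (492, [4, 13]), (493, [6, 7, 9, 12, 13]), (496, [2, 3, 4, 7, 9]), (497, [3, 6, 7, 11, 13]), (499, [2, 3, 5, 9, 10]), (500,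 [2, 6, 11, 12]), (501, [3, 8, 12, 13]), (502, [2, 4, 8, 12]), (505, [2, 3, 8, 9]), (506, [2, 6, 7, 8, 11, 12]), (507, [0, 1, 3, 13]), (508, [5, 10]), (510, [2, 4, 5, 6, 7, 12]), (511, [3, 6, 10, 11, 12]), (512, [0, 5, 7, 12]), (513, [2, 4, 8, 10]), (514, [0, 1, 9, 11, 13]), (516, [3, 4, 6, 9, 11]), (517, [1, 2, 6, 10]), (520, [4]), (522, [4, 6, 7, 11, 12, 13]), (523, [3, 6, 7, 8]), (524, [0, 1, 7, 10, 13]), (530, [3, 5, 7, 8, 11]), (531, [1, 3, 4, 5, 7]), (534, [1, 3, 4, 9, 11]), (535, [1, 7, 9]), (536, [1, 2, 5, 11, 12]), (539, [0, 5, 13]), (540, [0, 3]), (541, [0, 1, 5, 8]), (544, [1, 3, 4, 9, 10, 12]), (545, [7, 10, 11, 13]), (546, [2, 6, 8, 9, 13]), (551, [2, 4, 6, 7, 11]), (552, [3, 7, 11, 13]), (553, [0, 1, 2, 6, 12]), (555, [3, 4, 6, 7, 12, 13]), (557, [4, 8, 11, 13]), (559, [6, 9, 11, 13]), (560, [1, 4, 7, 8]), (561,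 [1, 6, 8]), (563, [5, 8, 10, 12, 13]), (566, [3, 6, 8, 12, 13]), (568, [2, 4, 6, 12, 13]), (569, [1, 9, 13]), (570, [2, 10, 12]), (571, [0, 2, 3, 5, 7]), (572, [2, 4, 6, 7, 8, 11]), (573, [2, 4, 6, 7, 8, 13]), (574, [0, 8]), (575, [0, 3, 4, 6, 8]), (576, [0, 2, 4, 6, 11]), (577, [0, 5, 8, 9, 11]), (578, [3, 5, 6, 12, 13]), (582, [3, 5, 8, 9]), (583, [1, 2, 9, 13]), (584, [5, 6, 9, 11]), (587, [0, 5, 6, 7]), (589, [0, 5, 6]), (590, [7, 9, 10, 12]), (594, [0, 6, 9, 11]), (595, [0, 1, 6, 7, 9]), (597, [6, 7, 11, 13]), (599, [5, 6, 7, 9, 12, 13]), (600, [0, 3, 4, 8, 10]), (607, [1, 8, 13]), (608, [0, 4, 7, 8, 11]), (609, [6, 7]), (610, [2, 4, 12]), (611, [1, 6, 7]), (612, [1, 5, 10, 11, 12]), (616, [0, 6, 11]), (617, [3, 5, 6, 8, 10]), (618, [1, 4, 11, 12]), (621, [5, 8, 9, 12]), (622, [4, 5, 8, 11, 13]), (623, [3, 5, 8, 9, 11]),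 (628, [2, 6, 8, 9]), (629, [0, 1, 6, 12]), (631, [2, 6, 7, 9]), (633, [1, 2, 9, 11]), (634, [12, 13]), (636, [5, 7, 8, 9, 11]), (639, [7, 10, 12, 13]), (640, [3, 4, 5, 11, 12]), (641, [3, 4, 8, 9, 10]), (642, [1, 2, 4, 6, 7, 11]), (646, [1, 9, 12]), (648, [0, 4, 7]), (651, [0, 7, 8]), (652, [2, 5, 7, 11]), (653, [2, 4, 6, 8, 9, 11]), (654, [3, 4, 8, 9, 12]), (656, [0, 1, 8, 12]), (664, [0, 4, 9, 13]), (668, [1, 5, 7, 9]), (670, [1, 5, 12]), (671, [0, 4, 8, 11]), (673, [3, 4, 8, 12]), (674, [1, 4, 13]), (677, [1, 2, 4, 6, 9, 11]), (680, [1, 2, 9]), (682, [2, 4, 7, 8, 9, 11]), (683, [2, 3]), (686, [5, 6, 10, 11]), (692, [5, 6, 8, 10]), (694, [3, 4, 6, 9, 10, 13]), (695, [3, 6, 8, 10, 12]), (697, [5, 6, 7, 9]), (698, [0, 7, 11, 12]), (699, [4, 5, 6, 10]), (700, [5, 7, 11, 12]), (702, [1, 4, 5, 9]), (703, [2, 4, 7, 11, 13]),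 (704, [4, 5, 6, 9]), (705, [4, 5, 6, 10, 12, 13]), (706, [0, 4, 5, 6, 11]), (707, [0, 1]), (708, [0, 6, 11, 13]), (710, [3, 6, 7, 9, 11]), (712, [0, 4, 5, 12]), (714, [1, 3, 4, 12]), (718, [4, 5, 9, 10, 13]), (719, [3, 5, 7, 11, 13]), (720, [3, 8, 11, 13]), (721, [2, 4, 6, 7, 12]), (722, [4, 6, 11]), (723, [3, 7, 8, 9, 12]), (725, [0, 2, 3, 4, 5]), (726, [4, 6, 7, 8, 13]), (727, [1, 5, 7, 8, 12]), (729, [3, 4, 7, 8, 11]), (733, [0, 2, 4, 12]), (735, [0, 2, 6, 8]), (737, [1, 3, 9, 12]), (741, [4, 6, 8, 10, 12]), (742, [7, 9, 12]), (743, [0, 5, 6, 8, 10]), (745, [4, 6, 7, 13]), (746, [5, 6]), (751, [2, 4, 6, 9, 13]), (753, [0, 4, 5, 12, 13]), (755, [7, 8, 11, 12, 13]), (759, [3, 5, 8, 10, 11]), (761, [1, 11, 13]), (763, [4, 6, 7, 11, 13]), (765, [12]), (769, [2, 4, 8, 13]), (770, [2, 4, 10, 11, 12]), (772, [1, 5, 8, 10, 12]),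 (773, [2, 4, 6, 7]), (774, [7]), (776, [2, 4, 5, 6, 8]), (780, [0, 4, 12, 13]), (781, [2, 7, 13]), (783, [4, 6, 11, 13]), (785, [4, 6, 7, 9, 13]), (786, [8, 9, 11, 12]), (792, [3, 4, 5, 9, 13]), (796, [5, 6, 10, 11, 12, 13]), (797, [8, 10]), (800, [3, 6, 7, 9, 13]), (801, [1, 2, 3, 10, 13]), (804, [1, 3, 4, 13]), (806, [1, 3, 4, 8, 12]), (807, [0, 6, 8]), (808, [1, 5, 9, 13]), (810, [8, 11]), (813, [5, 8, 9]), (817, [4, 5, 6, 8, 12, 13]), (818, [7, 8, 10]), (819, [1, 2, 4, 8, 13]), (820, [0, 1, 3, 4, 5, 6, 12]), (822, [2, 4, 6, 9, 10, 11]), (823, [3, 5, 6, 9]), (825, [2, 4, 5, 6, 8, 12]), (831, [3, 4, 8, 9]), (837, [0, 5, 10, 13]), (839, [0, 1, 6, 7]), (840, [3, 7, 8, 10, 13]), (841, [0, 5, 8, 12]), (845, [3, 5, 7, 11, 12]), (846, [0, 2, 4, 6, 8]), (847, [7, 10, 12]), (850, [3, 6, 13]), (851, [1, 2, 6, 9, 11]), (852, [0,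 1, 2, 4, 8]), (854, [2, 10]), (857, [3, 7, 9, 10]), (858, [0, 2, 3, 5]), (861, [1, 5, 9, 11, 12]), (862, [0, 4, 5, 6, 11, 13]), (864, [4, 5, 6, 9, 11]), (866, [2, 4, 8]), (868, [3, 8, 13]), (871, [0, 5, 10, 11, 12]), (874, [8, 11, 12, 13]), (875, [2, 4, 7, 9, 10]), (876, [4, 8, 12, 13]), (877, [1, 2, 4, 5, 8]), (878, [5, 7, 9, 10, 11]), (880, [0, 7, 11]), (884, [2, 5, 6, 8, 11, 12]), (886, [1, 3, 4, 7, 10]), (888, [0, 8, 9, 12]), (889, [4, 9, 10]), (890, [0, 2, 4, 5, 12]), (892, [9, 11, 12]), (893, [3, 5, 8, 9, 12]), (895, [1, 6, 7, 9, 10, 13]), (896, [5, 12, 13]), (901, [5, 10, 12]), (902, [0, 4, 10, 12]), (903, [4, 7, 8, 11, 12]), (905, [0, 4, 7, 9]), (906, [2, 7, 11, 12, 13]), (907, [2, 4, 6, 7, 8, 10, 13]), (908, [1, 5, 8, 10, 11]), (910, [6, 9, 10, 13]), (911, [2, 4, 6, 8, 11]), (912, [1, 6, 8, 9, 12]), (916, [2, 6]),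 (918, [3, 11, 12]), (919, [0, 3, 4, 6, 7]), (921, [2, 7, 10, 11]), (923, [3, 4, 8, 9, 11, 12]), (925, [0, 5, 9, 10]), (927, [4, 5, 6, 9, 12]), (931, [3, 5, 9, 12]), (933, [3, 8, 9, 10]), (936, [5, 6, 10, 12]), (937, [0, 11, 12]), (938, [1, 3, 4, 6, 13]), (939, [3, 5, 10, 11]), (943, [3, 4, 9, 12]), (945, [0, 2, 5]), (946, [4, 6, 9, 10, 11]), (947, [0, 5, 9, 11]), (950, [5, 6, 10]), (951, [3, 4, 8, 10]), (952, [10, 12]), (953, [3, 7, 11, 12, 13]), (955, [1, 2, 3, 9]), (956, [2, 4, 6, 8, 10, 12]), (957, [1, 6, 8, 9, 12, 13]), (960, [1, 2, 4, 5, 12]), (962, [4, 7, 12]), (965, [5, 6, 11, 13]), (966, [4, 7, 9, 11]), (970, [4, 7, 9, 11, 13]), (971, [4, 5, 8, 13]), (972, [3, 4, 6, 7, 9, 10, 12]), (976, [2, 4, 5, 8, 9]), (978, [1, 3, 4, 7, 12, 13]), (981, [1, 4, 11]), (983, [2, 5, 6, 7, 12]), (984, [3, 6, 11]), (986, [2, 9, 10, 12]),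 (994, [2, 4, 8, 9, 10]), (995, [11, 13]), (998, [8, 10, 12, 13]), (999, [0, 1, 9, 10]), (1001, [6, 9]), (1004, [3, 5, 6, 8, 13]), (1008, [0, 2, 5, 8, 9]), (1009, [0, 1, 5, 10]), (1010, [0, 2, 10, 12]), (1012, [1, 3, 4, 6, 10]), (1014, [1, 7, 11]), (1015, [2, 7, 8, 13]), (1016, [0, 5, 7, 9, 13]), (1017, [1, 9, 12, 13]), (1019, [3, 8, 10, 13]), (1022, [1, 3, 4, 7]), (1024, [7, 8, 11, 12]), (1026, [5, 7, 8]), (1029, [3, 7, 10, 12, 13]), (1030, [4, 5, 8, 11]), (1032, [3, 5, 8, 12]), (1034, [5, 8, 9, 10]), (1036, [2, 3, 5, 9]), (1041, [0, 3, 7, 11]), (1042, [1, 3, 9, 10, 13]), (1045, [4, 6, 8, 9, 11]), (1046, [2, 5, 7, 8, 10]), (1047, [5, 7, 9, 11, 13]), (1049, [3, 4, 6, 9, 12]), (1050, [2, 4, 5, 8, 9, 12]), (1051, [0, 3, 4, 9, 10]), (1055, [3, 9, 10, 11]), (1056, [0, 2, 8, 10]), (1058, [2, 4, 7, 11, 12]), (1059, [7, 8, 12]),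 (1061, [0, 1, 2]), (1064, [1, 12]), (1065, [5, 7, 8, 9, 12]), (1068, [3, 4, 9, 10, 11, 12]), (1074, [0, 2, 4, 6, 8, 9]), (1077, [0, 5, 8, 10]), (1079, [3, 4, 5, 6, 13]), (1081, [6]), (1082, [0, 1, 2, 4, 6, 10]), (1083, [6, 10]), (1085, [1, 2, 6, 10, 13]), (1089, [1, 5, 10, 12]), (1091, [0, 4]), (1092, [1, 2, 7, 12]), (1093, [4, 5, 9, 10, 11, 13]), (1094, [2, 6, 9, 11]), (1095, [3, 4, 5, 7, 12]), (1096, [0, 1, 5, 8, 12]), (1097, [5, 8, 11]), (1100, [2, 4, 6, 9, 11]), (1105, [6, 8, 11, 13]), (1108, [7, 8, 11]), (1110, [1, 4, 5, 9, 13]), (1111, [2, 5, 10, 11]), (1122, [4, 6, 8, 13]), (1124, [0, 1, 3, 4]), (1126, [5, 7, 8, 11, 13]), (1130, [5, 7, 9, 10, 11, 12]), (1135, [3, 4, 5, 7, 13]), (1136, [0, 3, 4, 6, 8, 12]), (1139, [0, 1, 2, 13]), (1141, [0, 9]), (1143, [0, 3, 7, 8]), (1144, [8, 9, 11]), (1145, [7, 9, 10, 12, 13]), (1147,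 [0, 1, 2, 3, 7]), (1148, [2, 3, 5, 7, 12]), (1149, [8, 10, 11]), (1151, [0, 1, 3, 4, 11, 12]), (1156, [2, 3, 4, 5, 6, 9]), (1157, [5, 8, 10, 12]), (1159, [2, 7, 10, 11, 13]), (1161, [4, 7, 9, 12]), (1162, [1, 6, 7, 9]), (1166, [3, 4, 11, 12]), (1168, [4, 7, 13]), (1170, [1, 6, 7, 10, 12]), (1171, [4, 6, 7, 10, 11]), (1173, [3, 4, 5, 6, 7, 11, 12]), (1174, [1, 8, 11, 13]), (1177, [7, 9, 11, 12, 13]), (1178, [2, 5, 8, 9]), (1179, [0, 4, 6, 8]), (1183, [5, 7, 8, 10, 13]), (1185, [4, 6, 8, 11, 12]), (1187, [3, 5, 6]), (1188, [3, 7, 8, 10]), (1195, [7, 13]), (1196, [5, 6, 7, 10]), (1201, [2, 3, 5, 10, 12]), (1202, [4, 5, 6, 8, 13]), (1204, [1, 10, 12, 13]), (1207, [6, 8]), (1214, [0, 8, 11, 12]), (1215, [2, 6, 8, 11]), (1216, [2, 5, 8, 10, 11]), (1218, [2, 4, 6, 7, 8, 11, 12]), (1219, [1, 2, 7, 9]), (1220, [1, 10]), (1221, [3,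 4, 8, 10, 13]), (1222, [2, 8, 9, 10]), (1223, [6, 7, 10, 12, 13]), (1224, [2]), (1225, [1, 2, 5, 6, 8]), (1226, [1, 4, 5, 7]), (1229, [0, 4, 6, 7, 13]), (1230, [2, 5, 12, 13]), (1232, [3, 4, 9, 10, 11]), (1233, [7, 9, 10]), (1234, [5, 10, 11]), (1235, [2, 5, 13]), (1237, [4, 5, 6, 9, 10, 11]), (1239, [2, 7, 8, 10]), (1240, [3, 4, 5, 12]), (1244, [3, 4, 7, 8, 11, 12]), (1245, [2, 6, 10]), (1246, [4, 5, 13]), (1247, [2, 5, 8, 10]), (1249, [1, 5, 7, 10]), (1250, [2, 3, 7, 10, 12]), (1251, [3, 6, 8, 10, 13]), (1254, [2, 3, 4, 6]), (1263, [3, 4, 5, 8, 9, 13]), (1265, [0, 3, 6, 10]), (1269, [1, 2, 4, 6, 9, 13]), (1271, [4, 6, 7, 10]), (1272, [1, 8, 10]), (1274, [0, 5, 9]), (1275, [0, 1, 5, 13]), (1276, [8, 13]), (1278, [0, 11]), (1279, [0, 4, 11, 12, 13]), (1280, [3, 7, 10, 11, 13]), (1281, [8, 12, 13]), (1282, [0, 3, 4, 5, 11]),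 (1295, [3, 4, 5, 6, 8, 9, 10]), (1300, [3, 9, 12, 13]), (1301, [6, 9, 13]), (1303, [1, 3, 5, 7, 12]), (1305, [7, 9, 11, 12]), (1306, [3, 7, 10, 12]), (1307, [5, 7, 8, 10, 12, 13]), (1314, [2, 4, 6, 7, 10, 11]), (1317, [3, 7, 12]), (1319, [7, 8, 13]), (1320, [1, 3, 5, 6, 10]), (1321, [5, 6, 7, 12, 13]), (1323, [2, 5, 6, 8, 9]), (1325, [1, 2, 5, 9, 11]), (1326, [2, 11]), (1327, [5, 6, 9, 12, 13]), (1328, [4, 10, 13]), (1330, [1, 2, 7, 9, 12]), (1334, [0, 3, 4, 6]), (1335, [1, 3, 4, 5, 6, 7, 8, 11]), (1337, [0, 5, 7, 10, 12]), (1341, [1, 8]), (1345, [4, 5, 10, 11, 12]), (1350, [3, 9, 12]), (1352, [2, 4, 6, 11, 12, 13]), (1353, [3, 4, 5, 8, 9, 11]), (1360, [4, 8, 10, 13]), (1365, [3, 4, 8, 9, 13]), (1368, [0, 4, 7, 9, 13]), (1370, [3, 4, 8, 11, 12]), (1371, [2, 7, 10]), (1373, [0, 3, 4, 7, 10]), (1374, [2, 4, 7, 8, 9, 12]), (1377,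 [5, 8, 12]), (1378, [1, 2, 6, 8, 9]), (1384, [0, 2, 5, 8, 10]), (1385, [4, 11, 13]), (1387, [4, 6, 7, 8, 12, 13]), (1390, [2, 8, 11, 12]), (1394, [3, 5, 7, 9, 13]), (1397, [1, 2, 3, 6, 10]), (1402, [3, 7, 8, 10, 12, 13]), (1403, [0, 12, 13]), (1405, [10, 11]), (1406, [2, 5, 7, 9]), (1408, [4, 9]), (1410, [0, 7, 13]), (1411, [0, 7, 12]), (1413, [0, 2, 7]), (1414, [0, 3, 4, 13]), (1416, [6, 7, 12, 13]), (1417, [0, 4, 6, 9]), (1419, [0, 1, 6, 8, 11]), (1420, [3, 10]), (1421, [8, 11, 13]), (1423, [5, 6, 12, 13]), (1424, [3, 8, 9, 10, 11]), (1426, [1, 6, 11]), (1428, [0, 1, 6, 9]), (1429, [2, 5, 6, 13]), (1430, [1, 3, 4, 6, 8, 10, 11]), (1432, [4, 6, 8, 9]), (1436, [3, 8, 9, 12]), (1437, [0, 1, 2, 3]), (1438, [2, 4, 5, 7]), (1440, [0, 3, 4, 5, 6]), (1442, [0, 5, 6, 10]), (1444, [0, 1, 2, 5]), (1445, [3, 4, 6, 11]), (1448, [2,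 4, 7, 8, 10]), (1454, [5, 8, 9, 11]), (1456, [0, 3, 4, 8, 13]), (1457, [4, 5, 10, 11, 12, 13]), (1458, [1, 2, 5, 10, 11]), (1460, [1, 3, 11]), (1461, [1, 5, 11, 13]), (1464, [0, 3, 4, 6, 11]), (1465, [0, 3, 4, 6, 12, 13]), (1466, [2, 3, 6, 10]), (1467, [0, 1, 6, 7, 13]), (1469, [4, 7, 8, 10, 12]), (1473, [0, 1, 2, 4, 5, 12]), (1474, [10, 11, 12, 13]), (1475, [6, 7, 11, 12]), (1478, [6, 11, 12, 13]), (1479, [9, 10, 13]), (1485, [1, 2, 4, 6, 7]), (1486, [3, 6, 12]), (1489, [0, 3, 10]), (1490, [3, 4, 5, 7]), (1494, [8, 10, 12]), (1496, [0, 1, 7, 8, 11]), (1497, [8]), (1499, [2, 4, 5, 6, 7, 8]), (1502, [0, 2, 4, 8, 10]), (1503, [3, 4, 5, 9, 10, 13]), (1504, [3, 4, 5, 6, 7, 8, 10]), (1508, [1, 2, 5, 7, 8]), (1512, [2, 3, 4, 7]), (1514, [4, 10, 11, 12, 13]), (1516, [3, 4, 7, 10]), (1517, [1, 6, 13]), (1518, [10, 12, 13]), (1519,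 [0, 5, 6, 11]), (1521, [3]), (1522, [1, 5, 11]), (1527, [1, 4, 5, 6]), (1528, [3, 4, 5, 8, 12, 13]), (1531, [0, 5, 10, 11]), (1532, [5, 7, 9, 11]), (1533, [0, 4, 5, 8, 11]), (1535, [6, 8, 9, 13]), (1538, [2, 5, 9, 10]), (1541, [2, 8, 10]), (1542, [0, 3, 4, 6, 12]), (1544, [4, 9, 11]), (1547, [0, 1, 2, 4, 6]), (1549, [2, 6, 9, 12, 13]), (1550, [0, 5, 7, 9]), (1553, [3, 6, 8, 11, 12, 13]), (1555, [3, 6, 9, 10, 12]), (1558, [0, 4, 6, 11]), (1560, [4, 5, 10, 12]), (1564, [1, 2, 4, 8, 10]), (1567, [2, 4, 6, 7, 8, 12]), (1568, [6, 9, 10, 11]), (1569, [5, 6, 7, 10, 11]), (1570, [0, 2, 4, 5, 6, 13]), (1578, [4, 7, 9, 13]), (1582, [3, 7, 8, 9, 10]), (1583, [2, 8, 13]), (1584, [3, 5, 8, 13]), (1585, [1, 8, 11]), (1586, [4, 6, 9, 11, 12, 13]), (1588, [1, 3, 7, 11]), (1590, [0, 1, 11]), (1591, [0, 1, 11, 13]), (1592, [2, 4, 5, 13]),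 (1596, [1, 5, 8, 9, 12]), (1597, [4, 12]), (1602, [0, 2, 5, 8, 11]), (1604, [2, 7]), (1609, [1, 3, 11, 12]), (1611, [2, 4, 5, 6, 13]), (1612, [1, 7, 10]), (1616, [3, 9, 10]), (1618, [5, 6, 7, 11, 12]), (1619, [5, 8, 9, 11, 12, 13]), (1620, [4, 5, 10, 13]), (1623, [1, 2, 3, 5, 11]), (1626, [2, 7, 10, 13]), (1632, [2, 4, 6, 7, 11, 12, 13]), (1635, [0, 4, 5, 11, 13]), (1636, [9, 10, 11]), (1639, [3, 4, 10, 12, 13]), (1640, [2, 3, 5, 6]), (1641, [1, 3, 4, 6, 8]), (1642, [0, 3, 9]), (1643, [3, 4, 8]), (1645, [5, 6, 9, 10, 11, 12]), (1646, [1, 5, 7, 10, 13]), (1647, [4, 5, 9, 11, 12, 13]), (1649, [3, 4, 5, 6, 11, 13]), (1650, [2, 8]), (1651, [3, 4, 6, 9]), (1653, [1, 4, 5, 6, 10]), (1654, [3, 4, 6, 9, 12, 13]), (1656, [3, 5, 6, 8, 12]), (1661, [3, 10, 11, 12]), (1662, [0, 3, 4, 5, 6, 11]), (1663, [6, 10, 12, 13]), (1664, [2, 4,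 5, 6, 7, 10]), (1667, [7, 9]), (1668, [0, 6, 10, 11]), (1670, [0, 4, 6, 9, 12]), (1671, [0, 5, 6, 9, 12, 13]), (1673, [0, 1, 2, 4, 6, 9]), (1675, [1, 7, 9, 10, 11]), (1676, [2, 5, 9, 12, 13]), (1677, [2, 7, 8]), (1678, [3, 5, 6, 11, 13]), (1679, [3, 5, 8, 11, 12]), (1682, [5, 6, 9, 10, 11, 13]), (1683, [1, 6, 7, 8, 10, 13]), (1684, [5, 10, 11, 13]), (1685, [0, 2, 4, 6, 7, 13]), (1686, [4, 7, 9, 11, 12]), (1688, [3, 4, 8, 10, 12]), (1690, [3, 4, 7, 8, 10]), (1691, [1, 3, 7]), (1692, [1, 2, 8, 11]), (1700, [3, 9, 11]), (1701, [3, 5]), (1702, [1, 6, 8, 13]), (1703, [2, 3, 5, 7]), (1705, [3, 4, 7, 12]), (1706, [4, 6, 7, 8, 10]), (1708, [4, 7, 8, 9]), (1709, [4, 5, 10, 11, 13]), (1710, [0, 4, 7, 10]), (1711, [2, 5, 6, 12]), (1713, [4, 5, 8, 9, 12]), (1715, [2, 4, 5, 7, 8, 11, 12]), (1717, [8, 9, 13]), (1721, [1, 2, 4, 6, 9, 11,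 12, 13]), (1723, [1, 5, 9, 10]), (1724, [5, 9, 10, 12, 13]), (1726, [0, 1, 3]), (1727, [0, 2, 4, 6, 8, 11]), (1729, [0, 7]), (1731, [0, 1, 2, 4, 12]), (1736, [3, 7, 10, 11]), (1737, [0, 4, 7, 8]), (1738, [3, 6, 8, 9, 12]), (1739, [7, 8]), (1740, [0, 1, 7, 12]), (1741, [2, 7, 8, 9, 10, 12]), (1742, [1, 5, 7, 12, 13]), (1745, [3, 4, 5, 6, 9]), (1747, [1, 3, 4, 9, 11, 12]), (1748, [2, 6, 8, 10, 12]), (1749, [1, 2, 7]), (1750, [2, 8, 10, 11, 12]), (1751, [6, 7, 9, 11]), (1752, [5, 7, 8, 13]), (1754, [5, 6, 10, 11, 13]), (1755, [1, 7, 8, 10, 12]), (1756, [4, 5, 9, 10, 11]), (1757, [1, 4, 6, 8]), (1764, [7, 8, 10, 13]), (1767, [1, 7]), (1768, [1, 4, 9, 10]), (1769, [5, 6, 8]), (1773, [2, 7, 8, 9, 10]), (1774, [4, 6, 9, 11, 13]), (1776, [2, 4, 6, 10, 11]), (1777, [0, 2, 8, 10, 12]), (1778, [3, 6, 8, 11, 13]), (1779, [0, 13]), (1781,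 [3, 4, 6, 10, 12]), (1782, [0, 6, 10, 13]), (1783, [1, 4, 5, 8]), (1784, [7, 9, 12, 13]), (1787, [0, 10, 12, 13]), (1788, [1, 3, 5, 7, 9, 11]), (1792, [0, 1, 7, 9]), (1793, [3, 4, 5, 6, 9, 12]), (1796, [3, 6, 11, 12]), (1797, [0, 5, 6, 9, 13]), (1798, [1, 6, 10]), (1799, [1, 3, 5]), (1801, [3, 4, 5, 6, 7]), (1803, [3, 8, 9]), (1805, [5, 6, 8, 9, 11]), (1807, [2, 5, 8, 9, 13]), (1808, [0, 4, 7, 11]), (1809, [1, 4, 5, 9, 12]), (1810, [2, 6, 10, 12]), (1811, [0, 10, 11, 13]), (1815, [3, 5, 7, 8, 10, 13]), (1818, [3, 4, 6, 9, 13]), (1820, [2, 4, 7, 9, 10, 13]), (1822, [1, 3, 6, 8, 11, 12]), (1823, [3, 7, 13]), (1824, [1, 3, 4, 5, 6]), (1825, [2, 7, 12]), (1827, [3, 4, 10]), (1831, [6, 7, 12]), (1832, [3, 5, 6, 13]), (1833, [2, 4, 7, 8, 12]), (1835, [0, 5, 7, 11]), (1839, [2, 3, 4, 5]), (1842, [2, 7, 8, 12]), (1843, [5, 6, 9,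 10, 12, 13]), (1844, [0, 2, 5, 11, 12]), (1845, [2, 4, 8, 11, 12]), (1848, [2, 3, 7, 10]), (1849, [2, 7, 9]), (1850, [3, 8, 12]), (1853, [5, 11, 13]), (1856, [0, 3, 4, 8, 11]), (1857, [5, 8, 10, 13]), (1858, [4, 5, 6, 9, 13]), (1859, [5, 7, 9, 12, 13]), (1860, [0, 5, 10, 12]), (1862, [4, 6, 10]), (1863, [4, 5, 9, 11, 12]), (1864, [1, 2, 4, 6, 9, 10, 11]), (1865, [0, 3, 4, 5, 6, 8]), (1866, [1, 5, 8, 11, 12]), (1870, [3, 4, 6, 8, 12, 13]), (1872, [2, 4, 8, 9, 11, 13]), (1873, [2, 4, 6, 8, 9, 11, 13]), (1874, [5, 6, 9, 10]), (1875, [3, 5, 7, 13]), (1876, [5, 6, 9, 13]), (1878, [2, 4, 6, 8, 12]), (1880, [3, 6, 10, 11]), (1881, [7, 8, 10, 11, 13]), (1883, [1, 2, 3, 10, 11]), (1885, [0, 3, 10, 12]), (1887, [2, 4, 9, 11]), (1891, [0, 4, 8]), (1892, [4, 5, 6, 7, 9]), (1894, [4, 7, 9]), (1895, [3, 8, 10, 11]), (1897, [3, 9]), (1901,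 [5, 9, 12, 13]), (1903, [0, 3, 4, 5, 8]), (1905, [1, 2, 4]), (1906, [2, 4, 10, 11]), (1910, [3, 4, 5, 8, 13]), (1911, [5, 6, 8, 9]), (1913, [2, 6, 7, 8, 12]), (1914, [0, 6, 10]), (1919, [0, 1, 3, 4, 10, 13]), (1920, [1, 2, 3, 5, 7]), (1921, [2, 4, 7, 10]), (1928, [5, 6, 7, 8, 11]), (1929, [1, 3, 4, 8, 10]), (1935, [1, 11, 12]), (1937, [0, 3, 5]), (1938, [9, 11, 13]), (1939, [6, 8, 10]), (1941, [2, 4, 7, 8, 10, 12]), (1945, [3, 4, 5, 9, 10]), (1948, [0, 4, 5, 6]), (1950, [2, 6, 11, 12, 13]), (1951, [2, 5, 7]), (1956, [3, 4, 5, 8, 11]), (1957, [0, 4, 9, 12, 13]), (1959, [2, 5, 8, 11, 12]), (1961, [1, 2, 6, 10, 12]), (1964, [3, 5, 6, 11, 12]), (1966, [0, 5, 7, 8, 10]), (1967, [5, 6, 8, 12, 13]), (1970, [2, 4, 9, 11, 13]), (1974, [4, 5, 6, 9, 10]), (1977, [3, 10, 11, 13]), (1982, [1, 4, 5, 7, 12]), (1985, [3, 4, 6, 8, 10, 11]),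 (1986, [3, 6, 8]), (1988, [7, 9, 11]), (1990, [2, 4, 7, 8, 9, 13]), (1992, [4, 5, 7, 13]), (1993, [1, 2, 3, 12, 13]), (1996, [5, 6, 8, 10, 13]), (2010, [4, 5, 7]), (2011, [3, 5, 6, 11, 12, 13]), (2012, [4, 5, 7, 8]), (2018, [4, 6, 8, 9, 10]), (2025, [2, 3, 5, 13]), (2026, [0, 1, 3, 4, 5, 6]), (2030, [1, 10, 11, 13]), (2032, [0, 4, 6, 10, 13]), (2035, [1, 5, 9]), (2036, [3, 4, 9, 10, 12]), (2037, [0, 4, 5, 8]), (2038, [0, 1, 8, 10]), (2042, [3, 4, 11]), (2049, [1, 3, 4, 7, 11]), (2051, [2, 5, 6, 11]), (2052, [2, 5, 7, 8, 10, 11]), (2054, [2, 5, 6, 12, 13]), (2056, [3, 7, 8, 9, 11]), (2057, [1, 3, 4, 8]), (2058, [2, 4, 5, 10]), (2063, [4, 5, 6, 8, 12]), (2064, [2, 10, 12, 13]), (2066, [0, 5, 8, 10, 13]), (2067, [2, 4, 6, 7, 8]), (2068, [2, 5, 6]), (2071, [3, 4, 7, 8, 13]), (2072, [6, 9, 10, 12, 13]), (2073, [1, 2, 6, 9, 12]),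 (2074, [1, 9, 11, 13]), (2075, [2, 8, 9, 10, 13]), (2076, [2, 4, 6, 7, 10, 11, 12]), (2077, [0, 4, 6, 12]), (2078, [2, 4, 7, 8, 13]), (2081, [9, 11]), (2083, [3, 4, 6, 8, 13]), (2086, [0, 1, 9]), (2087, [0, 4, 5, 13]), (2088, [1, 5, 9, 10, 11]), (2091, [1, 2, 4, 7]), (2092, [2, 4, 9, 10]), (2093, [2, 4, 6, 7, 13]), (2094, [1, 3, 4, 7, 13]), (2095, [1, 5, 6, 11, 12]), (2099, [5, 8, 10, 11]), (2104, [3, 4, 7, 10, 12]), (2105, [6, 8, 9, 11]), (2106, [0, 9, 12]), (2108, [2, 4, 7, 8, 11]), (2110, [3, 4, 7, 11, 12]), (2111, [3, 5, 7, 12]), (2112, [3, 5, 9, 11]), (2113, [4, 5, 6, 10, 11, 13]), (2115, [0, 2, 4, 8, 11]), (2116, [2, 5, 7, 8]), (2118, [4, 5, 9, 13]), (2119, [1, 6, 9]), (2122, [3, 5, 6, 8]), (2125, [2, 9, 12]), (2126, [0, 7, 11, 12, 13]), (2127, [8, 9, 10]), (2130, [1, 9, 10]), (2131, [1, 5, 13]), (2134, [2, 4, 5, 8,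 9, 11]), (2136, [2, 4, 9]), (2141, [1, 5, 10, 13]), (2145, [5, 7, 12, 13]), (2146, [5, 7, 12]), (2147, [2, 4, 6, 7, 9, 10]), (2149, [0, 4, 5, 6, 9]), (2153, [1, 8, 12]), (2158, [1, 7, 11, 13]), (2159, [0, 11, 12, 13]), (2160, [6, 10, 11]), (2161, [7, 12]), (2162, [2, 9, 11, 12]), (2163, [7, 8, 9, 11]), (2164, [1, 4, 5, 6, 13]), (2165, [2, 6, 8]), (2166, [4, 8, 9]), (2168, [4, 7, 8, 9, 13]), (2169, [0, 1, 8, 12, 13]), (2171, [3, 4, 6, 8, 11]), (2172, [0, 2, 4, 6, 8, 12]), (2174, [1, 6, 7, 12]), (2175, [11, 12, 13]), (2176, [3, 5, 10, 13]), (2177, [0, 1, 2, 4, 5]), (2178, [3, 4, 5]), (2180, [2, 8, 12]), (2181, [4, 8, 13]), (2183, [1, 6, 8, 10]), (2184, [3, 4, 5, 6, 8, 9]), (2185, [0, 1, 7, 11]), (2186, [0, 4, 6, 11, 13]), (2187, [4, 5, 9, 11, 13]), (2188, [3, 5, 8, 10, 11, 13]), (2189, [8, 12]), (2192, [2, 4, 5, 6, 8, 9]),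 (2195, [1, 2]), (2197, [1, 2, 4, 5, 6]), (2199, [0, 1, 11, 12, 13]), (2201, [4, 7]), (2202, [5, 9, 10, 11]), (2207, [1, 2, 6, 12]), (2210, [0, 5, 7, 11, 13]), (2215, [1, 3, 4, 8, 11, 13]), (2216, [2, 3, 4, 5, 6]), (2221, [4, 11, 12]), (2222, [3, 4, 5, 8, 11, 13]), (2223, [0, 2, 4, 11, 12]), (2225, [1, 11]), (2227, [0, 3, 4, 6, 10, 12]), (2228, [2, 3, 7]), (2229, [2, 11, 12]), (2231, [2, 4, 12, 13]), (2236, [1, 5, 7, 13]), (2237, [2, 4, 5, 7, 8]), (2239, [1, 5, 7, 8, 9]), (2240, [4, 8]), (2242, [3, 5, 8, 11, 13]), (2243, [1, 6, 7, 11, 12]), (2244, [0, 4, 8, 9]), (2245, [5, 7, 9, 12]), (2246, [1, 10, 11]), (2247, [0, 1, 2, 7, 9]), (2248, [11, 12]), (2251, [4, 6, 9, 11]), (2252, [3, 6, 7, 11]), (2254, [0, 6, 9]), (2255, [0, 1, 5, 7, 8]), (2259, [3, 4, 6, 8, 10]), (2260, [3, 10, 13]), (2261, [2, 7, 9, 11]), (2262, [5, 10, 11,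 12, 13]), (2263, [5, 6, 9, 10, 13]), (2265, [0, 2, 4, 6, 12, 13]), (2267, [1, 3, 4, 6]), (2269, [5, 6, 8, 9, 10, 13]), (2270, [0, 2, 4, 6]), (2272, [1, 6, 7, 10]), (2273, [4, 6, 7, 11]), (2274, [3, 4, 6, 13]), (2275, [3, 5, 7, 8, 10]), (2276, [1, 2, 4, 5]), (2277, [0, 2, 8]), (2278, [6, 10, 12]), (2279, [2, 3, 5, 9, 11]), (2281, [6, 7, 13]), (2282, [1, 2, 4, 12]), (2284, [2, 4, 6, 7, 8, 9]), (2286, [3, 4, 11, 13]), (2287, [1, 6, 7, 11]), (2289, [0, 3, 4, 8]), (2292, [0, 3, 12]), (2294, [5, 6, 7, 11, 13]), (2297, [2, 5]), (2298, [0, 2, 4, 8, 13]), (2299, [1, 2, 7, 10]), (2300, [4, 5, 6, 8, 10, 11]), (2301, [2, 4, 8, 10, 13]), (2302, [1, 2, 4, 5, 10]), (2304, [0, 3, 4, 5, 8, 13]), (2305, [2, 4, 6, 8, 9, 13]), (2306, [3, 4, 6, 11, 13]), (2307, [0, 2, 3, 5, 7, 12]), (2308, [1, 5, 8, 11, 12, 13]), (2309, [5, 6, 7, 8]), (2310,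 [0, 5, 12]), (2312, [1, 3, 4, 9, 12, 13]), (2313, [3, 4, 7, 10, 11]), (2317, [3, 7, 8, 12, 13]), (2318, [1, 7, 12]), (2319, [2, 9, 10, 11]), (2322, [0, 1, 2, 8, 11]), (2323, [3, 4, 5, 8, 9]), (2326, [3, 4, 9, 10, 13]), (2327, [0, 2, 4, 13]), (2332, [8, 9]), (2336, [1, 3, 6, 7]), (2337, [0, 8, 12]), (2339, [4, 7, 8, 10]), (2341, [1, 2, 8]), (2345, [1, 5, 9, 10, 12]), (2346, [0, 1, 2, 7]), (2347, [2, 5, 10]), (2349, [2, 4, 5, 7, 8, 11]), (2350, [0, 11, 13]), (2352, [0, 2, 4, 6, 8, 10, 12]), (2353, [1, 2, 9, 10]), (2354, [2, 4, 5, 7, 8, 9]), (2355, [3, 4, 7, 8, 10, 12]), (2357, [3, 10, 12]), (2360, [3, 4, 5, 6, 9, 11]), (2363, [0, 4, 10]), (2364, [7, 8, 9, 13]), (2365, [10, 11, 12]), (2367, [1, 5, 8, 10, 12, 13]), (2368, [5, 7, 8, 12, 13]), (2369, [1, 3, 7, 8, 13]), (2370, [6, 8, 12, 13]), (2371, [4, 6, 12]), (2374, [0, 5, 7,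 10, 11, 12]), (2375, [2, 4, 6, 7, 9, 13]), (2378, [0, 4, 12]), (2379, [9, 10, 11, 12]), (2382, [6, 9, 11, 12, 13]), (2384, [5, 7, 10]), (2385, [0, 1, 5, 7, 11, 12]), (2386, [9, 12, 13]), (2387, [3, 6, 9, 13]), (2389, [0, 1, 10, 13]), (2390, [2, 6, 7, 8, 12, 13]), (2391, [0, 1, 2, 3, 13]), (2393, [3, 6, 8, 11]), (2396, [1, 2, 6]), (2401, [0, 4, 7, 12, 13]), (2402, [4, 9, 11, 13]), (2404, [4, 5, 7, 11, 13]), (2405, [3, 6, 9, 10]), (2407, [5, 11, 12, 13]), (2408, [0, 2, 4, 10]), (2409, [4, 5, 12, 13]), (2410, [4, 6, 8]), (2412, [3, 4, 9, 11, 12]), (2413, [2, 3, 4, 6, 7]), (2414, [2, 3, 4, 6, 12]), (2415, [6, 7, 10]), (2416, [5, 6, 7, 10, 13]), (2417, [5, 8, 10, 11, 13]), (2419, [3, 4, 6, 12]), (2421, [3, 8, 10]), (2424, [4, 6, 7, 9, 11]), (2430, [2, 4, 5, 12, 13]), (2433, [3, 4, 6, 7, 11]), (2434, [0, 8, 12, 13]), (2435, [2,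 4, 5, 6]), (2436, [3, 4, 6, 8, 9, 11]), (2437, [2, 4, 5, 7, 9]), (2438, [1, 10, 12]), (2439, [2, 3, 13]), (2443, [1, 2, 3, 12]), (2446, [2, 8, 10, 11, 12, 13]), (2449, [2, 4, 5, 12]), (2450, [4, 5, 8]), (2451, [2, 3, 5, 12]), (2453, [2, 5, 7, 8, 13]), (2454, [2, 3, 4, 6, 13]), (2455, [1, 2, 4, 7, 9, 12]), (2457, [2, 4, 5, 8]), (2458, [1, 6, 7, 8, 12, 13]), (2461, [0, 2, 4, 10, 11]), (2465, [4, 5, 6, 7, 9, 10]), (2467, [4, 5, 11, 12]), (2468, [1, 5, 6, 11]), (2469, [3, 4, 5, 7, 8]), (2470, [5, 6, 7, 10, 12]), (2471, [1, 3, 8, 10]), (2473, [0, 5, 9, 11, 12]), (2478, [1, 7, 10, 13]), (2479, [2, 7, 11, 13]), (2480, [1, 2, 4, 6]), (2481, [1, 3, 4, 5]), (2482, [1, 5, 8, 10]), (2483, [5, 7, 11, 12, 13]), (2484, [5, 8, 9, 11, 12]), (2489, [0, 4, 13]), (2490, [1, 5, 9, 12, 13]), (2492, [2, 4, 6, 8, 13]), (2494, [3, 4, 12]), (2495,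 [5, 12]), (2503, [3, 4, 8, 13]), (2507, [2, 4, 6, 7, 9]), (2508, [9, 12]), (2509, [4, 5, 6, 8, 11]), (2516, [4, 6, 9, 11, 12]), (2517, [1, 2, 4, 5, 13]), (2518, [3, 4, 6, 8, 12]), (2519, [0, 1, 10]), (2521, [4, 5, 8, 10, 13]), (2523, [2, 4, 7, 12, 13]), (2524, [4, 6, 7, 11, 12]), (2526, [0, 3, 4, 12]), (2529, [5, 10, 11, 12]), (2531, [3, 4, 8, 11]), (2538, [1, 5, 6, 7]), (2540, [2, 4, 9, 13]), (2541, [4, 9, 12, 13]), (2542, [5, 13]), (2546, [2, 9]), (2551, [2, 6, 7, 9, 11]), (2552, [5, 6, 7, 8, 10]), (2553, [2, 6, 10, 13]), (2554, [8, 10, 11, 13]), (2558, [4, 7, 8]), (2559, [2, 7, 12, 13]), (2560, [0, 3, 7, 13]), (2562, [3, 4, 5, 7, 8, 13]), (2563, [1, 3, 4]), (2564, [0, 2, 6, 7, 8]), (2565, [4, 5, 6, 7]), (2566, [2, 5, 9, 13]), (2567, [0, 5, 10, 11, 13]), (2570, [3, 4, 8, 9, 11, 13]), (2574, [0, 1, 3, 4, 10]), (2579, [4,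 7, 8, 10, 11]), (2580, [1, 10, 11, 12]), (2581, [1, 2, 7, 10, 13]), (2582, [0, 5]), (2584, [2, 6, 10, 11]), (2585, [0, 1, 2, 8, 12]), (2588, [2, 5, 7, 9, 11]), (2589, [0, 5, 10]), (2590, [2, 3, 5, 11]), (2598, [1, 5, 7, 11]), (2600, [3, 7, 8, 10, 12]), (2602, [9, 10]), (2604, [1, 6, 8, 9, 13]), (2605, [0, 6, 11, 12, 13]), (2606, [7, 9, 13]), (2607, [3, 11, 13]), (2608, [0, 3, 4, 6, 10]), (2611, [2, 6, 7, 13]), (2613, [6, 8, 10, 13]), (2614, [1, 7, 8]), (2615, [1, 4, 5, 6, 11]), (2616, [0, 2, 4, 5, 8, 11]), (2617, [4, 6, 7, 12]), (2619, [7, 8, 11, 13]), (2620, [2, 4, 7, 8, 10, 13]), (2621, [3, 4, 7, 10, 13]), (2622, [5, 6, 7, 10, 11, 12]), (2623, [3, 5, 8, 12, 13]), (2625, [1, 2, 10, 11]), (2629, [5, 6, 8, 11, 12]), (2630, [5, 7, 11, 13]), (2631, [1, 3, 9, 10]), (2633, [1, 5, 8]), (2635, [0, 7, 9]), (2637, [3, 4, 6, 7, 8]),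 (2639, [0, 4, 6, 7, 8]), (2640, [4, 6, 9, 10]), (2643, [3, 4, 6, 10]), (2644, [0, 4, 7, 13]), (2645, [2, 4, 7, 13]), (2647, [0, 1, 2, 4]), (2648, [3, 5, 10, 11, 12]), (2650, [4, 6, 9, 12]), (2652, [2, 6, 11]), (2653, [3, 11, 12, 13]), (2654, [4, 5, 6, 11, 12]), (2658, [0, 1, 6, 13]), (2660, [2, 4, 9, 12]), (2662, [1, 2, 6, 13]), (2666, [0, 3, 5, 7]), (2667, [0, 6, 8, 13]), (2668, [5, 7, 9]), (2669, [2, 4, 6, 8, 12, 13]), (2672, [2, 5, 7, 8, 11]), (2673, [3, 4, 5, 7, 8, 12]), (2675, [3, 5, 7, 8, 13]), (2676, [4, 8, 10]), (2677, [1, 5, 8, 10, 13]), (2678, [0, 1, 8, 11]), (2680, [7, 8, 9, 12]), (2681, [0, 1, 2, 4, 6, 9, 12]), (2682, [4, 6]), (2683, [6, 11, 13]), (2686, [0, 3, 8]), (2687, [2, 3, 4, 5, 6, 11]), (2689, [0, 1, 2, 4, 5, 10]), (2690, [0, 2, 10]), (2692, [3, 4, 7, 8, 9, 13]), (2694, [0, 4, 6]), (2699, [2, 4, 6, 9,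 10]), (2700, [3, 4, 5, 6, 7, 8, 12]), (2701, [3, 5, 8, 10]), (2703, [4, 5, 6, 11, 13]), (2705, [2, 4, 6, 8, 10, 13]), (2706, [2, 4, 6, 7, 11, 12]), (2708, [3, 7, 8, 10, 11, 12]), (2709, [2, 7, 8, 9, 11]), (2710, [2, 5, 8, 10, 12]), (2712, [5, 6, 7, 13]), (2714, [0, 3, 4, 7, 8]), (2715, [2, 6, 12, 13]), (2716, [0, 7, 10, 13]), (2721, [5, 7, 8, 9, 11, 12]), (2725, [3, 4, 5, 8, 12]), (2728, [0, 3, 4, 11]), (2729, [1, 3, 4, 11, 13]), (2730, [2, 4, 8, 12, 13]), (2731, [4, 5, 8, 12]), (2733, [4, 10, 11, 12]), (2735, [7, 10, 11]), (2738, [1, 5]), (2740, [0, 7, 10, 12]), (2742, [2, 4, 6, 7, 8, 10]), (2748, [2, 5, 9, 10, 11]), (2749, [2, 9, 11]), (2750, [0, 1, 7, 10]), (2751, [1, 4, 7, 10]), (2752, [4, 10, 11, 13]), (2754, [2, 3, 12, 13]), (2755, [0, 1, 8]), (2756, [7, 8, 10, 11]), (2757, [1, 5, 6, 12]), (2758, [6, 8, 10, 11]), (2760,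 [2, 3, 9]), (2761, [3, 5, 6, 7]), (2765, [1, 2, 3, 5, 6]), (2766, [0, 1, 2, 8]), (2767, [2, 4, 6, 9]), (2768, [0, 1, 7, 13]), (2770, [0, 1, 2, 6]), (2771, [0, 3, 5, 8]), (2772, [1, 2, 11, 12]), (2774, [2, 6, 12]), (2775, [2, 5, 8, 11]), (2776, [3, 4, 6, 7, 9, 10]), (2778, [3, 4, 6, 9, 10]), (2780, [5, 7, 8, 9, 10, 13]), (2781, [0, 2, 4, 12, 13]), (2786, [2, 4, 5, 6, 8, 11]), (2788, [2, 4, 6, 7, 12, 13]), (2789, [6, 7, 8, 12, 13]), (2790, [2, 4, 11, 12]), (2795, [6, 10, 13]), (2801, [4, 10]), (2802, [0, 2, 4, 6, 8, 11, 12]), (2803, [0, 6]), (2806, [3, 6, 7, 8, 12]), (2808, [4, 9, 12]), (2812, [1, 5, 11, 12, 13]), (2813, [2, 4, 13]), (2816, [3, 7, 8, 11]), (2817, [0, 6, 11, 12]), (2818, [0, 3, 4, 8, 10, 11]), (2819, [1, 6, 8, 10, 12]), (2821, [1, 5, 10, 11, 13]), (2824, [0, 2, 4, 6, 8, 10]), (2825, [3, 6, 7, 9]), (2830, [1,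 5, 11, 12]), (2832, [2, 5, 6, 8]), (2833, [0, 1, 5, 10, 12]), (2834, [5, 6, 7, 11]), (2835, [6, 7, 10, 11]), (2836, [1, 7, 8, 9, 11]), (2838, [6, 7, 8, 12]), (2839, [2, 5, 11]), (2842, [3, 4, 8, 9, 10, 11]), (2844, [0, 2, 3, 5, 6]), (2850, [3, 6, 9, 10, 11]), (2854, [4, 5, 6, 12, 13]), (2855, [0, 3, 11]), (2858, [2, 8, 9, 10, 12, 13]), (2859, [1, 3, 6, 8, 13]), (2860, [5, 10, 12, 13]), (2861, [0, 4, 8, 11, 13]), (2865, [3, 4, 8, 9, 11]), (2866, [5, 8, 10, 11, 12]), (2868, [0, 8, 13]), (2869, [2, 5, 7, 13]), (2871, [1, 6, 7, 8]), (2872, [6, 9, 11]), (2873, [0, 2, 5, 7]), (2875, [1, 3, 7, 8, 11]), (2877, [5, 7, 8, 10]), (2878, [1, 4, 5, 10]), (2879, [4, 5, 6, 10, 11]), (2883, [1, 5, 10]), (2884, [2, 5, 10, 13]), (2886, [2, 12, 13]), (2889, [1, 6, 7, 8, 12]), (2890, [0, 3, 4, 5]), (2892, [4, 11]), (2894, [2, 4, 6, 11]), (2896,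 [3, 4, 9, 11]), (2897, [2, 4, 7, 8, 9]), (2899, [1, 8, 10, 13]), (2900, [3, 7, 8, 12]), (2901, [3, 7, 10, 13]), (2903, [2, 7, 11, 12]), (2904, [2, 3, 10, 12]), (2906, [0, 1, 7, 12, 13]), (2908, [0, 1, 6, 10, 13]), (2909, [0, 1, 4, 11]), (2912, [1, 5, 8, 12, 13]), (2913, [1, 2, 4, 7, 10, 11]), (2914, [3, 4, 6, 7]), (2916, [3, 4, 12, 13]), (2917, [1, 2, 4, 8]), (2922, [7, 9, 11, 13]), (2923, [5, 6, 9, 10, 12]), (2924, [4, 5, 7, 9, 10]), (2926, [4, 5, 7, 12]), (2930, [2, 4, 6, 11, 12]), (2935, [3, 7, 8, 11, 13]), (2936, [7, 8, 9]), (2938, [1, 2, 8, 9, 10, 11]), (2939, [7, 11, 13]), (2940, [3, 6, 8, 13]), (2941, [2, 3, 12]), (2942, [0, 1, 6, 11]), (2944, [0, 3, 7]), (2946, [2, 3, 5, 8, 9]), (2948, [0, 2, 4, 11, 13]), (2949, [2, 5, 11, 12, 13]), (2951, [0, 3, 8, 10]), (2952, [3, 4, 7, 8, 10, 11, 12]), (2953, [2, 4, 6, 8, 9, 12]),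 (2955, [0, 2, 4, 6, 13]), (2963, [2, 6, 7, 8, 11]), (2966, [6, 7, 9, 12]), (2967, [3, 4, 5, 8, 10, 12]), (2968, [0, 4, 5, 8, 13]), (2969, [3, 4, 6, 8, 11, 13]), (2970, [1, 3, 5, 7]), (2972, [5, 7, 9, 10, 12, 13]), (2974, [1, 5, 7, 8]), (2976, [0, 3, 4, 6, 8, 11]), (2979, [0, 2, 4, 6, 8, 9, 11]), (2980, [5, 9, 11]), (2981, [2, 4, 6, 11, 13]), (2982, [0, 4, 9, 11]), (2983, [0, 1, 2, 4, 6, 12]), (2985, [1, 3, 6, 8]), (2986, [1, 3, 6, 8, 11]), (2987, [1, 2, 5]), (2988, [3, 4, 5, 6, 12]), (2994, [4, 8, 9, 10, 11]), (2995, [1, 3, 4, 10, 12]), (2996, [5, 7, 8, 10, 12]), (2997, [2, 4, 6, 8, 10]), (2999, [3, 5, 8, 9, 11, 12]), (3000, [3, 7, 8, 10, 11]), (3003, [2, 4, 9, 10, 12]), (3004, [3, 5, 11, 12]), (3009, [5, 6, 7, 9, 13]), (3011, [2, 3, 4, 5, 13]), (3012, [2, 6, 9, 10]), (3014, [3, 11]), (3017, [3, 7, 11, 12]), (3018, [2, 7,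 11]), (3019, [0, 1, 5, 7]), (3020, [3, 5, 6, 9, 13]), (3021, [4, 10, 12, 13]), (3025, [3, 8, 11]), (3028, [2, 4, 6, 9, 11, 13]), (3033, [5, 6, 9, 12]), (3034, [4, 7, 9, 10, 11]), (3038, [4, 6, 7, 9]), (3041, [4, 6, 9, 10, 12]), (3042, [1, 3, 4, 10, 13]), (3043, [2, 4, 7, 12]), (3045, [1, 2, 11]), (3047, [7, 10, 13]), (3048, [2, 4, 8, 9, 12, 13]), (3049, [0, 4, 5]), (3050, [9, 13]), (3051, [5, 8, 9, 12, 13]), (3053, [3, 12]), (3054, [4, 5, 9, 12]), (3056, [1, 5, 8, 11]), (3057, [2, 8, 11, 13]), (3058, [5, 6, 9, 11, 13]), (3059, [0, 2, 3, 4, 6, 7]), (3061, [0, 1, 2, 7, 10]), (3066, [0, 1, 6, 10]), (3067, [3, 6, 8, 10, 11]), (3068, [1, 5, 8, 12]), (3071, [1, 3, 5, 12]), (3073, [1, 2, 6, 7, 8]), (3075, [0, 10, 11]), (3077, [0, 2, 8, 12]), (3079, [5, 6, 12]), (3081, [0, 2, 3, 5, 13]), (3082, [2, 6, 9, 11, 12]), (3083, [3, 9, 10,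 12]), (3084, [2, 4, 5, 6, 9]), (3085, [0, 7, 9, 11]), (3086, [3, 4, 6, 7, 8, 9, 12]), (3088, [0, 1, 12]), (3089, [2, 5, 8, 13]), (3090, [3, 5, 7, 9]), (3091, [7, 10]), (3092, [6, 9, 12, 13]), (3093, [3, 5, 6, 8, 10, 13]), (3095, [1, 3, 5, 6, 13]), (3096, [3, 4, 6, 7, 12]), (3098, [3, 5, 6, 7, 12]), (3099, [3, 4, 8, 9, 10, 13]), (3101, [3, 4, 6, 8, 9, 10, 12]), (3102, [3, 4, 9]), (3103, [3, 4, 5, 8]), (3107, [4, 6, 7, 8, 12]), (3109, [0, 3, 4, 8, 10, 12]), (3110, [4, 5, 10]), (3111, [2, 6, 7]), (3113, [2, 3, 5, 7, 10, 13]), (3114, [2, 4, 5, 6, 8, 11, 12]), (3115, [1, 2, 3, 10]), (3116, [2, 4, 8, 9, 11]), (3118, [3, 4, 5, 7, 11]), (3119, [5, 7, 13]), (3120, [0, 2, 4, 5, 6]), (3121, [1, 3, 5, 6]), (3123, [5, 6, 8, 9, 10]), (3125, [2, 5, 6, 7]), (3127, [0, 2, 12]), (3131, [0, 1, 5]), (3132, [6, 9, 12]), (3134, [4, 6, 9]), (3135,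 [4, 5, 6, 9, 12, 13]), (3136, [3, 4, 9, 12, 13]), (3138, [1, 5, 9, 12]), (3139, [3, 4, 8, 9, 12, 13]), (3140, [3, 5, 9]), (3141, [2, 4, 11]), (3143, [0, 7, 10, 11]), (3146, [0, 1, 6, 8]), (3149, [5, 9]), (3150, [4, 5, 9]), (3151, [3, 8, 11, 12, 13]), (3153, [0, 8, 9]), (3156, [6, 7, 10, 13]), (3158, [1, 2, 3, 13]), (3159, [2, 8, 12, 13]), (3163, [3, 5, 7, 8, 12, 13]), (3165, [10, 11, 13]), (3166, [6, 8, 11]), (3167, [5, 8, 9, 11, 13]), (3169, [1, 6, 12, 13]), (3172, [0, 3, 4, 5, 8, 11]), (3174, [2, 5, 8]), (3175, [3, 4, 6]), (3176, [0, 5, 6, 7, 13]), (3178, [3, 6, 8, 10]), (3181, [4, 5]), (3183, [1, 3, 4, 8, 9]), (3185, [1, 5, 10, 11]), (3186, [5, 7, 10, 11, 12, 13]), (3187, [1, 2, 8, 11, 13]), (3188, [3, 6, 10]), (3189, [3, 6, 11, 13]), (3190, [1, 6, 7, 9, 10]), (3191, [2, 5, 9, 12]), (3194, [2, 6, 9, 13]), (3196, [1, 2,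 5, 13]), (3197, [2, 8, 10, 12, 13]), (3201, [0, 4, 5, 11]), (3202, [5, 9, 11, 12]), (3205, [0, 2, 7, 13]), (3206, [7, 10, 11, 12]), (3208, [1, 2, 5, 10]), (3211, [0, 3, 4, 11, 13]), (3212, [4, 5, 11, 12, 13]), (3213, [1, 3, 9]), (3220, [1, 5, 7, 9, 11]), (3221, [1, 2, 8, 12]), (3222, [3, 4, 5, 6, 9, 13]), (3224, [1, 2, 4, 7, 12]), (3227, [1, 3, 6, 7, 11]), (3228, [3, 4, 7, 13]), (3231, [1, 3, 6, 7, 9]), (3232, [3, 4, 8, 11, 12, 13]), (3234, [1, 7, 12, 13]), (3237, [9, 10, 12]), (3242, [3, 6, 7, 13]), (3245, [3, 5, 9, 11, 12]), (3246, [5, 6, 10, 11, 12]), (3247, [5, 6, 10, 12, 13]), (3248, [3, 4, 7, 8]), (3250, [4, 5, 6, 8, 11, 13]), (3251, [4, 5, 7, 12, 13]), (3254, [5, 6, 8, 9, 11, 12]), (3255, [5, 9, 13]), (3258, [3, 4, 13]), (3263, [3, 4, 8, 9, 10, 12]), (3265, [0, 3, 4, 6, 13]), (3267, [3, 5, 7, 11]), (3270, [0, 1, 6,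 7, 8, 10]), (3274, [0, 5, 6, 13]), (3276, [4, 5, 9, 12, 13]), (3277, [2, 6, 8, 10, 11, 13]), (3278, [1, 2, 5, 10, 12]), (3280, [0, 5, 6, 10, 11]), (3281, [4, 5, 11, 13]), (3287, [8, 9, 11, 12, 13]), (3291, [5, 9, 11, 12, 13]), (3292, [11]), (3294, [6, 9, 10]), (3298, [1, 6, 12]), (3300, [3, 6, 7, 11, 12]), (3302, [5, 6, 11]), (3307, [1, 7, 8, 11, 12]), (3308, [1, 2, 4, 6, 9]), (3312, [5, 7, 10, 12, 13]), (3314, [1, 5, 6, 8]), (3315, [0, 5, 8, 12, 13]), (3316, [3, 4, 7, 8, 9]), (3318, [1, 2, 4, 6, 9, 12]), (3319, [1, 6, 7, 11, 12, 13]), (3320, [3, 6, 9]), (3324, [10, 13]), (3325, [1, 2, 4, 11]), (3328, [3, 8, 9, 10, 12]), (3329, [3, 4, 7, 9, 10]), (3336, [3, 5, 7, 8]), (3339, [3, 4, 7, 8, 10, 11]), (3346, [0, 1, 6, 8, 9]), (3347, [7, 9, 10, 13]), (3348, [4, 5, 6, 12]), (3350, [3, 8, 11, 12]), (3355, [5, 7, 9, 10]), (3356,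 [1, 13]), (3357, [0, 2, 5, 8]), (3358, [1, 6, 7, 10, 11]), (3359, [6, 9, 10, 12]), (3360, [0, 4, 9]), (3361, [2, 5, 7, 12]), (3365, [1, 2, 3, 7, 10]), (3369, [0, 4, 11]), (3371, [0, 3, 4]), (3375, [4, 6, 7]), (3376, [4, 5, 6, 8, 10]), (3381, [1, 3, 4, 5, 8, 11]), (3385, [3, 4, 9, 11, 12, 13]), (3390, [3, 7, 8, 9]), (3391, [2, 4, 10, 12]), (3393, [2, 4, 8, 9, 10, 13]), (3394, [2, 4, 6, 8, 9]), (3399, [1, 6, 7, 13]), (3402, [3, 7, 12, 13]), (3403, [0, 10, 13]), (3405, [3, 4, 7, 8, 9, 11]), (3407, [1, 3, 7, 8]), (3409, [0, 10]), (3410, [6, 7, 10, 12]), (3413, [1]), (3414, [4, 6, 7, 8]), (3416, [5, 6, 13]), (3417, [1, 9, 10, 13]), (3419, [9, 10, 11, 13]), (3420, [4, 5, 9, 10]), (3421, [2, 9, 10]), (3423, [1, 6, 8, 9]), (3424, [0, 2, 4, 6, 10]), (3425, [2, 10, 11, 12]), (3426, [1, 3, 4, 6, 8, 10]), (3429, [2, 4, 6, 12]), (3431,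 [2, 4, 5, 8, 9, 13]), (3432, [5, 8, 11, 13]), (3433, [1, 3, 5, 6, 11]), (3438, [3, 4, 6, 8, 9, 10]), (3440, [0, 3, 8, 9]), (3442, [4, 6, 7, 8, 9]), (3443, [1, 4, 8, 10]), (3445, [1, 4, 5, 11]), (3446, [3, 4, 8, 10, 11]), (3448, [4, 5, 8, 11, 12]), (3449, [2, 8, 9, 11]), (3450, [2, 5, 9, 11]), (3451, [5, 6, 7, 9, 12]), (3453, [4, 10, 12]), (3456, [0, 1, 8, 11, 13]), (3457, [2, 3, 5, 7, 10]), (3459, [5, 6, 8, 10, 12, 13]), (3460, [5, 8, 11, 12]), (3463, [4, 7, 9, 10, 11, 13]), (3466, [3, 9, 10, 11, 12]), (3470, [1, 3, 6, 12]), (3471, [0, 3, 4, 10, 13]), (3472, [4, 5, 6, 8]), (3473, [2, 7, 8, 9]), (3475, [3, 4, 10, 12]), (3476, [2, 13]), (3478, [2, 4, 11, 13]), (3482, [5, 11, 12]), (3483, [1, 5, 12, 13]), (3485, [1, 7, 8, 9, 10]), (3486, [2, 9, 10, 11, 12]), (3487, [5, 7, 9, 10, 13]), (3490, [3, 4, 5, 6, 7, 11]), (3493, [9,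 11, 12, 13]), (3494, [5, 11]), (3496, [0, 10, 12]), (3497, [2, 3, 10, 13]), (3501, [5, 6, 8, 12]), (3503, [2, 4, 7]), (3511, [4, 5, 6, 10, 12]), (3514, [6, 10, 11, 12]), (3515, [0, 5, 6, 9, 12]), (3519, [4, 7, 8, 9, 12]), (3521, [3, 5, 10]), (3522, [1, 5, 6, 9]), (3523, [2, 5, 11, 12]), (3528, [1, 3, 4, 8, 11]), (3529, [7, 9, 10, 11]), (3530, [0, 2, 4, 5, 8]), (3534, [4, 9, 10, 13]), (3535, [1, 2, 4, 5, 8, 9]), (3537, [4, 11, 12, 13]), (3538, [3, 5, 6, 10]), (3540, [0, 3, 5, 6, 13]), (3543, [1, 5, 7, 10, 12]), (3546, [3, 6, 10, 13]), (3547, [7, 11, 12]), (3549, [0, 2, 4, 6, 12]), (3553, [3, 4, 8, 11, 13]), (3555, [0, 7, 8, 13]), (3560, [4, 5, 6]), (3561, [3, 9, 13]), (3562, [3, 5, 11]), (3563, [1, 3, 4, 7, 8]), (3565, [0, 3, 4, 5, 8, 12]), (3566, [0, 2, 4]), (3567, [3, 4, 8, 10, 11, 12]), (3568, [4, 5, 8, 12, 13]), (3569,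 [0, 5, 7, 10]), (3574, [0, 1, 8, 13]), (3575, [3, 4, 5, 6]), (3579, [3, 4, 5, 6, 7, 12]), (3584, [0, 4, 5, 6, 12]), (3585, [2, 3, 4, 7, 13]), (3588, [2, 10, 13]), (3591, [4, 6, 7, 10, 11, 12]), (3593, [1, 2, 3, 7]), (3595, [3, 4, 6, 7, 10, 13]), (3598, [2, 4, 8, 9, 12]), (3600, [3, 4, 6, 8, 11, 12, 13]), (3601, [3, 8]), (3603, [1, 7, 13]), (3604, [2, 6, 13]), (3605, [1, 2, 4, 5, 12, 13]), (3608, [2, 3, 5]), (3609, [1, 2, 4, 7, 13]), (3610, [6, 9, 10, 11, 13]), (3612, [1, 2, 7, 8]), (3614, [2, 4, 10]), (3616, [6, 7, 8, 13]), (3621, [0, 3, 4, 8, 12]), (3623, [5, 6, 7, 8, 13]), (3624, [4, 7, 11]), (3627, [0, 1, 5, 12]), (3629, [6, 8, 13]), (3630, [2, 8, 9, 10, 12]), (3631, [1, 2, 3, 5, 9]), (3635, [1, 3, 4, 9, 11, 12, 13]), (3636, [4, 5, 6, 10, 13]), (3638, [3, 4, 8, 12, 13]), (3643, [5, 6, 7]), (3645, [5, 7, 10, 12]), (3646,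 [3, 6, 7, 8, 13]), (3647, [3, 6]), (3648, [4, 5, 6, 9, 11, 12]), (3650, [6, 8, 9, 12]), (3651, [4, 7, 8, 9, 11, 12]), (3657, [3, 7, 8, 13]), (3660, [0, 1, 5, 7, 11]), (3661, [0, 3, 5, 8, 10]), (3662, [4, 5, 9, 11]), (3665, [6, 8, 12]), (3666, [5, 6, 9, 11, 12]), (3667, [3, 6, 8, 9]), (3668, [5, 9, 10, 11, 13]), (3674, [0, 1, 9, 11]), (3677, [2, 8, 9]), (3678, [2, 8, 9, 11, 12]), (3679, [0, 3, 4, 8, 9, 12]), (3680, [0, 1, 2, 3, 9]), (3681, [4, 7, 9, 10, 13]), (3682, [5, 6, 8, 10, 12]), (3684, [2, 6, 8, 13]), (3688, [3, 7, 11]), (3691, [1, 2, 4, 6, 10]), (3694, [1, 4, 6, 10]), (3695, [4, 5, 8, 10]), (3697, [1, 6, 11, 13]), (3698, [0, 2, 4, 5]), (3699, [0, 6, 10, 12]), (3705, [0, 4, 9, 12]), (3708, [3, 4, 7, 8, 12, 13]), (3709, [0, 3, 8, 11]), (3711, [3, 4, 5, 9, 12]), (3713, [3, 5, 6, 10, 11]), (3715, [0, 1, 3, 4, 11]), (3718,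 [1, 3, 6, 7, 12]), (3719, [3, 4, 5, 6, 8]), (3723, [3, 4, 6, 8, 10, 12]), (3725, [2, 5, 6, 11, 13]), (3726, [2, 11, 13]), (3729, [2, 4, 8, 9]), (3732, [3, 4, 9, 11, 13]), (3734, [2, 4, 6, 7, 10]), (3735, [3, 5, 6, 12]), (3737, [2, 8, 10, 12]), (3738, [1, 8, 12, 13]), (3739, [3, 4, 5, 11]), (3745, [5, 6, 7, 9, 11]), (3747, [2, 5, 12]), (3748, [5, 7, 8, 9]), (3750, [2, 6, 7, 12]), (3751, [1, 5, 8, 11, 13]), (3754, [2, 4, 7, 11]), (3755, [6, 7, 10, 11, 12]), (3756, [5, 6, 7, 12]), (3758, [5, 8, 10]), (3759, [3, 7, 9]), (3760, [4, 5, 7, 8, 13]), (3761, [1, 3, 9, 11]), (3762, [3, 4, 6, 8]), (3763, [3, 4, 7, 8, 12]), (3764, [2, 6, 8, 10, 13]), (3767, [4, 6, 10, 13]), (3768, [4, 5, 7, 11]), (3769, [3, 5, 7, 8, 12]), (3770, [1, 2, 4, 6, 9, 11, 12]), (3771, [5, 9, 12]), (3772, [4, 6, 12, 13]), (3774, [3, 4, 9, 10, 12, 13]), (3779,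 [2, 4, 6, 9, 10, 12]), (3780, [5, 7, 8, 12]), (3782, [5, 8, 9, 10, 13]), (3783, [4, 5, 6, 11]), (3784, [0, 2, 4, 10, 12]), (3786, [5, 9, 11, 13]), (3787, [1, 5, 8, 9]), (3789, [3, 6, 9, 10, 13]), (3790, [1, 5, 7]), (3792, [0, 4, 8, 10]), (3794, [2, 7, 10, 12]), (3796, [0, 3, 5, 6]), (3800, [3, 6, 8, 10, 11, 12]), (3803, [3, 4, 7]), (3804, [5, 9, 10, 12]), (3805, [5, 8, 12, 13]), (3806, [1, 2, 4, 6, 12]), (3807, [0, 4, 7, 12]), (3808, [6, 7, 9, 11, 13]), (3814, [4, 9, 13]), (3815, [0, 9, 13]), (3818, [1, 3, 4, 11]), (3819, [5, 6, 11, 12, 13]), (3820, [2, 4, 6]), (3822, [5, 7, 10, 13]), (3824, [4, 5, 6, 7, 9, 12]), (3825, [5, 9, 10]), (3828, [0, 8, 11]), (3829, [1, 2, 8, 9, 11]), (3830, [5, 8, 10, 11, 12, 13]), (3832, [2, 4, 6, 10]), (3833, [4, 5, 12]), (3834, [2, 7, 8, 11]), (3840, [1, 9, 11]), (3843, [4, 7, 8, 11]), (3845,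 [3, 5, 6, 8, 9]), (3848, [4, 6, 9, 13]), (3852, [4, 6, 7, 10, 13]), (3855, [0, 3, 4, 6, 10, 11]), (3858, [0, 2, 7, 8, 13]), (3863, [0, 2, 6, 12]), (3868, [0, 5, 8]), (3869, [0, 2, 6, 8, 13]), (3870, [3, 4, 6, 7, 10]), (3872, [3, 4, 6, 7, 13]), (3873, [6, 7, 11]), (3875, [3, 4, 5, 6, 7, 9, 12]), (3876, [2, 3, 7, 13]), (3877, [2, 7, 8, 9, 11, 13]), (3879, [2, 8, 11]), (3881, [0, 6, 12, 13]), (3882, [7, 9, 10, 11, 13]), (3883, [5, 7, 11]), (3886, [0, 3, 11, 12]), (3889, [4, 5, 6, 13]), (3891, [3, 4, 7, 11, 13]), (3892, [0, 5, 11, 12]), (3896, [5, 6, 8, 9, 12]), (3897, [1, 5, 7, 10, 11]), (3898, [1, 5, 6, 12, 13]), (3899, [4, 5, 6, 8, 10, 12]), (3901, [0, 2, 4, 11]), (3902, [0, 5, 6, 7, 11]), (3905, [5, 7, 8, 11]), (3908, [5, 6, 10, 13]), (3909, [4, 5, 7, 9]), (3911, [3, 4, 5, 9]), (3914, [3, 4, 9, 10, 11, 13]), (3915, [3, 5,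 8]), (3916, [3, 8, 9, 13]), (3919, [3, 6, 7, 12]), (3921, [1, 6, 9, 10, 11]), (3923, [4, 7, 10, 13]), (3926, [2, 3, 9, 13]), (3927, [1, 9]), (3928, [3, 7, 8, 11, 12]), (3929, [1, 3, 4, 9, 10, 13]), (3940, [2, 7, 8, 10, 12]), (3941, [3, 7, 9, 13]), (3942, [1, 3, 4, 9, 12]), (3944, [4, 6, 7, 8, 10, 13]), (3945, [2, 6, 9, 11, 12, 13]), (3946, [0, 1, 7]), (3950, [2, 4, 6, 8]), (3952, [2, 4, 6, 9, 10, 13]), (3955, [1, 10, 13]), (3958, [2, 4, 6, 9, 12, 13]), (3960, [7, 11]), (3961, [3, 6, 7]), (3962, [2, 7, 8, 12, 13]), (3963, [2, 12]), (3965, [2, 5, 9]), (3967, [5, 8, 9, 10, 11]), (3968, [6, 7, 9]), (3969, [3, 5, 8, 10, 12]), (3970, [3, 13]), (3973, [1, 5, 7, 11, 12, 13]), (3974, [0, 4, 7, 8, 13]), (3976, [2, 5, 8, 9, 12]), (3977, [0, 3, 4, 10]), (3982, [2, 4, 6, 8, 10, 12, 13]), (3984, [1, 6, 7, 10, 11, 13]), (3989, [2, 4, 5,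 7, 8, 12]), (3990, [1, 3, 4, 10]), (3991, [3, 4, 7, 11]), (3993, [0, 5, 8, 11]), (3995, [0, 3, 8, 12]), (3996, [4, 8, 12]), (3997, [0, 2, 6]), (3999, [5, 8]), (4000, [4, 6, 8, 11]), (4001, [0, 6, 12]), (4002, [3, 5, 9, 10]), (4003, [0, 3, 4, 5, 12]), (4004, [2, 8, 9, 12]), (4008, [4, 6, 8, 10]), (4009, [2, 3, 4, 6, 7, 13]), (4010, [1, 3, 4, 5, 6, 12]), (4016, [6, 7, 9, 13]), (4021, [3, 4, 7, 11, 12, 13]), (4024, [1, 3, 4, 9, 10]), (4030, [0, 2, 4, 5, 10]), (4033, [0, 2, 4, 6, 11, 13]), (4038, [0, 5, 11]), (4039, [2, 6, 9]), (4041, [0, 6, 13]), (4046, [3, 7, 8]), (4049, [0, 2, 7, 8]), (4050, [1, 5, 7, 11, 13]), (4051, [3, 5, 7]), (4052, [2, 4, 8, 9, 10, 11]), (4053, [1, 5, 7, 8, 11]), (4054, [1, 7, 8, 10]), (4055, [0, 8, 11, 13]), (4056, [7, 11, 12, 13]), (4057, [0, 5, 8, 13]), (4058, [0, 1, 5, 8, 11]), (4059, [2, 3, 5, 6,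 9])]),
    (1, [(1, []), (10, [0, 1, 4, 6, 7]), (185, [0, 1, 2, 3, 4, 6, 7, 8, 10, 12]), (642, [2, 3, 6, 7, 8]), (1553, [1, 4, 8, 9, 10, 13]), (2494, [0, 6, 7, 8, 9, 10, 12]), (2620, [0, 2, 3, 9, 10, 13]), (2648, [1, 2, 3, 4, 9])])]

theorem ident_ok : identOK CfsgLib.Spor.Ru.ActR.act cert sw gw CfsgLib.Spor.RuOut.levY = true := by decide +kernel

theorem sub_ok : subChainOK CfsgLib.Spor.Ru.ActR.act sw [] orbits = true := by decide +kernel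

theorem shape_ok : cert.shapeOK = true := by decide +kernel

theorem lin_ok : cert.linOK = true := Packed.linOK_of_linP cert (by decide +kernel)

theorem prod_ok : cert.p ^ cert.m ≤ (orbits.map fun e => e.2.length).prod := by decide +kernel

end CfsgLib.Spor.RuMult.P2
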